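import Groth.Agent.KFlatLib.FPLift
import Mathlib.Algebra.Category.ModuleCat.Products

/-!
# Flat finitely presented modules are finite locally free
-/

set_option autoImplicit false

universe u

open CategoryTheory CategoryTheory.Limits AlgebraicGeometry TopologicalSpace

namespace KFlatLib

/-- The stalk of a finite free module is free. -/
noncomputable def stalkFreeModIso (X : Scheme.{u}) (x : X) (q : ℕ) :
    (DerSch.stalkFunctor X x).obj (FlatMod.freeMod X q) ≅
      ModuleCat.of (X.presheaf.stalk x) (Fin q → X.presheaf.stalk x) :=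
  PreservesCoproduct.iso (DerSch.stalkFunctor X x) _ ≪≫
    Sigma.mapIso (fun _ => (DerSch.stalkFunctor X x).mapIso (structureIso X).symm ≪≫
      stalkFreeUIso x (show x ∈ (⊤ : X.Opens) from trivial)) ≪≫
    ModuleCat.coprodIsoDirectSum _ ≪≫
    (DirectSum.linearEquivFunOnFintype (X.presheaf.stalk x) (Fin q)
      fun _ => X.presheaf.stalk x).toModuleIso

/-- Composition of conjugated maps. -/
theorem conj_comp {C D : Type*} [Category* C] [Category* D] (E : C ⥤ D) {a b c : C} {f : a ⟶ b}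
    {h : b ⟶ c} {fh : a ⟶ c} (e : f ≫ h = fh) {A B K : D} {α : A ≅ E.obj a} {β : B ≅ E.obj b}
    {γ : K ≅ E.obj c} {k : A ⟶ B} {m : B ⟶ K} {n : A ⟶ K} (hk : k = α.hom ≫ E.map f ≫ β.inv)
    (hm : m = β.hom ≫ E.map h ≫ γ.inv) (hn : n = α.hom ≫ E.map fh ≫ γ.inv) : k ≫ m = n := by
  subst hk hm hn e
  simp

variable {X : Scheme.{u}}

/-- `M` is free of finite rank near `x`. -/
def FreeNear (M : X.Modules) (x : X) : Prop :=
  ∃ U : X.Opens, x ∈ U ∧ IsFinFree ((Scheme.Modules.pullback U.ι).obj M)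

theorem freeNear_of_pullback {M : X.Modules} {U : X.Opens} (y : (U : Scheme.{u}))
    (h : FreeNear ((Scheme.Modules.pullback U.ι).obj M) y) : FreeNear M (U.ι y) := by
  obtain ⟨W, hy, hW⟩ := h
  let V : X.Opens := U.ι ''ᵁ W
  have hsub : Set.range V.ι.base ⊆ Set.range (W.ι ≫ U.ι).base := by
    rintro _ ⟨z, rfl⟩
    obtain ⟨w, hw, hwz⟩ := z.2
    exact ⟨⟨w, hw⟩, hwz⟩
  let g := IsOpenImmersion.lift (W.ι ≫ U.ι) V.ι hsub
  refine ⟨V, ⟨y, hy, rfl⟩, isFinFree_of_iso ?_ (isFinFree_pull g hW)⟩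
  exact (Scheme.Modules.pullback g).mapIso ((Scheme.Modules.pullbackComp W.ι U.ι).app M) ≪≫
    (Scheme.Modules.pullbackComp g (W.ι ≫ U.ι)).app M ≪≫
    (Scheme.Modules.pullbackCongr (IsOpenImmersion.lift_fac (W.ι ≫ U.ι) V.ι hsub)).app M

theorem pullback_map_eq_of_le {U V : X.Opens} (h : U ≤ V) {M N : X.Modules} {φ ψ : M ⟶ N}
    (e : (Scheme.Modules.pullback V.ι).map φ = (Scheme.Modules.pullback V.ι).map ψ) :
    (Scheme.Modules.pullback U.ι).map φ = (Scheme.Modules.pullback U.ι).map ψ := by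
  let θ := Scheme.Modules.pullbackComp (X.homOfLE h) V.ι ≪≫
    Scheme.Modules.pullbackCongr (X.homOfLE_ι h)
  rw [← cancel_epi (θ.hom.app M), ← θ.hom.naturality φ, ← θ.hom.naturality ψ, Functor.comp_map,
    Functor.comp_map, e]

/-- A split surjection from a free module with bijective stalk is an isomorphism near the point. -/
theorem freeNear_of_section {M : X.Modules} {r : ℕ} {x : X} (s : FlatMod.freeMod X r ⟶ M)
    (ψ : M ⟶ FlatMod.freeMod X r) (h : ψ ≫ s = 𝟙 M)
    [IsIso ((DerSch.stalkFunctor X x).map s)] : FreeNear M x := by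
  have h' : (DerSch.stalkFunctor X x).map (s ≫ ψ) = (DerSch.stalkFunctor X x).map (𝟙 _) := by
    rw [← cancel_mono ((DerSch.stalkFunctor X x).map s), ← Functor.map_comp, ← Functor.map_comp,
      Category.assoc, h, Category.comp_id, Category.id_comp]
  obtain ⟨U, hU, e⟩ := exists_eq_near x _ _ h'
  let Φ := Scheme.Modules.pullback U.ι
  refine ⟨U, hU, isFinFree_of_iso (M := Φ.obj (FlatMod.freeMod X r))
    ⟨Φ.map s, Φ.map ψ, (Φ.map_comp s ψ).symm.trans (e.trans (Φ.map_id _)),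
      (Φ.map_comp ψ s).symm.trans ((congrArg Φ.map h).trans (Φ.map_id _))⟩
    (isFinFree_pull U.ι ⟨r, ⟨Iso.refl _⟩⟩)⟩

/-- A factorisation of a presentation on stalks gives freeness near the point. -/
theorem freeNear_of_factor {M : X.Modules} {p q r : ℕ}
    (g : FlatMod.freeMod X p ⟶ FlatMod.freeMod X q) (π : FlatMod.freeMod X q ⟶ M) (w : g ≫ π = 0)
    (hc : IsColimit (CokernelCofork.ofπ π w)) {x : X} (s : FlatMod.freeMod X r ⟶ M)
    (t : FlatMod.freeMod X q ⟶ FlatMod.freeMod X r) [IsIso ((DerSch.stalkFunctor X x).map s)]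
    (h : (DerSch.stalkFunctor X x).map t ≫ (DerSch.stalkFunctor X x).map s =
      (DerSch.stalkFunctor X x).map π) : FreeNear M x := by
  obtain ⟨U₁, hU₁, e₁⟩ := exists_eq_near x π (t ≫ s) (h.symm.trans (Functor.map_comp _ _ _).symm)
  have h₂ : (DerSch.stalkFunctor X x).map (g ≫ t) = (DerSch.stalkFunctor X x).map 0 := by
    rw [← cancel_mono ((DerSch.stalkFunctor X x).map s), Functor.map_comp, Category.assoc, h,
      ← Functor.map_comp, w, Functor.map_zero, Functor.map_zero, zero_comp]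
  obtain ⟨U₂, hU₂, e₂⟩ := exists_eq_near x (g ≫ t) 0 h₂
  let U := U₁ ⊓ U₂
  have hx : x ∈ U := ⟨hU₁, hU₂⟩
  let Φ := Scheme.Modules.pullback U.ι
  have f₁ : Φ.map π = Φ.map t ≫ Φ.map s :=
    (pullback_map_eq_of_le inf_le_left e₁).trans (Φ.map_comp _ _)
  have f₂ : Φ.map g ≫ Φ.map t = 0 :=
    (Φ.map_comp _ _).symm.trans ((pullback_map_eq_of_le inf_le_right e₂).trans (Φ.map_zero _ _))
  have hc' := CokernelCofork.mapIsColimit _ hc Φ
  let ψ : Φ.obj M ⟶ Φ.obj (FlatMod.freeMod X r) := hc'.desc (CokernelCofork.ofπ (Φ.map t) f₂)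
  have hψ : Φ.map π ≫ ψ = Φ.map t := hc'.fac _ WalkingParallelPair.one
  have hψs : ψ ≫ Φ.map s = 𝟙 _ := by
    refine Cofork.IsColimit.hom_ext hc' ?_
    change Φ.map π ≫ ψ ≫ Φ.map s = Φ.map π ≫ 𝟙 _
    rw [← Category.assoc, hψ, Category.comp_id, f₁]
  let e := pullFreeIso U.ι r
  have : IsIso ((DerSch.stalkFunctor X (U.ι ⟨x, hx⟩)).map s) := inferInstanceAs
    (IsIso ((DerSch.stalkFunctor X x).map s))
  have := isIso_stalk_pullback U.ι ⟨x, hx⟩ s
  have : IsIso ((DerSch.stalkFunctor _ (⟨x, hx⟩ : U)).map (e.inv ≫ Φ.map s)) := by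
    rw [Functor.map_comp]
    infer_instance
  exact freeNear_of_pullback ⟨x, hx⟩ (freeNear_of_section (e.inv ≫ Φ.map s) (ψ ≫ e.hom)
    (by rw [Category.assoc, Iso.hom_inv_id_assoc, hψs]))

/-- Transport of a presentation along isomorphisms. -/
noncomputable def isColimitConj {A B A' B' M : X.Modules} {g : A ⟶ B} {π : B ⟶ M} {w : g ≫ π = 0}
    (hc : IsColimit (CokernelCofork.ofπ π w)) (a : A' ≅ A) (b : B' ≅ B)
    (w' : (a.hom ≫ g ≫ b.inv) ≫ b.hom ≫ π = 0) :
    IsColimit (CokernelCofork.ofπ (b.hom ≫ π) w') :=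
  have h : ∀ {W : X.Modules} (h : B' ⟶ W), (a.hom ≫ g ≫ b.inv) ≫ h = 0 → g ≫ b.inv ≫ h = 0 :=
    fun h hh => by
      rw [Category.assoc, Category.assoc] at hh
      exact (cancel_epi a.hom).mp (hh.trans comp_zero.symm)
  CokernelCofork.IsColimit.ofπ _ w'
    (fun t ht => hc.desc (CokernelCofork.ofπ (b.inv ≫ t) (h t ht)))
    (fun t ht => by
      rw [Category.assoc,
        show π ≫ hc.desc (CokernelCofork.ofπ (b.inv ≫ t) (h t ht)) = b.inv ≫ t from
          hc.fac _ WalkingParallelPair.one, Iso.hom_inv_id_assoc])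
    (fun t ht m hm => Cofork.IsColimit.hom_ext hc (by
      change π ≫ m = π ≫ hc.desc (CokernelCofork.ofπ (b.inv ≫ t) (h t ht))
      rw [show π ≫ hc.desc (CokernelCofork.ofπ (b.inv ≫ t) (h t ht)) = b.inv ≫ t from
          hc.fac _ WalkingParallelPair.one, ← hm, Category.assoc, Iso.inv_hom_id_assoc]))

/-- A stalkwise isomorphism from a free module onto a finitely presented module. -/
theorem freeNear_of_stalkIso {M : X.Modules} {p q r : ℕ}
    (g : FlatMod.freeMod X p ⟶ FlatMod.freeMod X q) (π : FlatMod.freeMod X q ⟶ M) (w : g ≫ π = 0)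
    (hc : IsColimit (CokernelCofork.ofπ π w)) {x : X} (s : FlatMod.freeMod X r ⟶ M)
    [IsIso ((DerSch.stalkFunctor X x).map s)] : FreeNear M x := by
  obtain ⟨U, hU, k, hk⟩ := exists_lift_pullback x
    ((DerSch.stalkFunctor X x).map π ≫ inv ((DerSch.stalkFunctor X x).map s))
  let y : (U : Scheme.{u}) := ⟨x, hU⟩
  let Φ := Scheme.Modules.pullback U.ι
  let ep := pullFreeIso U.ι p
  let eq := pullFreeIso U.ι q
  let er := pullFreeIso U.ι r
  have hc₀ := CokernelCofork.mapIsColimit _ hc Φ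
  have : IsIso ((DerSch.stalkFunctor X (U.ι y)).map s) := inferInstanceAs
    (IsIso ((DerSch.stalkFunctor X x).map s))
  have := isIso_stalk_pullback U.ι y s
  have : IsIso ((DerSch.stalkFunctor _ y).map (er.inv ≫ Φ.map s)) := by
    rw [Functor.map_comp]
    infer_instance
  have w₀ : Φ.map g ≫ Φ.map π = 0 := by rw [← Functor.map_comp, w, Functor.map_zero]
  have w' : (ep.inv ≫ Φ.map g ≫ eq.hom) ≫ eq.inv ≫ Φ.map π = 0 := by
    rw [Category.assoc, Category.assoc, Iso.hom_inv_id_assoc, w₀, comp_zero]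
  refine freeNear_of_pullback y (freeNear_of_factor (ep.inv ≫ Φ.map g ≫ eq.hom) (eq.inv ≫ Φ.map π) w'
    (isColimitConj (g := Φ.map g) (π := Φ.map π) (w := w₀) hc₀ ep.symm eq.symm w')
    (er.inv ≫ Φ.map s) (eq.inv ≫ k ≫ er.hom) ?_)
  have key : (DerSch.stalkFunctor _ y).map k ≫ (DerSch.stalkFunctor _ y).map (Φ.map s) =
      (DerSch.stalkFunctor _ y).map (Φ.map π) :=
    conj_comp (ModuleCat.extendScalars.{u, u, u} (U.ι.stalkMap y).hom)
      ((Category.assoc _ _ _).trans ((congrArg (_ ≫ ·) (IsIso.inv_hom_id ((DerSch.stalkFunctor X x).map s))).trans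
        (Category.comp_id _))) hk (stalk_pullback_map U.ι y s) (stalk_pullback_map U.ι y π)
  rw [← Functor.map_comp, Category.assoc, Category.assoc, Iso.hom_inv_id_assoc, Functor.map_comp,
    Functor.map_comp _ k, Functor.map_comp _ eq.inv]
  exact congrArg (_ ≫ ·) key

/-- A flat module with a finite presentation is finite free near every point. -/
theorem freeNear_of_flat {M : X.Modules} (hM : FlatMod.IsFlat M) {p q : ℕ}
    (g : FlatMod.freeMod X p ⟶ FlatMod.freeMod X q) (π : FlatMod.freeMod X q ⟶ M) (w : g ≫ π = 0)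
    (hc : IsColimit (CokernelCofork.ofπ π w)) (x : X) : FreeNear M x := by
  let R := X.presheaf.stalk x
  let N := (DerSch.stalkFunctor X x).obj M
  have : Epi π := Cofork.IsColimit.epi hc
  have : Module.Finite R N := Module.Finite.of_surjective
    ((stalkFreeModIso X x q).inv ≫ (DerSch.stalkFunctor X x).map π).hom
    ((ModuleCat.epi_iff_surjective _).mp inferInstance)
  have : Module.Flat R N := hM x
  have : Module.Free R N := Module.free_of_flat_of_isLocalRing
  let b := Module.Free.chooseBasis R N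
  let b' := b.reindex (Fintype.equivFin _)
  let e := stalkFreeModIso X x _ ≪≫ b'.equivFun.symm.toModuleIso
  obtain ⟨U, hU, k, hk⟩ := exists_lift_pullback x e.hom
  let y : (U : Scheme.{u}) := ⟨x, hU⟩
  let Φ := Scheme.Modules.pullback U.ι
  let ep := pullFreeIso U.ι p
  let eq := pullFreeIso U.ι q
  have : IsIso ((DerSch.stalkFunctor _ y).map k) := by
    rw [hk]
    infer_instance
  have : IsIso ((DerSch.stalkFunctor _ y).map ((pullFreeIso U.ι _).inv ≫ k)) := by
    rw [Functor.map_comp]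
    infer_instance
  have w₀ : Φ.map g ≫ Φ.map π = 0 := by rw [← Functor.map_comp, w, Functor.map_zero]
  have w' : (ep.inv ≫ Φ.map g ≫ eq.hom) ≫ eq.inv ≫ Φ.map π = 0 := by
    rw [Category.assoc, Category.assoc, Iso.hom_inv_id_assoc, w₀, comp_zero]
  exact freeNear_of_pullback y (freeNear_of_stalkIso (ep.inv ≫ Φ.map g ≫ eq.hom) (eq.inv ≫ Φ.map π) w'
    (isColimitConj (g := Φ.map g) (π := Φ.map π) (w := w₀)
      (CokernelCofork.mapIsColimit _ hc Φ) ep.symm eq.symm w')
    ((pullFreeIso U.ι _).inv ≫ k))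

theorem isFinLocFree_of_freeNear {M : X.Modules} (h : ∀ x, FreeNear M x) :
    FlatMod.IsFinLocFree M := fun x => by
  obtain ⟨U, hU, n, ⟨e⟩⟩ := h x
  exact ⟨U, n, hU, ⟨(Scheme.Modules.restrictFunctorIsoPullback U.ι).app M ≪≫ e⟩⟩

end KFlatLib
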