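import Groth.Agent.KFlatLib.TorAmpMore
import Groth.Prelude.Def_CxOX
import Groth.Agent.QCohLib.Gen
import Mathlib.Algebra.Category.ModuleCat.Sheaf.PullbackFree

/-!
# Pullback of strictly perfect and perfect objects
-/

set_option autoImplicit false

universe u

open Opposite CategoryTheory CategoryTheory.Limits AlgebraicGeometry TopologicalSpace HomologicalComplex

attribute [local instance] HasDerivedCategory.standard

namespace KFlatLib

variable {X Y : Scheme.{u}} (f : X ⟶ Y)

instance final_opensMap : (Opens.map f.base).Final :=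
  have : (Functor.fromPUnit.{0} (⊤ : Y.Opens)).Final :=
    Functor.final_fromPUnit_of_isTerminal isTerminalTop
  have : (Functor.fromPUnit.{0} ((Opens.map f.base).obj (⊤ : Y.Opens))).Final :=
    Functor.final_fromPUnit_of_isTerminal
      (IsTerminal.ofUniqueHom (fun _ => homOfLE (fun _ _ => trivial)) (fun _ _ => rfl))
  have : ((Functor.fromPUnit.{0} (⊤ : Y.Opens)) ⋙ Opens.map f.base).Final :=
    Functor.final_of_natIso (F := Functor.fromPUnit.{0} ((Opens.map f.base).obj (⊤ : Y.Opens)))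
      (Discrete.natIso (fun _ => Iso.refl _))
  Functor.final_of_final_comp (Functor.fromPUnit.{0} (⊤ : Y.Opens)) (Opens.map f.base)

/-- `f^* O_Y ≅ O_X`. -/
noncomputable def pullUnitIso :
    (Scheme.Modules.pullback f).obj (Coh.structureModule Y) ≅ Coh.structureModule X :=
  @asIso (SheafOfModules X.ringCatSheaf) _ _ _
    (SheafOfModules.pullbackObjUnitToUnit f.toRingCatSheafHom)
    (SheafOfModules.instIsIsoPullbackObjUnitToUnitOfFinal f.toRingCatSheafHom)

/-- `f^*` of a free module is free. -/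
noncomputable def pullFreeIso (n : ℕ) :
    (Scheme.Modules.pullback f).obj (FlatMod.freeMod Y n) ≅ FlatMod.freeMod X n :=
  PreservesCoproduct.iso (Scheme.Modules.pullback f) _ ≪≫ Sigma.mapIso fun _ => pullUnitIso f

/-- Restriction of a pullback is the pullback of the restriction. -/
noncomputable def restrictPullIso (V : Y.Opens) :
    Scheme.Modules.pullback f ⋙ Scheme.Modules.restrictFunctor (f ⁻¹ᵁ V).ι ≅
      Scheme.Modules.restrictFunctor V.ι ⋙ Scheme.Modules.pullback (f ∣_ V) :=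
  Functor.isoWhiskerLeft _ (Scheme.Modules.restrictFunctorIsoPullback (f ⁻¹ᵁ V).ι) ≪≫
    Scheme.Modules.pullbackComp (f ⁻¹ᵁ V).ι f ≪≫
    Scheme.Modules.pullbackCongr (morphismRestrict_ι f V).symm ≪≫
    (Scheme.Modules.pullbackComp (f ∣_ V) V.ι).symm ≪≫
    Functor.isoWhiskerRight (Scheme.Modules.restrictFunctorIsoPullback V.ι).symm _

theorem isFinLocFree_pull {M : Y.Modules} (hM : FlatMod.IsFinLocFree M) :
    FlatMod.IsFinLocFree ((Scheme.Modules.pullback f).obj M) := fun x => by
  obtain ⟨U, n, hU, ⟨e⟩⟩ := hM (f x)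
  exact ⟨f ⁻¹ᵁ U, n, hU, ⟨(restrictPullIso f U).app M ≪≫
    (Scheme.Modules.pullback (f ∣_ U)).mapIso e ≪≫ pullFreeIso (f ∣_ U) n⟩⟩

theorem isStrictlyPerfect_pull {E : CochainComplex Y.Modules ℤ} (hE : DCoh.IsStrictlyPerfect E) :
    DCoh.IsStrictlyPerfect ((pullCx f).obj E) := by
  obtain ⟨⟨a, b, h⟩, hfree⟩ := hE
  exact ⟨⟨a, b, fun i hi => (Scheme.Modules.pullback f).map_isZero (h i hi)⟩,
    fun i => isFinLocFree_pull f (hfree i)⟩

/-- Maps out of `O_Z` are global sections. -/
noncomputable def unitSecEquiv {Z : Scheme.{u}} (M : Z.Modules) :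
    (Coh.structureModule Z ⟶ M) ≃ Γ(M, ⊤) where
  toFun φ := (M.unitHomEquiv φ).val (op ⊤)
  invFun := QCohLib.unitHom M
  left_inv φ := by
    apply M.unitHomEquiv.injective
    refine Eq.trans (Equiv.apply_symm_apply _ _) ?_
    exact Subtype.ext (funext fun V => (QCohLib.sections_val M (M.unitHomEquiv φ) V.unop).symm)
  right_inv x := by
    refine Eq.trans (congrArg (fun σ : M.val.sections => σ.val (op ⊤))
      (Equiv.apply_symm_apply M.unitHomEquiv _)) ?_
    exact QCohLib.toSections_top M x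

theorem unitSecEquiv_comp {Z : Scheme.{u}} {M N : Z.Modules} (φ : Coh.structureModule Z ⟶ M)
    (p : M ⟶ N) : unitSecEquiv N (φ ≫ p) = p.app ⊤ (unitSecEquiv M φ) :=
  congrArg (fun σ : N.val.sections => σ.val (op ⊤)) (M.unitHomEquiv_comp_apply φ p)

/-- `O_Z` is the free module on `Z`. -/
noncomputable def structureIso (Z : Scheme.{u}) : freeU (⊤ : Z.Opens) ≅ Coh.structureModule Z :=
  ModSiteLib.isoOfHomEquiv (fun M => (freeUEquiv ⊤ M).trans (unitSecEquiv M).symm) fun a p => by
    apply (unitSecEquiv _).injective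
    rw [unitSecEquiv_comp, Equiv.trans_apply, Equiv.trans_apply, Equiv.apply_symm_apply,
      Equiv.apply_symm_apply, freeUEquiv_comp]

theorem flat_structureModule (Z : Scheme.{u}) : FlatMod.IsFlat (Coh.structureModule Z) :=
  flat_of_iso (structureIso Z) fun z => by
    have : Projective ((DerSch.stalkFunctor Z z).obj (freeU (⊤ : Z.Opens))) :=
      projective_stalk_freeU ⊤ z
    have : Module.Projective (Z.presheaf.stalk z)
        ((DerSch.stalkFunctor Z z).obj (freeU (⊤ : Z.Opens))) :=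
      (IsProjective.iff_projective (R := Z.presheaf.stalk z) (P := _)).mpr inferInstance
    exact inferInstanceAs (Module.Flat (Z.presheaf.stalk z)
      ((DerSch.stalkFunctor Z z).obj (freeU (⊤ : Z.Opens))))

theorem projective_stalk_structureModule (Z : Scheme.{u}) (z : Z) :
    Projective ((DerSch.stalkFunctor Z z).obj (Coh.structureModule Z)) :=
  have : Projective ((DerSch.stalkFunctor Z z).obj (freeU (⊤ : Z.Opens))) :=
    projective_stalk_freeU ⊤ z
  Projective.of_iso ((DerSch.stalkFunctor Z z).mapIso (structureIso Z)) inferInstance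

theorem flat_freeMod (Z : Scheme.{u}) (n : ℕ) : FlatMod.IsFlat (FlatMod.freeMod Z n) := fun z => by
  have : Projective ((DerSch.stalkFunctor Z z).obj (Coh.structureModule Z)) :=
    projective_stalk_structureModule Z z
  have : Projective (∐ fun _ : Fin n => (DerSch.stalkFunctor Z z).obj (Coh.structureModule Z)) :=
    ⟨fun f e _ => ⟨Sigma.desc fun j => Projective.factorThru (Sigma.ι (fun _ : Fin n =>
      (DerSch.stalkFunctor Z z).obj (Coh.structureModule Z)) j ≫ f) e,
      Sigma.hom_ext _ _ fun j => by rw [Sigma.ι_desc_assoc, Projective.factorThru_comp]⟩⟩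
  have : Projective ((DerSch.stalkFunctor Z z).obj (FlatMod.freeMod Z n)) :=
    Projective.of_iso (PreservesCoproduct.iso (DerSch.stalkFunctor Z z) _).symm inferInstance
  have : Module.Projective (Z.presheaf.stalk z)
      ((DerSch.stalkFunctor Z z).obj (FlatMod.freeMod Z n)) :=
    (IsProjective.iff_projective (R := Z.presheaf.stalk z) (P := _)).mpr this
  exact inferInstanceAs (Module.Flat (Z.presheaf.stalk z)
    ((DerSch.stalkFunctor Z z).obj (FlatMod.freeMod Z n)))

/-- Finite locally free modules are flat. -/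
theorem isFlat_of_isFinLocFree {M : X.Modules} (h : FlatMod.IsFinLocFree M) :
    FlatMod.IsFlat M := fun x => by
  obtain ⟨U, n, hU, ⟨e⟩⟩ := h x
  obtain ⟨p, rfl⟩ : ∃ p : (U : Scheme.{u}), U.ι p = x := ⟨⟨x, hU⟩, rfl⟩
  have h1 : FlatMod.IsFlat ((Scheme.Modules.pullback U.ι).obj M) :=
    flat_of_iso (e.symm ≪≫ (Scheme.Modules.restrictFunctorIsoPullback U.ι).app M) (flat_freeMod _ n)
  let φ := (U.ι.stalkMap p).hom
  have hφ : IsIso (U.ι.stalkMap p) := inferInstance
  let N := (DerSch.stalkFunctor X (U.ι p)).obj M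
  let ψ := (inv (U.ι.stalkMap p)).hom
  have h2 : Module.Flat _ ((ModuleCat.extendScalars φ).obj N) :=
    have : Module.Flat ((U : Scheme.{u}).presheaf.stalk p)
        ((Scheme.Modules.pullback U.ι ⋙ DerSch.stalkFunctor (U : Scheme.{u}) p).obj M) := h1 p
    Module.Flat.of_linearEquiv ((stalkPullIso U.ι p).app M).toLinearEquiv.symm
  have := h2
  have h3 : Module.Flat _ ((ModuleCat.extendScalars φ ⋙ ModuleCat.extendScalars ψ).obj N) :=
    flat_extendScalars ψ ((ModuleCat.extendScalars φ).obj N)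
  exact Module.Flat.of_linearEquiv
    (((ModuleCat.extendScalarsComp φ ψ).app N).symm ≪≫
      eqToIso (congrArg (fun g => (ModuleCat.extendScalars g).obj N)
        (show ψ.comp φ = RingHom.id _ by
          rw [← CommRingCat.hom_comp, IsIso.hom_inv_id, CommRingCat.hom_id])) ≪≫
      (ModuleCat.extendScalarsId _).app N).toLinearEquiv.symm

/-- Isomorphic objects of the derived category have isomorphic restrictions. -/
noncomputable def restrictQIso (V : X.Opens) {F G : CochainComplex X.Modules ℤ}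
    (e : DCoh.toD X F ≅ DCoh.toD X G) :
    DerivedCategory.Q.obj ((DCoh.restrictCx V).obj F) ≅
      DerivedCategory.Q.obj ((DCoh.restrictCx V).obj G) :=
  (((Scheme.Modules.restrictFunctor V.ι).mapDerivedCategoryFactors).app F).symm ≪≫
    (Scheme.Modules.restrictFunctor V.ι).mapDerivedCategory.mapIso e ≪≫
    ((Scheme.Modules.restrictFunctor V.ι).mapDerivedCategoryFactors).app G

/-- Restriction of a pulled back complex. -/
noncomputable def restrictPullCxIso (V : Y.Opens) (F : CochainComplex Y.Modules ℤ) :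
    (DCoh.restrictCx (f ⁻¹ᵁ V)).obj ((pullCx f).obj F) ≅
      (pullCx (f ∣_ V)).obj ((DCoh.restrictCx V).obj F) :=
  Hom.isoOfComponents (fun n => (restrictPullIso f V).app (F.X n))
    (fun i j _ => ((restrictPullIso f V).hom.naturality (F.d i j)).symm)

theorem isKFlat_cx_of_iso {K K' : CochainComplex X.Modules ℤ} (e : K ≅ K') (h : DCoh.IsKFlat K) :
    DCoh.IsKFlat K' :=
  isKFlat_of_stalks _ fun x => isKFlat_ring_of_iso ((stalkCx X x).mapIso e) (stalks_isKFlat h x)

theorem isKFlat_restrict (V : X.Opens) {K : CochainComplex X.Modules ℤ} (h : DCoh.IsKFlat K) :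
    DCoh.IsKFlat ((DCoh.restrictCx V).obj K) :=
  isKFlat_cx_of_iso (K := (pullCx V.ι).obj K)
    (Hom.isoOfComponents
      (fun n => ((Scheme.Modules.restrictFunctorIsoPullback V.ι).app (K.X n)).symm)
      (fun i j _ => ((Scheme.Modules.restrictFunctorIsoPullback V.ι).inv.naturality (K.d i j)).symm))
    (isKFlat_pull V.ι h)

theorem isKFlat_of_isStrictlyPerfect {E : CochainComplex X.Modules ℤ}
    (hE : DCoh.IsStrictlyPerfect E) : DCoh.IsKFlat E := by
  obtain ⟨⟨a, b, h⟩, hf⟩ := hE
  exact isKFlat_of_bounded_flat_mod E b (fun i hi => h i (Or.inr hi))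
    fun i => isFlat_of_isFinLocFree (hf i)

/-- Restriction of a derived pullback to the preimage of an open. -/
noncomputable def restrictLpullIso [DCoh.HasLpull f] (V : Y.Opens) [DCoh.HasLpull (f ∣_ V)]
    (F : CochainComplex X.Modules ℤ) (P : CochainComplex Y.Modules ℤ) (hP : DCoh.IsKFlat P)
    (e : DCoh.toD X F ≅ (DCoh.Lpull f).obj (DCoh.toD Y P)) :
    DerivedCategory.Q.obj ((DCoh.restrictCx (f ⁻¹ᵁ V)).obj F) ≅
      (DCoh.Lpull (f ∣_ V)).obj (DCoh.toD _ ((DCoh.restrictCx V).obj P)) :=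
  restrictQIso (f ⁻¹ᵁ V) (e ≪≫ lpullObjIso f P hP) ≪≫
    DerivedCategory.Q.mapIso (restrictPullCxIso f V P) ≪≫
    (lpullObjIso (f ∣_ V) _ (isKFlat_restrict V hP)).symm

/-- The derived pullback of a perfect object is perfect. -/
theorem isPerfect_lpull [DCoh.HasLpull f] (E : DCoh.D Y) (hE : DCoh.IsPerfect E) :
    DCoh.IsPerfect ((DCoh.Lpull f).obj E) := fun x => by
  obtain ⟨V, hxV, hV⟩ := hE (f x)
  obtain ⟨P, hP, ⟨eP⟩⟩ := exists_good_rep E
  obtain ⟨E0, hE0, ⟨e0⟩⟩ := hV P ⟨eP⟩
  have := hasLpull (f ∣_ V)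
  refine ⟨f ⁻¹ᵁ V, hxV, fun F hF => ⟨(pullCx (f ∣_ V)).obj E0, isStrictlyPerfect_pull _ hE0, ?_⟩⟩
  obtain ⟨eF⟩ := hF
  exact ⟨restrictLpullIso f V F P hP.1 (eF ≪≫ (DCoh.Lpull f).mapIso eP.symm) ≪≫
    (DCoh.Lpull (f ∣_ V)).mapIso e0 ≪≫
    lpullObjIso (f ∣_ V) E0 (isKFlat_of_isStrictlyPerfect hE0)⟩

end KFlatLib
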