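import Groth.Agent.KFlatLib.TorAmp
import Mathlib.RingTheory.Flat.Stability
import Mathlib.Algebra.Homology.Embedding.CochainComplex

/-!
# Tor amplitude: pullback, direct summands, representatives
-/

set_option autoImplicit false

universe u

open CategoryTheory CategoryTheory.Limits AlgebraicGeometry MonoidalCategory HomologicalComplex

attribute [local instance] HasDerivedCategory.standard

namespace KFlatLib

variable {X Y : Scheme.{u}}

theorem flat_extendScalars {A B : Type u} [CommRing A] [CommRing B] (φ : A →+* B)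
    (M : ModuleCat.{u} A) [Module.Flat A M] :
    Module.Flat B ((ModuleCat.extendScalars.{u, u, u} φ).obj M) :=
  let := φ.toAlgebra
  Module.Flat.baseChange A B M

theorem flat_pullback (f : X ⟶ Y) {M : Y.Modules} (hM : FlatMod.IsFlat M) :
    FlatMod.IsFlat ((Scheme.Modules.pullback f).obj M) := fun x => by
  have : Module.Flat (Y.presheaf.stalk (f x)) ((DerSch.stalkFunctor Y (f x)).obj M) := hM (f x)
  have := flat_extendScalars (f.stalkMap x).hom ((DerSch.stalkFunctor Y (f x)).obj M)
  have h : Module.Flat (X.presheaf.stalk x) ((DerSch.stalkFunctor Y (f x) ⋙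
      ModuleCat.extendScalars.{u, u, u} (f.stalkMap x).hom).obj M) := this
  exact Module.Flat.of_linearEquiv ((stalkPullIso f x).app M).toLinearEquiv

theorem flatAmplitude_lpull (f : X ⟶ Y) [DCoh.HasLpull f] {K : DCoh.D Y} {a b : ℤ}
    (h : DCoh.HasFlatAmplitudeIn a b K) : DCoh.HasFlatAmplitudeIn a b ((DCoh.Lpull f).obj K) := by
  obtain ⟨E, hE, hflat, ⟨e⟩⟩ := h
  exact ⟨(pullCx f).obj E, fun i hi => (Scheme.Modules.pullback f).map_isZero (hE i hi),
    fun i => flat_pullback f (hflat i),
    ⟨(lpullObjIso f E (isKFlat_of_bounded_flat_mod E b (fun j hj => hE j (Or.inr hj)) hflat)).symm ≪≫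
      (DCoh.Lpull f).mapIso e⟩⟩

theorem isZero_of_retract {A : Type*} [Category* A] [HasZeroMorphisms A] {P Q : A} (i : P ⟶ Q)
    (r : Q ⟶ P) (h : i ≫ r = 𝟙 P) (hQ : IsZero Q) : IsZero P :=
  (IsZero.iff_id_eq_zero P).mpr (by rw [← h, hQ.eq_of_tgt i 0, zero_comp])

theorem torAmplitude_of_retract {K L : DCoh.D X} (i : K ⟶ L) (r : L ⟶ K) (h : i ≫ r = 𝟙 K)
    {a b : ℤ} (hL : DCoh.HasTorAmplitudeIn a b L) : DCoh.HasTorAmplitudeIn a b K := by
  intro F hF n hn
  let G := DCoh.LTensorMod F ⋙ DerivedCategory.homologyFunctor X.Modules n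
  exact isZero_of_retract (G.map i) (G.map r)
    ((G.map_comp i r).symm.trans ((congrArg G.map h).trans (G.map_id K))) (hL F n hn)

/-- Every object of `D(O_X)` has a K-flat representative with flat terms. -/
theorem exists_good_rep (K : DCoh.D X) :
    ∃ P : CochainComplex X.Modules ℤ, Good P ∧ Nonempty (DCoh.toD X P ≅ K) := by
  have := quasiIso_resψ (DerivedCategory.Q.objPreimage K)
  have : IsIso (DerivedCategory.Q.map ((resψ X).app (DerivedCategory.Q.objPreimage K))) := inferInstance
  exact ⟨_, good_resP _, ⟨asIso (DerivedCategory.Q.map ((resψ X).app (DerivedCategory.Q.objPreimage K))) ≪≫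
    DerivedCategory.Q.objObjPreimageIso K⟩⟩

/-- Tor amplitude bounds the cohomology sheaves. -/
theorem isZero_HD_of_torAmplitude {K : DCoh.D X} {a b : ℤ} (h : DCoh.HasTorAmplitudeIn a b K)
    {i : ℤ} (hi : i < a ∨ b < i) : IsZero (DCoh.HD K i) := by
  obtain ⟨P, hP, ⟨e⟩⟩ := exists_good_rep K
  rw [isZero_HD_iff e, isZero_homology_iff]
  intro x
  refine (isZero_tensorN_of_lTensor hP.1 e i (fun G _ => h G i hi) x (𝟙_ _)).of_iso ?_
  exact ((homologyFunctor _ _ i).mapIso (Hom.isoOfComponents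
    (fun n => ρ_ (((stalkCx X x).obj P).X n))
    (fun p q _ => (rightUnitor_naturality (((stalkCx X x).obj P).d p q)).symm))).symm

/-- Tor amplitude gives a flat representative in the same interval. -/
theorem flatAmplitude_of_torAmplitude {K : DCoh.D X} {a b : ℤ} (hab : a ≤ b)
    (h : DCoh.HasTorAmplitudeIn a b K) : DCoh.HasFlatAmplitudeIn a b K := by
  obtain ⟨K₀, ⟨e₀⟩⟩ : ∃ K₀, Nonempty (DCoh.toD X K₀ ≅ K) :=
    ⟨_, ⟨DerivedCategory.Q.objObjPreimageIso K⟩⟩
  have hLE : K₀.IsLE b := by
    rw [CochainComplex.isLE_iff]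
    intro i hi
    rw [exactAt_iff_isZero_homology, ← isZero_HD_iff e₀]
    exact isZero_HD_of_torAmplitude h (Or.inr hi)
  have : QuasiIso (K₀.ιTruncLE b) := (CochainComplex.quasiIso_ιTruncLE_iff K₀ b).mpr hLE
  obtain ⟨L, α, hb, hflat, hα⟩ := exists_flat_resolution (K₀.truncLE b) b
    (fun i hi => CochainComplex.isZero_of_isStrictlyLE _ b i hi)
  have : IsIso (DerivedCategory.Q.map (α ≫ K₀.ιTruncLE b)) := inferInstance
  let e : DCoh.toD X L ≅ K := asIso (DerivedCategory.Q.map (α ≫ K₀.ιTruncLE b)) ≪≫ e₀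
  have hL := isKFlat_of_bounded_flat_mod L b hb hflat
  have hc := flat_cokernel hL e a (hflat a) fun G _ => h G (a - 1) (Or.inl (by omega))
  have hGE : L.IsGE a := by
    rw [CochainComplex.isGE_iff]
    intro i hi
    rw [exactAt_iff_isZero_homology, ← isZero_HD_iff e]
    exact isZero_HD_of_torAmplitude h (Or.inl hi)
  have : QuasiIso (L.πTruncGE a) := (CochainComplex.quasiIso_πTruncGE_iff L a).mpr hGE
  have : IsIso (DerivedCategory.Q.map (L.πTruncGE a)) := inferInstance
  refine ⟨L.truncGE a, fun i hi => ?_, fun i => ?_,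
    ⟨(asIso (DerivedCategory.Q.map (L.πTruncGE a))).symm ≪≫ e⟩⟩
  · rcases hi with hi | hi
    · exact CochainComplex.isZero_of_isStrictlyGE (L.truncGE a) a i hi
    · exact (hb i hi).of_iso (L.truncGEXIso a i (by omega))
  · rcases lt_trichotomy i a with hi | hi | hi
    · exact flat_of_isZero (CochainComplex.isZero_of_isStrictlyGE (L.truncGE a) a i hi)
    · subst hi
      exact flat_of_iso (((L.opcyclesIsCokernel (i - 1) i (by simp)).coconePointUniqueUpToIso
        (colimit.isColimit _)).symm ≪≫ (L.truncGEXIsoOpcycles i).symm) hc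
    · exact flat_of_iso (L.truncGEXIso a i hi).symm (hflat i)

end KFlatLib
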