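import Groth.Agent.KFlatLib.PullTensor
import Groth.Agent.KFlatLib.TorAmpMore

/-!
# Derived pullback of derived tensor products
-/

set_option autoImplicit false

universe u

open CategoryTheory CategoryTheory.Limits AlgebraicGeometry MonoidalCategory HomologicalComplex

attribute [local instance] HasDerivedCategory.standard

namespace KFlatLib

theorem isKFlat_tensor_ring {R : Type u} [CommRing R] {K L : CochainComplex (ModuleCat.{u} R) ℤ}
    (hK : DRing.IsKFlat R K) (hL : DRing.IsKFlat R L) : DRing.IsKFlat R (K ⊗ L) := fun M hM =>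
  acyclic_of_iso (α_ M K L) (hL _ (hK M hM))

variable {X : Scheme.{u}}

theorem isKFlat_tensorCx {K L : CochainComplex X.Modules ℤ} (hK : DCoh.IsKFlat K)
    (hL : DCoh.IsKFlat L) : DCoh.IsKFlat (((DCoh.tensorCx (X := X)).obj K).obj L) :=
  isKFlat_of_stalks _ fun x => isKFlat_ring_of_iso (stalkTensorCxIso x K L)
    (isKFlat_tensor_ring (stalks_isKFlat hK x) (stalks_isKFlat hL x))

variable {Y : Scheme.{u}} (f : X ⟶ Y)

/-- `f^* Tot(K ⊗ L) ≅ Tot(f^* K ⊗ f^* L)`. -/
noncomputable def pullTensorCxIso (K L : CochainComplex Y.Modules ℤ) :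
    ((DCoh.tensorCx (X := X)).obj ((pullCx f).obj K)).obj ((pullCx f).obj L) ≅
      (pullCx f).obj (((DCoh.tensorCx (X := Y)).obj K).obj L) :=
  have : PreservesColimitsOfSize.{0, 0} (Scheme.Modules.pullback f) :=
    (Scheme.Modules.pullbackPushforwardAdjunction f).leftAdjoint_preservesColimits
  totalMapIso (DCoh.tensorBi (X := Y)) (DCoh.tensorBi (X := X))
    (Scheme.Modules.pullback f) (Scheme.Modules.pullback f) (Scheme.Modules.pullback f)
    (fun M N => (asIso (pullθ f M N)).symm)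
    (fun a N => (Iso.comp_inv_eq (asIso (pullθ f _ N))).mpr
      (((congrArg (_ ≫ ·) (pullθ_natural_left f a N)).trans
        (Iso.inv_hom_id_assoc (asIso (pullθ f _ N)) _)).symm.trans (Category.assoc _ _ _).symm))
    (fun M {_ _} b => (Iso.comp_inv_eq (asIso (pullθ f M _))).mpr
      (((congrArg (_ ≫ ·) (pullθ_natural_right f M b)).trans
        (Iso.inv_hom_id_assoc (asIso (pullθ f M _)) _)).symm.trans (Category.assoc _ _ _).symm))
    K L

/-- `Lf^*(K ⊗^L L) ≅ Lf^* K ⊗^L f^* L` for K-flat `L`. -/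
theorem lpull_lTensorCx [DCoh.HasLpull f] (L : CochainComplex Y.Modules ℤ) (hL : DCoh.IsKFlat L)
    [DCoh.HasLTensorCx L] [DCoh.HasLTensorCx ((pullCx f).obj L)] (K : DCoh.D Y) :
    Nonempty ((DCoh.Lpull f).obj ((DCoh.LTensorCx L).obj K) ≅
      (DCoh.LTensorCx ((pullCx f).obj L)).obj ((DCoh.Lpull f).obj K)) := by
  obtain ⟨P, hP, ⟨e⟩⟩ := exists_good_rep K
  obtain ⟨e₁⟩ := exists_lTensorCxObjIso L P hP.1
  obtain ⟨e₂⟩ := exists_lTensorCxObjIso ((pullCx f).obj L) ((pullCx f).obj P) (isKFlat_pull f hP.1)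
  exact ⟨(DCoh.Lpull f).mapIso ((DCoh.LTensorCx L).mapIso e.symm ≪≫ e₁) ≪≫
    lpullObjIso f _ (isKFlat_tensorCx hP.1 hL) ≪≫
    DerivedCategory.Q.mapIso (pullTensorCxIso f P L).symm ≪≫ e₂.symm ≪≫
    (DCoh.LTensorCx ((pullCx f).obj L)).mapIso
      ((lpullObjIso f P hP.1).symm ≪≫ (DCoh.Lpull f).mapIso e)⟩

end KFlatLib
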