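import Groth.Agent.KFlatLib.PerfectPull
import Groth.Agent.KFlatLib.LpullTensor
import Mathlib.CategoryTheory.Limits.Shapes.Biproducts

/-!
# Bounded complexes of finite free modules as local models of perfect objects
-/

set_option autoImplicit false

universe u w v

open CategoryTheory CategoryTheory.Limits AlgebraicGeometry HomologicalComplex MonoidalCategory

attribute [local instance] HasDerivedCategory.standard HasFiniteBiproducts.of_hasFiniteCoproducts

namespace KFlatLib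

section Coprod

variable {C : Type w} [Category.{v} C] [HasZeroMorphisms C] [HasZeroObject C]

open scoped Classical in
/-- A coproduct only depends on the nonzero terms. -/
noncomputable def sigmaSupportIso {β : Type} (f : β → C) (s : Set β)
    (hs : ∀ b, b ∉ s → IsZero (f b)) [HasCoproduct f] [HasCoproduct fun b : s => f b] :
    ∐ f ≅ ∐ fun b : s => f b where
  hom := Sigma.desc fun b => if h : b ∈ s then Sigma.ι (fun b : s => f b) ⟨b, h⟩ else 0
  inv := Sigma.desc fun b => Sigma.ι f b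
  hom_inv_id := Sigma.hom_ext _ _ fun b => by
    by_cases h : b ∈ s
    · simp [h]
    · exact (hs b h).eq_of_src _ _
  inv_hom_id := Sigma.hom_ext _ _ fun b => by simp [b.2]

end Coprod

variable {X Y : Scheme.{u}}

/-- `M` is free of finite rank. -/
def IsFinFree (M : X.Modules) : Prop := ∃ n : ℕ, Nonempty (M ≅ FlatMod.freeMod X n)

theorem isFinFree_of_iso {M N : X.Modules} (e : M ≅ N) (h : IsFinFree M) : IsFinFree N :=
  h.imp fun _ ⟨i⟩ => ⟨e.symm ≪≫ i⟩

theorem isFinFree_of_isZero {M : X.Modules} (h : IsZero M) : IsFinFree M := by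
  refine ⟨0, ⟨h.iso ?_⟩⟩
  exact (IsZero.iff_id_eq_zero _).mpr (Sigma.hom_ext _ _ fun j => j.elim0)

theorem isFinFree_pull (f : X ⟶ Y) {M : Y.Modules} (h : IsFinFree M) :
    IsFinFree ((Scheme.Modules.pullback f).obj M) :=
  h.imp fun n ⟨i⟩ => ⟨(Scheme.Modules.pullback f).mapIso i ≪≫ pullFreeIso f n⟩

theorem isFinFree_sigma {β : Type} [Finite β] (M : β → X.Modules) (h : ∀ b, IsFinFree (M b)) :
    IsFinFree (∐ M) := by
  choose n hn using h
  let e := fun b => (hn b).some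
  obtain ⟨N, ⟨eN⟩⟩ := Finite.exists_equiv_fin (Σ b, Fin (n b))
  exact ⟨N, ⟨Sigma.mapIso e ≪≫
    sigmaSigmaIso (fun b => Fin (n b)) (fun _ _ => Coh.structureModule X) ≪≫
    Sigma.whiskerEquiv (f := fun _ : (Σ b, Fin (n b)) => Coh.structureModule X)
      (g := fun _ : Fin N => Coh.structureModule X) eN (fun _ => Iso.refl _)⟩⟩

/-- `O ⊗ N ≅ N`. -/
noncomputable def tensUnitIso (N : X.Modules) : tens (Coh.structureModule X) N ≅ N :=
  DCoh.shP.mapIso (λ_ (DCoh.toP.obj N)) ≪≫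
    (asIso (PresheafOfModules.sheafificationAdjunction.{u} (R := X.ringCatSheaf)
      (𝟙 X.ringCatSheaf.obj)).counit).app N

instance additive_tensorBi_flip (N : X.Modules) :
    ((DCoh.tensorBi (X := X)).flip.obj N).Additive where
  map_add {_ _ _ _} := congrArg (fun t => NatTrans.app t N) ((DCoh.tensorBi (X := X)).map_add)

theorem isFinFree_tens {M N : X.Modules} (hM : IsFinFree M) (hN : IsFinFree N) :
    IsFinFree (tens M N) := by
  obtain ⟨n, ⟨e⟩⟩ := hM
  let G := (DCoh.tensorBi (X := X)).flip.obj N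
  refine isFinFree_of_iso ?_ (isFinFree_sigma (fun _ : Fin n => N) fun _ => hN)
  exact (biproduct.isoCoproduct fun _ : Fin n => N).symm ≪≫
    biproduct.mapIso (fun _ => (tensUnitIso N).symm) ≪≫
    (G.mapBiproduct fun _ : Fin n => Coh.structureModule X).symm ≪≫
    G.mapIso (biproduct.isoCoproduct _) ≪≫ G.mapIso e.symm

/-- A bounded complex of finite free modules. -/
def FreeBdd (E : CochainComplex X.Modules ℤ) : Prop :=
  (∃ a b : ℤ, DCoh.VanishesOutside E a b) ∧ ∀ i, IsFinFree (E.X i)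

theorem freeBdd_pull (f : X ⟶ Y) {E : CochainComplex Y.Modules ℤ} (h : FreeBdd E) :
    FreeBdd ((pullCx f).obj E) := by
  obtain ⟨⟨a, b, hv⟩, hf⟩ := h
  exact ⟨⟨a, b, fun i hi => (Scheme.Modules.pullback f).map_isZero (hv i hi)⟩,
    fun i => isFinFree_pull f (hf i)⟩

theorem isFinLocFree_of_isFinFree {M : X.Modules} (h : IsFinFree M) : FlatMod.IsFinLocFree M :=
  fun _ => by
  obtain ⟨n, ⟨e⟩⟩ := isFinFree_pull (⊤ : X.Opens).ι h
  exact ⟨⊤, n, trivial, ⟨(Scheme.Modules.restrictFunctorIsoPullback _).app M ≪≫ e⟩⟩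

theorem freeBdd.isStrictlyPerfect {E : CochainComplex X.Modules ℤ} (h : FreeBdd E) :
    DCoh.IsStrictlyPerfect E :=
  ⟨h.1, fun i => isFinLocFree_of_isFinFree (h.2 i)⟩

theorem freeBdd_tensor {E E' : CochainComplex X.Modules ℤ} (h : FreeBdd E) (h' : FreeBdd E') :
    FreeBdd (((DCoh.tensorCx (X := X)).obj E).obj E') := by
  obtain ⟨⟨a, b, hv⟩, hf⟩ := h
  obtain ⟨⟨c, d, hv'⟩, hf'⟩ := h'
  have hz : ∀ (n : ℤ) (p : ((fun q : ℤ × ℤ => q.1 + q.2) ⁻¹' {n} : Set (ℤ × ℤ))),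
      p ∉ {q : ((fun q : ℤ × ℤ => q.1 + q.2) ⁻¹' {n} : Set (ℤ × ℤ)) |
        q.1.1 ∈ Set.Icc a b ∧ q.1.2 ∈ Set.Icc c d} →
      IsZero (tens (E.X p.1.1) (E'.X p.1.2)) := fun n p hp => by
    simp only [Set.mem_ofPred_eq, not_and_or, Set.mem_Icc, not_le] at hp
    rcases hp with h | h
    · exact ((DCoh.tensorBi (X := X)).flip.obj _).map_isZero (hv _ h)
    · exact ((DCoh.tensorBi (X := X)).obj _).map_isZero (hv' _ h)
  refine ⟨⟨a + c, b + d, fun n hn => ?_⟩, fun n => ?_⟩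
  · refine (IsZero.iff_id_eq_zero _).mpr (HomologicalComplex.mapBifunctor.hom_ext fun i j hij => ?_)
    refine ((hz n ⟨(i, j), hij⟩ ?_)).eq_of_src _ _
    simp only [Set.mem_ofPred_eq, Set.mem_Icc]
    change i + j = n at hij
    omega
  · let s := {q : ((fun q : ℤ × ℤ => q.1 + q.2) ⁻¹' {n} : Set (ℤ × ℤ)) |
      q.1.1 ∈ Set.Icc a b ∧ q.1.2 ∈ Set.Icc c d}
    have : Finite s := Finite.of_injective
      (fun q : s => ((⟨q.1.1.1, q.2.1⟩, ⟨q.1.1.2, q.2.2⟩) : Set.Icc a b × Set.Icc c d))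
      fun p q hpq => Subtype.ext (Subtype.ext (Prod.ext
        (congrArg (fun r : Set.Icc a b × Set.Icc c d => (r.1 : ℤ)) hpq)
        (congrArg (fun r : Set.Icc a b × Set.Icc c d => (r.2 : ℤ)) hpq)))
    exact isFinFree_of_iso (sigmaSupportIso _ s (hz n)).symm
      (isFinFree_sigma _ fun q => isFinFree_tens (hf _) (hf' _))

/-- Pullback along nested opens. -/
noncomputable def pullLEIso {U V : X.Opens} (h : U ≤ V) :
    pullCx V.ι ⋙ pullCx (X.homOfLE h) ≅ pullCx U.ι :=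
  NatIso.mapHomologicalComplex (Scheme.Modules.pullbackComp (X.homOfLE h) V.ι ≪≫
    Scheme.Modules.pullbackCongr (X.homOfLE_ι h)) (ComplexShape.up ℤ)

/-- Restriction of complexes is pullback. -/
noncomputable def restrictCxIso (V : X.Opens) : DCoh.restrictCx V ≅ pullCx V.ι :=
  NatIso.mapHomologicalComplex (Scheme.Modules.restrictFunctorIsoPullback V.ι) (ComplexShape.up ℤ)

theorem exists_freeBdd_restrict {E : CochainComplex X.Modules ℤ} (hE : DCoh.IsStrictlyPerfect E)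
    (x : X) : ∃ V : X.Opens, x ∈ V ∧ FreeBdd ((pullCx V.ι).obj E) := by
  obtain ⟨⟨a, b, hv⟩, hf⟩ := hE
  choose U n hU he using fun i => hf i x
  let e := fun i => (he i).some
  let V : X.Opens := (Finset.Icc a b).inf U
  refine ⟨V, ?_, ⟨a, b, fun i hi => (Scheme.Modules.pullback V.ι).map_isZero (hv i hi)⟩,
    fun i => ?_⟩
  · exact Finset.inf_induction (p := fun W : X.Opens => x ∈ W) trivial
      (fun _ h₁ _ h₂ => ⟨h₁, h₂⟩) fun i _ => hU i
  · by_cases hi : i ∈ Finset.Icc a b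
    · have hle : V ≤ U i := Finset.inf_le hi
      exact isFinFree_of_iso
        ((Scheme.Modules.pullbackComp (X.homOfLE hle) (U i).ι ≪≫
          Scheme.Modules.pullbackCongr (X.homOfLE_ι hle)).app (E.X i))
        (isFinFree_pull (X.homOfLE hle)
          ⟨n i, ⟨((Scheme.Modules.restrictFunctorIsoPullback _).app (E.X i)).symm ≪≫ e i⟩⟩)
    · exact isFinFree_of_isZero ((Scheme.Modules.pullback V.ι).map_isZero
        (hv i (by simp only [Finset.mem_Icc, not_and_or, not_le] at hi; exact hi)))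

/-- Pullback along an open immersion respects isomorphisms in the derived category. -/
theorem pullQIso (f : X ⟶ Y) {P P' : CochainComplex Y.Modules ℤ} (hP : DCoh.IsKFlat P)
    (hP' : DCoh.IsKFlat P') (e : DCoh.toD Y P ≅ DCoh.toD Y P') :
    Nonempty (DCoh.toD X ((pullCx f).obj P) ≅ DCoh.toD X ((pullCx f).obj P')) := by
  have := hasLpull f
  exact ⟨(lpullObjIso f P hP).symm ≪≫ (DCoh.Lpull f).mapIso e ≪≫ lpullObjIso f P' hP'⟩

/-- Local free models of a perfect object. -/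
theorem exists_free_model {K : DCoh.D X} (hK : DCoh.IsPerfect K) {P : CochainComplex X.Modules ℤ}
    (hP : DCoh.IsKFlat P) (e : DCoh.toD X P ≅ K) (x : X) :
    ∃ V : X.Opens, x ∈ V ∧ ∀ U : X.Opens, U ≤ V → ∃ E, FreeBdd E ∧
      Nonempty (DCoh.toD _ ((pullCx U.ι).obj P) ≅ DCoh.toD _ E) := by
  obtain ⟨V, hxV, hV⟩ := hK x
  obtain ⟨E, hE, ⟨eE⟩⟩ := hV P ⟨e⟩
  obtain ⟨W, hxW, hW⟩ := exists_freeBdd_restrict hE ⟨x, hxV⟩
  let T : X.Opens := V.ι ''ᵁ W
  refine ⟨T, ⟨⟨x, hxV⟩, hxW, rfl⟩, fun U hU => ?_⟩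
  have hTV : T ≤ V := fun y ⟨z, _, hz⟩ => hz ▸ z.2
  have hUW : Set.range (X.homOfLE (hU.trans hTV)).base ⊆ Set.range W.ι.base := by
    rintro _ ⟨z, rfl⟩
    rw [Scheme.Opens.range_ι]
    obtain ⟨w, hw, hwz⟩ := hU z.2
    rwa [show (X.homOfLE (hU.trans hTV)).base z = w from Subtype.ext (by
      rw [X.homOfLE_apply]; exact hwz.symm)]
  let g := IsOpenImmersion.lift W.ι (X.homOfLE (hU.trans hTV)) hUW
  refine ⟨(pullCx g).obj ((pullCx W.ι).obj E), freeBdd_pull g hW, ?_⟩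
  obtain ⟨e'⟩ := pullQIso (X.homOfLE (hU.trans hTV)) (isKFlat_pull V.ι hP)
    (isKFlat_of_isStrictlyPerfect hE)
    (DerivedCategory.Q.mapIso ((restrictCxIso V).app P).symm ≪≫ eE)
  exact ⟨DerivedCategory.Q.mapIso ((pullLEIso (hU.trans hTV)).app P).symm ≪≫ e' ≪≫
    DerivedCategory.Q.mapIso ((NatIso.mapHomologicalComplex
      (Scheme.Modules.pullbackComp g W.ι ≪≫
        Scheme.Modules.pullbackCongr (IsOpenImmersion.lift_fac W.ι _ hUW))
      (ComplexShape.up ℤ)).app E).symm⟩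

/-- Invariance of the total tensor product in the first variable. -/
theorem tensorQIso_left {A A' : CochainComplex X.Modules ℤ} (hA : DCoh.IsKFlat A)
    (hA' : DCoh.IsKFlat A') (e : DCoh.toD X A ≅ DCoh.toD X A') (B : CochainComplex X.Modules ℤ) :
    Nonempty (DCoh.toD X (((DCoh.tensorCx (X := X)).obj A).obj B) ≅
      DCoh.toD X (((DCoh.tensorCx (X := X)).obj A').obj B)) := by
  have := hasLTensorCx B
  obtain ⟨e₁⟩ := exists_lTensorCxObjIso B A hA
  obtain ⟨e₂⟩ := exists_lTensorCxObjIso B A' hA'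
  exact ⟨e₁.symm ≪≫ (DCoh.LTensorCx B).mapIso e ≪≫ e₂⟩

/-- Invariance of the total tensor product in the second variable. -/
theorem tensorQIso_right (A : CochainComplex X.Modules ℤ) {B B' : CochainComplex X.Modules ℤ}
    (hB : DCoh.IsKFlat B) (hB' : DCoh.IsKFlat B') (e : DCoh.toD X B ≅ DCoh.toD X B') :
    Nonempty (DCoh.toD X (((DCoh.tensorCx (X := X)).obj A).obj B) ≅
      DCoh.toD X (((DCoh.tensorCx (X := X)).obj A).obj B')) := by
  obtain ⟨P, s, hs, t, ht⟩ := DerivedCategory.right_fac e.hom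
  have := quasiIso_resψ P
  have hsr : QuasiIso ((resψ X).app P ≫ s) := by
    have : QuasiIso s := (DerivedCategory.isIso_Q_map_iff_quasiIso X.Modules s).mp hs
    exact quasiIso_comp _ _
  have htr : QuasiIso ((resψ X).app P ≫ t) := by
    have : IsIso (DerivedCategory.Q.map t) := by
      rw [show DerivedCategory.Q.map t = DerivedCategory.Q.map s ≫ e.hom by
        rw [ht, IsIso.hom_inv_id_assoc]]
      infer_instance
    have : QuasiIso t := (DerivedCategory.isIso_Q_map_iff_quasiIso X.Modules t).mp this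
    exact quasiIso_comp _ _
  have h₁ := @quasiIso_tensor_of_kFlat _ _ _ ((resψ X).app P ≫ s) hsr (good_resP P).1 hB A
  have h₂ := @quasiIso_tensor_of_kFlat _ _ _ ((resψ X).app P ≫ t) htr (good_resP P).1 hB' A
  have i₁ : IsIso (DerivedCategory.Q.map
      (((DCoh.tensorCx (X := X)).obj A).map ((resψ X).app P ≫ s))) :=
    (DerivedCategory.isIso_Q_map_iff_quasiIso X.Modules _).mpr h₁
  have i₂ : IsIso (DerivedCategory.Q.map
      (((DCoh.tensorCx (X := X)).obj A).map ((resψ X).app P ≫ t))) :=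
    (DerivedCategory.isIso_Q_map_iff_quasiIso X.Modules _).mpr h₂
  exact ⟨(@asIso _ _ _ _ _ i₁).symm ≪≫ @asIso _ _ _ _ _ i₂⟩

/-- The derived tensor product of perfect objects is perfect. -/
theorem isPerfect_lTensor (L : CochainComplex X.Modules ℤ) (hL : DCoh.IsKFlat L)
    (hLp : DCoh.IsPerfect (DerivedCategory.Q.obj L)) [DCoh.HasLTensorCx L] (K : DCoh.D X)
    (hK : DCoh.IsPerfect K) : DCoh.IsPerfect ((DCoh.LTensorCx L).obj K) := fun x => by
  obtain ⟨P, hP, ⟨eP⟩⟩ := exists_good_rep K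
  obtain ⟨V, hxV, hV⟩ := exists_free_model hK hP.1 eP x
  obtain ⟨W, hxW, hW⟩ := exists_free_model hLp hL (Iso.refl _) x
  obtain ⟨E, hE, ⟨eE⟩⟩ := hV (V ⊓ W) inf_le_left
  obtain ⟨E', hE', ⟨eE'⟩⟩ := hW (V ⊓ W) inf_le_right
  refine ⟨V ⊓ W, ⟨hxV, hxW⟩, fun F hF =>
    ⟨((DCoh.tensorCx (X := (V ⊓ W : X.Opens))).obj E).obj E',
      freeBdd.isStrictlyPerfect (freeBdd_tensor hE hE'), ?_⟩⟩
  obtain ⟨eF⟩ := hF
  obtain ⟨eT⟩ := exists_lTensorCxObjIso L P hP.1
  obtain ⟨e₁⟩ := tensorQIso_left (isKFlat_pull (V ⊓ W).ι hP.1)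
    (isKFlat_of_isStrictlyPerfect (freeBdd.isStrictlyPerfect hE)) eE
    ((pullCx (V ⊓ W).ι).obj L)
  obtain ⟨e₂⟩ := tensorQIso_right E (isKFlat_pull (V ⊓ W).ι hL)
    (isKFlat_of_isStrictlyPerfect (freeBdd.isStrictlyPerfect hE')) eE'
  exact ⟨restrictQIso (V ⊓ W) (eF ≪≫ (DCoh.LTensorCx L).mapIso eP.symm ≪≫ eT) ≪≫
    DerivedCategory.Q.mapIso ((restrictCxIso (V ⊓ W)).app _ ≪≫
      (pullTensorCxIso (V ⊓ W).ι P L).symm) ≪≫ e₁ ≪≫ e₂⟩

end KFlatLib
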