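import Groth.Agent.KFlatLib.QCohLpull

/-!
# Derived tensor products preserve quasi-coherent cohomology
-/

set_option autoImplicit false

universe u

open CategoryTheory CategoryTheory.Limits AlgebraicGeometry HomologicalComplex TopologicalSpace
open scoped ZeroObject MonoidalCategory
open MonoidalCategory (tensorRight)

attribute [local instance] HasDerivedCategory.standard

namespace KFlatLib

variable {X : Scheme.{u}}

/-- The total tensor product. -/
noncomputable abbrev tCx (A B : CochainComplex X.Modules ℤ) : CochainComplex X.Modules ℤ :=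
  ((DCoh.tensorCx (X := X)).obj A).obj B

/-- `M ⊗ N ≅ N ⊗ M`. -/
noncomputable def tensSwap (M N : X.Modules) : tens N M ≅ tens M N :=
  DCoh.shP.mapIso (β_ (DCoh.toP.obj N) (DCoh.toP.obj M))

/-- Total tensor products are symmetric. -/
noncomputable def tCxFlip (K L : CochainComplex X.Modules ℤ) : tCx L K ≅ tCx K L :=
  totalMapIso (DCoh.tensorBi (X := X)).flip (DCoh.tensorBi (X := X))
    (𝟭 _) (𝟭 _) (𝟭 _) (fun a b => tensSwap b a)
    (fun f b => (DCoh.shP.map_comp _ _).symm.trans ((congrArg DCoh.shP.map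
      (BraidedCategory.braiding_naturality_left (DCoh.toP.map f) (DCoh.toP.obj b))).trans
        (DCoh.shP.map_comp _ _)))
    (fun a _ _ g => (DCoh.shP.map_comp _ _).symm.trans ((congrArg DCoh.shP.map
      (BraidedCategory.braiding_naturality_right (DCoh.toP.obj a) (DCoh.toP.map g))).trans
        (DCoh.shP.map_comp _ _))) L K ≪≫
  mapBifunctorFlipIso K L (DCoh.tensorBi (X := X)) (ComplexShape.up ℤ)

/-- Tensoring sequences with a module. -/
noncomputable abbrev tensSeq (X : Scheme.{u}) :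
    (ℕ ⥤ X.Modules) ⥤ X.Modules ⥤ (ℕ ⥤ X.Modules) :=
  ((DCoh.tensorBi (X := X)).flip ⋙ Functor.whiskeringRight ℕ X.Modules X.Modules).flip

instance preservesZeroMorphisms_tensSeq : (tensSeq X).PreservesZeroMorphisms where
  map_zero P Q := by
    ext N j : 4
    exact ((DCoh.tensorBi (X := X)).flip.obj N).map_zero _ _

instance preservesZeroMorphisms_tensSeq_obj (P : ℕ ⥤ X.Modules) :
    ((tensSeq X).obj P).PreservesZeroMorphisms where
  map_zero M N := by
    ext j : 2
    exact ((DCoh.tensorBi (X := X)).obj (P.obj j)).map_zero _ _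

instance preservesColimitsOfSize_colimNat :
    PreservesColimitsOfSize.{0, 0} (colim (J := ℕ) (C := X.Modules)) :=
  colimConstAdj.leftAdjoint_preservesColimits

/-- `colim (P ⊗ N) ≅ colim P ⊗ N`. -/
noncomputable def tensColimIso (a : ℕ ⥤ X.Modules) (b : X.Modules) :
    tens (colimit a) b ≅ colimit (((tensSeq X).obj a).obj b) :=
  preservesColimitIso ((DCoh.tensorBi (X := X)).flip.obj b) a

theorem tensColimIso_natural_right (a : ℕ ⥤ X.Modules) {b b' : X.Modules} (g : b ⟶ b') :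
    ((DCoh.tensorBi (X := X)).obj (colimit a)).map g ≫ (tensColimIso a b').hom =
      (tensColimIso a b).hom ≫ colimMap (((tensSeq X).obj a).map g) := by
  rw [← cancel_epi (tensColimIso a b).inv, Iso.inv_hom_id_assoc]
  refine colimit.hom_ext fun j => ?_
  rw [ι_colimMap]
  refine (reassoc_of% (ι_preservesColimitIso_inv ((DCoh.tensorBi (X := X)).flip.obj b) a j)) _
    |>.trans ?_
  refine ((reassoc_of% (((DCoh.tensorBi (X := X)).map (colimit.ι a j)).naturality g)) _).symm.trans ?_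
  exact congrArg (_ ≫ ·) (ι_preservesColimitIso_hom ((DCoh.tensorBi (X := X)).flip.obj b') a j)

/-- Total tensor products commute with sequential colimits. -/
noncomputable def tCxColIso (C : CochainComplex (ℕ ⥤ X.Modules) ℤ)
    (B : CochainComplex X.Modules ℤ) :
    tCx (colC.obj C) B ≅ colC.obj (mapBifunctor C B (tensSeq X) (ComplexShape.up ℤ)) :=
  totalMapIso (tensSeq X) (DCoh.tensorBi (X := X)) colim (𝟭 _) colim tensColimIso
    (fun f b => (preservesColimitNatIso (J := ℕ)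
      ((DCoh.tensorBi (X := X)).flip.obj b)).hom.naturality f)
    (fun a _ _ g => tensColimIso_natural_right a g) C B

/-- Total tensor products are computed termwise. -/
noncomputable def tCxEvIso (C : CochainComplex (ℕ ⥤ X.Modules) ℤ) (B : CochainComplex X.Modules ℤ)
    (j : ℕ) :
    tCx ((evC j).obj C) B ≅ (evC j).obj (mapBifunctor C B (tensSeq X) (ComplexShape.up ℤ)) :=
  have : PreservesColimitsOfSize.{0, 0} ((evaluation ℕ X.Modules).obj j) := inferInstance
  totalMapIso (tensSeq X) (DCoh.tensorBi (X := X)) ((evaluation _ _).obj j) (𝟭 _)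
    ((evaluation _ _).obj j) (fun _ _ => Iso.refl _)
    (fun _ _ => (Category.comp_id _).trans (Category.id_comp _).symm)
    (fun _ _ _ _ => (Category.comp_id _).trans (Category.id_comp _).symm) C B

/-- `A ⊗ B` has quasi-coherent cohomology. -/
def TQ (A B : CochainComplex X.Modules ℤ) : Prop := DCoh.IsQCohD (DCoh.toD X (tCx A B))

theorem tq_swap {A B : CochainComplex X.Modules ℤ} (h : TQ A B) : TQ B A :=
  isQCohD_iso (DerivedCategory.Q.mapIso (tCxFlip B A)) h

theorem tq_left {A A' : CochainComplex X.Modules ℤ} (hA : DCoh.IsKFlat A) (hA' : DCoh.IsKFlat A')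
    (e : DCoh.toD X A ≅ DCoh.toD X A') {B : CochainComplex X.Modules ℤ} (h : TQ A B) : TQ A' B :=
  let ⟨i⟩ := tensorQIso_left hA hA' e B
  isQCohD_iso i h

theorem tq_colC (C : CochainComplex (ℕ ⥤ X.Modules) ℤ) (B : CochainComplex X.Modules ℤ)
    (h : ∀ j, TQ ((evC j).obj C) B) : TQ (colC.obj C) B := fun i =>
  @QCohLib.isQCoh_of_iso _ _ _
    ((homologyFunctor _ _ i).mapIso (tCxColIso C B).symm ≪≫ (hdToD _ i).symm)
    (isQCoh_homology_colC _ i fun j =>
      @QCohLib.isQCoh_of_iso _ _ _ (hdToD _ i ≪≫ (homologyFunctor _ _ i).mapIso (tCxEvIso C B j))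
        (h j i))

/-- The derived tensor product with `L`, as a functor respecting triangles. -/
noncomputable def tensorTriFun (L : CochainComplex X.Modules ℤ) [DCoh.HasLTensorCx L] :
    TriFun X X where
  Λ := DCoh.LTensorCx L
  zero {K} hK := by
    let Z : CochainComplex X.Modules ℤ := (CochainComplex.singleFunctor X.Modules 0).obj 0
    have hz₀ : IsZero Z := (CochainComplex.singleFunctor X.Modules 0).map_isZero (isZero_zero _)
    have hz : ∀ i, IsZero (Z.X i) := fun i => (HomologicalComplex.eval _ _ i).map_isZero hz₀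
    have hZ := isKFlat_of_bounded_flat_mod Z 0 (fun i _ => hz i) fun i => flat_of_isZero (hz i)
    obtain ⟨e⟩ := exists_lTensorCxObjIso L Z hZ
    refine IsZero.of_iso ?_ ((DCoh.LTensorCx L).mapIso (hK.iso (DerivedCategory.Q.map_isZero hz₀)) ≪≫ e)
    exact DerivedCategory.Q.map_isZero ((((DCoh.tensorCx (X := X)).flip.obj L)).map_isZero hz₀)
  tri T hT := by
    obtain ⟨P, Q, φ, hP, hQ, ⟨e⟩⟩ := exists_kFlat_triangle T hT
    obtain ⟨eP⟩ := exists_lTensorCxObjIso L P hP
    obtain ⟨eQ⟩ := exists_lTensorCxObjIso L Q hQ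
    obtain ⟨eC⟩ := exists_lTensorCxObjIso L (CochainComplex.mappingCone φ)
      (isKFlat_mappingCone_mod hP hQ φ)
    have hS := shortExact_of_degSplit (degSplitBimap₁ (DCoh.tensorBi (X := X)) L
      (CochainComplex.mappingCone.triangleRotateShortComplexSplitting φ))
    refine ⟨_, Pretriangulated.inv_rot_of_distTriang _
      (DerivedCategory.triangleOfSES_distinguished hS),
      ⟨(shiftFunctor (DCoh.D X) (-1 : ℤ)).mapIso (DerivedCategory.Q.mapIso
          (CochainComplex.mapBifunctorShift₁Iso P L (DCoh.tensorBi (X := X)) 1) ≪≫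
            (DerivedCategory.Q.commShiftIso (1 : ℤ)).app _) ≪≫
          (shiftFunctorCompIsoId (DCoh.D X) (1 : ℤ) (-1) (by omega)).app _ ≪≫ eP.symm ≪≫
          (DCoh.LTensorCx L).mapIso (Pretriangulated.Triangle.π₁.mapIso e)⟩,
      ⟨eQ.symm ≪≫ (DCoh.LTensorCx L).mapIso (Pretriangulated.Triangle.π₂.mapIso e)⟩,
      ⟨eC.symm ≪≫ (DCoh.LTensorCx L).mapIso (Pretriangulated.Triangle.π₃.mapIso e)⟩⟩

/-- A bounded above flat representative. -/
theorem exists_flat_rep_of_isLE (K : DCoh.D X) (n : ℤ) [K.IsLE n] :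
    ∃ L : CochainComplex X.Modules ℤ, (∀ i, n < i → IsZero (L.X i)) ∧ DCoh.IsKFlat L ∧
      Nonempty (DCoh.toD X L ≅ K) := by
  obtain ⟨C, hC, ⟨e⟩⟩ := DerivedCategory.exists_iso_Q_obj_of_isLE K n
  obtain ⟨L, α, hLb, hLf, hα⟩ := exists_flat_resolution C n
    fun j hj => C.isZero_of_isStrictlyLE n j hj
  have : IsIso (DerivedCategory.Q.map α) := inferInstance
  exact ⟨L, hLb, isKFlat_of_bounded_flat_mod L n hLb hLf,
    ⟨asIso (DerivedCategory.Q.map α) ≪≫ e.symm⟩⟩

/-- From singles to all objects, for a bounded above second factor. -/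
theorem tq_of_singles (L : CochainComplex X.Modules ℤ) (c : ℤ) (hLc : ∀ i, c < i → IsZero (L.X i))
    (hs : ∀ (M : X.Modules), Coh.IsQCoh M → ∀ P, DCoh.IsKFlat P →
      (DCoh.toD X P ≅ (DerivedCategory.singleFunctor X.Modules 0).obj M) → TQ P L)
    (A : CochainComplex X.Modules ℤ) (hA : DCoh.IsKFlat A) (hAq : DCoh.IsQCohD (DCoh.toD X A)) :
    TQ A L := by
  have := hasLTensorCx L
  let F := tensorTriFun L
  have hs' : ∀ (M : X.Modules), Coh.IsQCoh M →
      F.Q ((DerivedCategory.singleFunctor X.Modules 0).obj M) := fun M hM => by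
    obtain ⟨P, hP, ⟨eP⟩⟩ := exists_good_rep ((DerivedCategory.singleFunctor X.Modules 0).obj M)
    obtain ⟨i⟩ := exists_lTensorCxObjIso L P hP.1
    exact isQCohD_iso (i.symm ≪≫ (DCoh.LTensorCx L).mapIso eP) (hs M hM P hP.1 eP)
  have hc : F.Bound c := fun K n i hK hi => by
    obtain ⟨P, hPb, hP, ⟨eP⟩⟩ := exists_flat_rep_of_isLE K n
    obtain ⟨e⟩ := exists_lTensorCxObjIso L P hP
    refine IsZero.of_iso ?_ ((DerivedCategory.homologyFunctor X.Modules i).mapIso
      ((DCoh.LTensorCx L).mapIso eP.symm ≪≫ e) ≪≫ hdToD _ i)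
    refine (exactAt_iff_isZero_homology _ _).mp (ShortComplex.exact_of_isZero_X₂ _ ?_)
    refine (IsZero.iff_id_eq_zero _).mpr (mapBifunctor.hom_ext fun p q hpq => ?_)
    change p + q = i at hpq
    by_cases hp : n < p
    · exact (((DCoh.tensorBi (X := X)).flip.obj _).map_isZero (hPb p hp)).eq_of_src _ _
    · exact (((DCoh.tensorBi (X := X)).obj _).map_isZero (hLc q (by omega))).eq_of_src _ _
  obtain ⟨C, hC, ⟨eC⟩, hj⟩ := exists_colim_rep (DCoh.toD X A)
  refine tq_left hC hA eC (tq_colC C L fun j => ?_)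
  obtain ⟨hkf, hle, hq⟩ := hj j
  obtain ⟨i⟩ := exists_lTensorCxObjIso L ((evC j).obj C) hkf
  exact isQCohD_iso i (F.q_boundedAbove hs' hc (j : ℤ) _ (hq hAq))

theorem tq_singles (M N : X.Modules) (hM : Coh.IsQCoh M) (hN : Coh.IsQCoh N)
    (P P' : CochainComplex X.Modules ℤ) (hP : DCoh.IsKFlat P) (hP' : DCoh.IsKFlat P')
    (e : DCoh.toD X P ≅ (DerivedCategory.singleFunctor X.Modules 0).obj M)
    (e' : DCoh.toD X P' ≅ (DerivedCategory.singleFunctor X.Modules 0).obj N) : TQ P P' := fun i => by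
  refine @QCohLib.isQCoh_of_iso _ _ _ (hdToD _ i).symm (isQCoh_homology_of_local _ i
    (fun U : X.affineOpens => U.1) QCohLib.iSup_affineOpens_val fun U => ?_)
  have : IsOpenImmersion U.2.fromSpec := U.2.isOpenImmersion_fromSpec
  let j := U.2.fromSpec
  obtain ⟨E, hE, hf, ⟨eE⟩⟩ := exists_local_free_rep j M hM P e
  obtain ⟨E', hE', hf', ⟨eE'⟩⟩ := exists_local_free_rep j N hN P' e'
  let h := U.2.isoSpec.hom
  let c := (NatIso.mapHomologicalComplex (Scheme.Modules.pullbackCongr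
    U.2.isoSpec_hom_fromSpec.symm ≪≫ (Scheme.Modules.pullbackComp h j).symm)
      (ComplexShape.up ℤ)).app (tCx P P')
  obtain ⟨e₁⟩ := tensorQIso_left (isKFlat_pull j hP) hE eE ((pullCx j).obj P')
  obtain ⟨e₂⟩ := tensorQIso_right E (isKFlat_pull j hP') hE' eE'
  let eh : DCoh.toD _ ((pullCx h).obj ((pullCx j).obj (tCx P P'))) ≅
      DCoh.toD _ ((pullCx h).obj (tCx E E')) :=
    exactPullQIso h (DerivedCategory.Q.mapIso (pullTensorCxIso j P P').symm ≪≫ e₁ ≪≫ e₂)
  refine @QCohLib.isQCoh_of_iso _ _ _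
    ((hdToD _ i).symm ≪≫ (DerivedCategory.homologyFunctor _ i).mapIso
      (eh.symm ≪≫ DerivedCategory.Q.mapIso c.symm) ≪≫ hdToD _ i)
    (isQCoh_homology_of_terms _ (fun n => ?_) i)
  refine @QCohLib.isQCoh_of_iso _ _ _ ((Scheme.Modules.restrictFunctorIsoPullback h).app _)
    (@Scheme.Modules.isQuasicoherent_restrictFunctor _ _ h _ _ ?_)
  have hc := ((((DCoh.tensorBi (X := Spec Γ(X, U.1))).mapBifunctorHomologicalComplex
    (ComplexShape.up ℤ) (ComplexShape.up ℤ)).obj E).obj E').toGradedObject.isColimitCofanMapObj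
      (ComplexShape.π (ComplexShape.up ℤ) (ComplexShape.up ℤ) (ComplexShape.up ℤ)) n
  exact QCohLib.isQCoh_of_isColimit (fun _ => inferInstance)
    (fun k => isQCoh_tens (hf k.as.1.1) (hf' k.as.1.2).isQCoh (tensUnitIso _)) hc

/-- `A ⊗ B` has quasi-coherent cohomology for K-flat `A`, `B` with quasi-coherent cohomology. -/
theorem tq_all (A B : CochainComplex X.Modules ℤ) (hA : DCoh.IsKFlat A) (hB : DCoh.IsKFlat B)
    (hAq : DCoh.IsQCohD (DCoh.toD X A)) (hBq : DCoh.IsQCohD (DCoh.toD X B)) : TQ A B := by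
  have h₁ : ∀ (N : X.Modules), Coh.IsQCoh N → ∀ P, DCoh.IsKFlat P →
      (DCoh.toD X P ≅ (DerivedCategory.singleFunctor X.Modules 0).obj N) →
      ∀ A, DCoh.IsKFlat A → DCoh.IsQCohD (DCoh.toD X A) → TQ A P := by
    intro N hN P hP e A hA hAq
    obtain ⟨L, hLb, hL, ⟨eL⟩⟩ := exists_flat_rep_of_isLE
      ((DerivedCategory.singleFunctor X.Modules 0).obj N) 0
    have := tq_of_singles L 0 hLb (fun M hM Q hQ eQ => tq_singles M N hM hN Q L hQ hL eQ eL) A hA hAq
    exact tq_swap (tq_left hL hP (eL ≪≫ e.symm) (tq_swap this))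
  have h₂ : ∀ (L : CochainComplex X.Modules ℤ) (c : ℤ), (∀ i, c < i → IsZero (L.X i)) →
      DCoh.IsKFlat L → DCoh.IsQCohD (DCoh.toD X L) →
      ∀ A, DCoh.IsKFlat A → DCoh.IsQCohD (DCoh.toD X A) → TQ A L :=
    fun L c hc hL hLq A hA hAq =>
      tq_of_singles L c hc (fun N hN P hP e => tq_swap (h₁ N hN P hP e L hL hLq)) A hA hAq
  obtain ⟨C, hC, ⟨eC⟩, hj⟩ := exists_colim_rep (DCoh.toD X A)
  refine tq_left hC hA eC (tq_colC C B fun j => ?_)
  obtain ⟨hkf, hle, hq⟩ := hj j
  obtain ⟨L, hLb, hL, ⟨eL⟩⟩ := exists_flat_rep_of_isLE (DCoh.toD X ((evC j).obj C)) (j : ℤ)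
  exact tq_left hL hkf eL (tq_swap (h₂ L _ hLb hL (isQCohD_iso eL.symm (hq hAq)) B hB hBq))

/-- `- ⊗^L F` preserves quasi-coherent cohomology. -/
theorem isQCohD_lTensorCx (F : CochainComplex X.Modules ℤ)
    (hF : DCoh.IsQCohD (DCoh.toD X F)) [DCoh.HasLTensorCx F] (E : DCoh.D X)
    (hE : DCoh.IsQCohD E) : DCoh.IsQCohD ((DCoh.LTensorCx F).obj E) := by
  obtain ⟨P, hP, ⟨eP⟩⟩ := exists_good_rep E
  obtain ⟨e⟩ := exists_lTensorCxObjIso F P hP.1
  let q : (resP X).obj F ⟶ F := (resψ X).app F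
  have : QuasiIso q := quasiIso_resψ F
  have := quasiIso_tensor_left (K := P) hP.1 q
  have : IsIso (DerivedCategory.Q.map q) := inferInstance
  let eF : DCoh.toD X (tCx P ((resP X).obj F)) ≅ DCoh.toD X (tCx P F) :=
    @asIso _ _ _ _ (DerivedCategory.Q.map (((DCoh.tensorCx (X := X)).obj P).map q))
      ((DerivedCategory.isIso_Q_map_iff_quasiIso X.Modules _).mpr ‹_›)
  exact isQCohD_iso (eF ≪≫ e.symm ≪≫ (DCoh.LTensorCx F).mapIso eP)
    (tq_all P _ hP.1 (good_resP F).1 (isQCohD_iso eP.symm hE)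
      (isQCohD_iso (asIso (DerivedCategory.Q.map q)).symm hF))

end KFlatLib
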