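import Groth.Agent.KFlatLib.Sky
import Mathlib.Algebra.Category.ModuleCat.ChangeOfRings
import Mathlib.CategoryTheory.Adjunction.Mates
import Mathlib.CategoryTheory.Adjunction.Additive

/-!
# Stalks of pullbacks

`(f^* M)_x ≅ O_{X,x} ⊗_{O_{Y,f x}} M_{f x}`, naturally in `M`.
-/

set_option autoImplicit false

universe u

open CategoryTheory CategoryTheory.Limits AlgebraicGeometry TopologicalSpace Opposite

namespace KFlatLib

variable {X Y : Scheme.{u}} (f : X ⟶ Y) (x : X)

section

variable (A : ModuleCat.{u} (X.presheaf.stalk x))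

/-- Pushforward of a skyscraper to the skyscraper at the image point. -/
noncomputable def pushSkyHom : (Scheme.Modules.pushforward f).obj (skyObj x A) ⟶
    skyObj (f x) ((ModuleCat.restrictScalars (f.stalkMap x).hom).obj A) :=
  ⟨PresheafOfModules.homMk (M₁ := ((Scheme.Modules.pushforward f).obj (skyObj x A)).val)
    (M₂ := (skyObj (f x) ((ModuleCat.restrictScalars (f.stalkMap x).hom).obj A)).val)
    { app := fun U => AddCommGrpCat.ofHom
        { toFun := fun g => g
          map_zero' := rfl
          map_add' := fun _ _ => rfl }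
      naturality := fun _ _ _ => rfl }
    (fun U r g => funext fun ⟨h⟩ => by
      exact congrArg (· • skyVal x (A := A) (U := f ⁻¹ᵁ U.unop) h g)
        (Scheme.Hom.germ_stalkMap_apply f U.unop x h r).symm)⟩

/-- The inverse of `pushSkyHom`. -/
noncomputable def pushSkyInv :
    skyObj (f x) ((ModuleCat.restrictScalars (f.stalkMap x).hom).obj A) ⟶
      (Scheme.Modules.pushforward f).obj (skyObj x A) :=
  ⟨PresheafOfModules.homMk
    (M₁ := (skyObj (f x) ((ModuleCat.restrictScalars (f.stalkMap x).hom).obj A)).val)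
    (M₂ := ((Scheme.Modules.pushforward f).obj (skyObj x A)).val)
    { app := fun U => AddCommGrpCat.ofHom
        { toFun := fun g => g
          map_zero' := rfl
          map_add' := fun _ _ => rfl }
      naturality := fun _ _ _ => rfl }
    (fun U r g => funext fun ⟨h⟩ => by
      exact congrArg (· • skyVal x (A := A) (U := f ⁻¹ᵁ U.unop) h g)
        (Scheme.Hom.germ_stalkMap_apply f U.unop x h r))⟩

/-- `f_* (sky A) ≅ sky (A|_{O_{Y, f x}})`. -/
noncomputable def pushSkyObjIso : (Scheme.Modules.pushforward f).obj (skyObj x A) ≅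
    skyObj (f x) ((ModuleCat.restrictScalars (f.stalkMap x).hom).obj A) where
  hom := pushSkyHom f x A
  inv := pushSkyInv f x A
  hom_inv_id := Scheme.Modules.hom_ext _ _ fun _ => rfl
  inv_hom_id := Scheme.Modules.hom_ext _ _ fun _ => rfl

end

/-- `f_* ∘ sky_x ≅ sky_{f x} ∘ restriction of scalars`. -/
noncomputable def pushSkyIso : skyMod x ⋙ Scheme.Modules.pushforward f ≅
    ModuleCat.restrictScalars (f.stalkMap x).hom ⋙ skyMod (f x) :=
  NatIso.ofComponents (fun A => pushSkyObjIso f x A) fun {A B} g => by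
    refine Scheme.Modules.hom_ext _ _ fun U => ?_
    ext s
    refine skyObj_ext (f x) _ _ _ fun hx => ?_
    exact (skyMod_map_app x g (U := f ⁻¹ᵁ U) hx s).trans
      (skyMod_map_app (f x) ((ModuleCat.restrictScalars (f.stalkMap x).hom).map g) hx _).symm

/-- `(f^* M)_x ≅ O_{X,x} ⊗ M_{f x}`. -/
noncomputable def stalkPullIso :
    Scheme.Modules.pullback f ⋙ DerSch.stalkFunctor X x ≅
      DerSch.stalkFunctor Y (f x) ⋙ ModuleCat.extendScalars.{u, u, u} (f.stalkMap x).hom :=
  ((conjugateIsoEquiv
    ((Scheme.Modules.pullbackPushforwardAdjunction f).comp (skyAdj x))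
    ((skyAdj (f x)).comp (ModuleCat.extendRestrictScalarsAdj (f.stalkMap x).hom))).symm
      (pushSkyIso f x)).symm

end KFlatLib
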