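import Mathlib.Algebra.Homology.Bifunctor
import Mathlib.Algebra.Homology.Additive
import Mathlib.CategoryTheory.Linear.LinearFunctor
import Mathlib.Algebra.Homology.ComplexShapeSigns
import Mathlib.CategoryTheory.Limits.Preserves.Shapes.Products

/-!
# Functors commuting with a bifunctor commute with the total complex

If `G : D ⥤ D'` preserves countable coproducts and `e : F'(G₁ -, G₂ -) ≅ G (F(-, -))` is natural,
then `G (Tot F(K, L)) ≅ Tot F'(G₁ K, G₂ L)`, naturally in `K` and `L`.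
-/

set_option autoImplicit false

open CategoryTheory CategoryTheory.Limits HomologicalComplex

namespace KFlatLib

variable {C₁ C₂ D C₁' C₂' D' : Type*} [Category* C₁] [Category* C₂] [Category* D] [Category* C₁']
  [Category* C₂'] [Category* D'] [Preadditive C₁] [Preadditive C₂] [Preadditive D]
  [Preadditive C₁'] [Preadditive C₂'] [Preadditive D']
  (F : C₁ ⥤ C₂ ⥤ D) [F.PreservesZeroMorphisms] [∀ X₁, (F.obj X₁).PreservesZeroMorphisms]
  (F' : C₁' ⥤ C₂' ⥤ D') [F'.PreservesZeroMorphisms] [∀ X₁, (F'.obj X₁).PreservesZeroMorphisms]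
  (G₁ : C₁ ⥤ C₁') [G₁.Additive] (G₂ : C₂ ⥤ C₂') [G₂.Additive] (G : D ⥤ D') [G.Additive]
  (e : ∀ a b, (F'.obj (G₁.obj a)).obj (G₂.obj b) ≅ G.obj ((F.obj a).obj b))
  (he₁ : ∀ {a a' : C₁} (f : a ⟶ a') (b : C₂),
    (F'.map (G₁.map f)).app (G₂.obj b) ≫ (e a' b).hom = (e a b).hom ≫ G.map ((F.map f).app b))
  (he₂ : ∀ (a : C₁) {b b' : C₂} (g : b ⟶ b'),
    (F'.obj (G₁.obj a)).map (G₂.map g) ≫ (e a b').hom = (e a b).hom ≫ G.map ((F.obj a).map g))

variable (K : CochainComplex C₁ ℤ) (L : CochainComplex C₂ ℤ)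

/-- The image of `K`. -/
abbrev im₁ : CochainComplex C₁' ℤ := (G₁.mapHomologicalComplex (ComplexShape.up ℤ)).obj K

/-- The image of `L`. -/
abbrev im₂ : CochainComplex C₂' ℤ := (G₂.mapHomologicalComplex (ComplexShape.up ℤ)).obj L

variable [HasMapBifunctor K L F (ComplexShape.up ℤ)]
  [HasMapBifunctor (im₁ G₁ K) (im₂ G₂ L) F' (ComplexShape.up ℤ)]

/-- `e` on the terms of the complexes. -/
abbrev eX (p q : ℤ) : (F'.obj ((im₁ G₁ K).X p)).obj ((im₂ G₂ L).X q) ≅
    G.obj ((F.obj (K.X p)).obj (L.X q)) :=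
  e (K.X p) (L.X q)

/-- The comparison map in degree `n`. -/
noncomputable def totalMapHom (n : ℤ) :
    (mapBifunctor (im₁ G₁ K) (im₂ G₂ L) F' (ComplexShape.up ℤ)).X n ⟶
      G.obj ((mapBifunctor K L F (ComplexShape.up ℤ)).X n) :=
  mapBifunctorDesc (fun p q h => (eX F F' G₁ G₂ G e K L p q).hom ≫
    G.map (ιMapBifunctor K L F (ComplexShape.up ℤ) p q n h))

@[reassoc]
theorem ι_totalMapHom (p q n : ℤ) (h : p + q = n) :
    ιMapBifunctor (im₁ G₁ K) (im₂ G₂ L) F' (ComplexShape.up ℤ) p q n h ≫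
        totalMapHom F F' G₁ G₂ G e K L n =
      (eX F F' G₁ G₂ G e K L p q).hom ≫ G.map (ιMapBifunctor K L F (ComplexShape.up ℤ) p q n h) :=
  ι_mapBifunctorDesc _ p q h

variable [PreservesColimitsOfSize.{0, 0} G]

/-- The cofan of summands, mapped by `G`, is a colimit. -/
noncomputable def isColimitMapped (n : ℤ) :
    IsColimit (Cofan.mk (G.obj ((mapBifunctor K L F (ComplexShape.up ℤ)).X n))
      (fun i : (ComplexShape.π (ComplexShape.up ℤ) (ComplexShape.up ℤ) (ComplexShape.up ℤ)) ⁻¹' {n} =>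
        G.map (ιMapBifunctor K L F (ComplexShape.up ℤ) i.1.1 i.1.2 n i.2))) :=
  isColimitCofanMkObjOfIsColimit G _ _
    ((((F.mapBifunctorHomologicalComplex _ _).obj K).obj L).toGradedObject.isColimitCofanMapObj _ n)

instance isIso_totalMapHom (n : ℤ) : IsIso (totalMapHom F F' G₁ G₂ G e K L n) := by
  let inv' : G.obj ((mapBifunctor K L F (ComplexShape.up ℤ)).X n) ⟶
      (mapBifunctor (im₁ G₁ K) (im₂ G₂ L) F' (ComplexShape.up ℤ)).X n :=
    Cofan.IsColimit.desc (isColimitMapped F G K L n) fun i => (eX F F' G₁ G₂ G e K L i.1.1 i.1.2).inv ≫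
      ιMapBifunctor (im₁ G₁ K) (im₂ G₂ L) F' (ComplexShape.up ℤ) i.1.1 i.1.2 n i.2
  have hinv : ∀ (p q : ℤ) (h : p + q = n),
      G.map (ιMapBifunctor K L F (ComplexShape.up ℤ) p q n h) ≫ inv' =
        (eX F F' G₁ G₂ G e K L p q).inv ≫
          ιMapBifunctor (im₁ G₁ K) (im₂ G₂ L) F' (ComplexShape.up ℤ) p q n h :=
    fun p q h => Cofan.IsColimit.fac (isColimitMapped F G K L n) _ ⟨(p, q), h⟩
  refine ⟨inv', ?_, ?_⟩
  · refine mapBifunctor.hom_ext fun p q h => ?_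
    rw [ι_totalMapHom_assoc, Category.comp_id, hinv p q h, Iso.hom_inv_id_assoc]
  · refine Cofan.IsColimit.hom_ext (isColimitMapped F G K L n) _ _ fun i => ?_
    change G.map (ιMapBifunctor K L F (ComplexShape.up ℤ) i.1.1 i.1.2 n i.2) ≫ inv' ≫ _ =
      G.map (ιMapBifunctor K L F (ComplexShape.up ℤ) i.1.1 i.1.2 n i.2) ≫ 𝟙 _
    obtain ⟨⟨p, q⟩, h⟩ := i
    have h' : p + q = n := h
    rw [← Category.assoc, hinv p q h', Category.assoc, ι_totalMapHom, Iso.inv_hom_id_assoc,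
      Category.comp_id]

include he₁ he₂ in
theorem totalMapHom_comm (n n' : ℤ) (hn : n + 1 = n') :
    totalMapHom F F' G₁ G₂ G e K L n ≫ G.map ((mapBifunctor K L F (ComplexShape.up ℤ)).d n n') =
      (mapBifunctor (im₁ G₁ K) (im₂ G₂ L) F' (ComplexShape.up ℤ)).d n n' ≫
        totalMapHom F F' G₁ G₂ G e K L n' := by
  refine mapBifunctor.hom_ext fun p q h => ?_
  have h' : p + q = n := h
  have hp : (p + 1) + q = n' := by omega
  have hq : p + (q + 1) = n' := by omega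
  rw [ι_totalMapHom_assoc, ← G.map_comp, mapBifunctor.d_eq, mapBifunctor.d_eq,
    Preadditive.comp_add, Preadditive.add_comp, Preadditive.comp_add, mapBifunctor.ι_D₁,
    mapBifunctor.ι_D₂, mapBifunctor.ι_D₁_assoc, mapBifunctor.ι_D₂_assoc,
    mapBifunctor.d₁_eq _ _ _ _ (rfl : (ComplexShape.up ℤ).Rel p (p + 1)) q n' hp,
    mapBifunctor.d₁_eq _ _ _ _ (rfl : (ComplexShape.up ℤ).Rel p (p + 1)) q n' hp,
    mapBifunctor.d₂_eq _ _ _ _ p (rfl : (ComplexShape.up ℤ).Rel q (q + 1)) n' hq,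
    mapBifunctor.d₂_eq _ _ _ _ p (rfl : (ComplexShape.up ℤ).Rel q (q + 1)) n' hq,
    G.map_add, Functor.map_units_smul, Functor.map_units_smul, Preadditive.comp_add,
    Linear.comp_units_smul, Linear.comp_units_smul, Linear.units_smul_comp,
    Linear.units_smul_comp, G.map_comp, G.map_comp, Category.assoc, Category.assoc,
    ι_totalMapHom, ι_totalMapHom]
  congr 2
  · exact ((reassoc_of% (he₁ (K.d p (p + 1)) (L.X q))) _).symm
  · exact ((reassoc_of% (he₂ (K.X p) (L.d q (q + 1)))) _).symm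

include he₁ he₂ in
/-- `G (Tot F(K, L)) ≅ Tot F'(G₁ K, G₂ L)`. -/
noncomputable def totalMapIso :
    mapBifunctor (im₁ G₁ K) (im₂ G₂ L) F' (ComplexShape.up ℤ) ≅
      (G.mapHomologicalComplex (ComplexShape.up ℤ)).obj (mapBifunctor K L F (ComplexShape.up ℤ)) :=
  HomologicalComplex.Hom.isoOfComponents
    (fun n => @asIso _ _ _ _ (totalMapHom F F' G₁ G₂ G e K L n)
      (isIso_totalMapHom F F' G₁ G₂ G e K L n))
    (fun n n' h => totalMapHom_comm F F' G₁ G₂ G e he₁ he₂ K L n n' h)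

theorem totalMapIso_hom_f (n : ℤ) :
    (totalMapIso F F' G₁ G₂ G e he₁ he₂ K L).hom.f n = totalMapHom F F' G₁ G₂ G e K L n := rfl

variable {K L} {K₁ : CochainComplex C₁ ℤ} {L₁ : CochainComplex C₂ ℤ}
  [HasMapBifunctor K₁ L₁ F (ComplexShape.up ℤ)]
  [HasMapBifunctor (im₁ G₁ K₁) (im₂ G₂ L₁) F' (ComplexShape.up ℤ)]

theorem totalMapIso_natural (f : K ⟶ K₁) (g : L ⟶ L₁) :
    mapBifunctorMap ((G₁.mapHomologicalComplex (ComplexShape.up ℤ)).map f)
        ((G₂.mapHomologicalComplex (ComplexShape.up ℤ)).map g) F' (ComplexShape.up ℤ) ≫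
        (totalMapIso F F' G₁ G₂ G e he₁ he₂ K₁ L₁).hom =
      (totalMapIso F F' G₁ G₂ G e he₁ he₂ K L).hom ≫
        (G.mapHomologicalComplex (ComplexShape.up ℤ)).map
          (mapBifunctorMap f g F (ComplexShape.up ℤ)) := by
  ext n : 1
  refine mapBifunctor.hom_ext fun p q h => ?_
  rw [comp_f, comp_f, totalMapIso_hom_f, totalMapIso_hom_f, ι_mapBifunctorMap_assoc]
  refine (congrArg (fun t => (F'.map (G₁.map (f.f p))).app (G₂.obj (L.X q)) ≫
    (F'.obj (G₁.obj (K₁.X p))).map (G₂.map (g.f q)) ≫ t)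
      (ι_totalMapHom F F' G₁ G₂ G e K₁ L₁ p q n h)).trans ?_
  refine Eq.trans ?_ ((Category.assoc _ _ _).symm.trans (congrArg
    (· ≫ G.map ((mapBifunctorMap f g F (ComplexShape.up ℤ)).f n))
    (ι_totalMapHom F F' G₁ G₂ G e K L p q n h))
    |>.trans ((Category.assoc _ _ _).trans (congrArg ((e (K.X p) (L.X q)).hom ≫ ·)
      ((G.map_comp _ _).symm.trans ((congrArg G.map (ι_mapBifunctorMap f g F (ComplexShape.up ℤ)
        p q n h)).trans ((G.map_comp _ _).trans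
          (congrArg (G.map _ ≫ ·) (G.map_comp _ _)))))))).symm
  refine (congrArg ((F'.map (G₁.map (f.f p))).app (G₂.obj (L.X q)) ≫ ·)
    ((reassoc_of% (he₂ (K₁.X p) (g.f q))) _)).trans ?_
  exact (reassoc_of% (he₁ (f.f p) (L.X q))) _

end KFlatLib
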