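import Groth.Agent.KFlatLib.PushTensor
import Groth.Agent.KFlatLib.StalkPull
import Groth.Agent.KFlatLib.TotalMap
import Mathlib.Algebra.Category.ModuleCat.Monoidal.Adjunction

/-!
# Pullback commutes with tensor products

`f^*(M ⊗ N) ≅ f^* M ⊗ f^* N`, naturally, and on total complexes.
-/

set_option autoImplicit false

universe u

open CategoryTheory CategoryTheory.Limits AlgebraicGeometry TopologicalSpace Opposite
  MonoidalCategory TensorProduct

namespace KFlatLib

variable {X Y : Scheme.{u}} (f : X ⟶ Y)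

/-- `f^* M`. -/
noncomputable abbrev pb (M : Y.Modules) : X.Modules := (Scheme.Modules.pullback f).obj M

/-- The pullback of a section. -/
noncomputable def puSec {M : Y.Modules} {U : Y.Opens} (m : Γ(M, U)) : Γ(pb f M, f ⁻¹ᵁ U) :=
  ((Scheme.Modules.pullbackPushforwardAdjunction f).unit.app M).app U m

theorem puSec_natural {M M' : Y.Modules} (a : M ⟶ M') {U : Y.Opens} (m : Γ(M, U)) :
    ((Scheme.Modules.pullback f).map a).app (f ⁻¹ᵁ U) (puSec f m) = puSec f (a.app U m) :=
  (congr($((Scheme.Modules.pullbackPushforwardAdjunction f).unit.naturality a).app U m)).symm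

/-- A pure tensor as a section. -/
noncomputable def shTm {Z : Scheme.{u}} {M N : Z.Modules} {U : Z.Opens} (m : Γ(M, U))
    (n : Γ(N, U)) : Γ(tens M N, U) :=
  shApp M N U (tm (DCoh.toP.obj M : PM Z.presheaf) (DCoh.toP.obj N : PM Z.presheaf) m n)

/-- `M ⊗ N ⟶ f_*(f^* M ⊗ f^* N)`. -/
noncomputable def pullθAdjunct (M N : Y.Modules) : tens M N ⟶ pf f (tens (pb f M) (pb f N)) :=
  (((DCoh.tensorBi (X := Y)).map
      ((Scheme.Modules.pullbackPushforwardAdjunction f).unit.app M)).app N ≫
    ((DCoh.tensorBi (X := Y)).obj (pf f (pb f M))).map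
      ((Scheme.Modules.pullbackPushforwardAdjunction f).unit.app N)) ≫
    pushμ f (pb f M) (pb f N)

/-- `f^*(M ⊗ N) ⟶ f^* M ⊗ f^* N`. -/
noncomputable def pullθ (M N : Y.Modules) : pb f (tens M N) ⟶ tens (pb f M) (pb f N) :=
  ((Scheme.Modules.pullbackPushforwardAdjunction f).homEquiv _ _).symm (pullθAdjunct f M N)

theorem pullθ_puSec (M N : Y.Modules) {U : Y.Opens} (m : Γ(M, U)) (n : Γ(N, U)) :
    (pullθ f M N).app (f ⁻¹ᵁ U) (puSec f (shTm m n)) = shTm (puSec f m) (puSec f n) := by
  have e := ((Scheme.Modules.pullbackPushforwardAdjunction f).homEquiv_unit _ _ (pullθ f M N)).symm.trans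
    (Equiv.apply_symm_apply _ (pullθAdjunct f M N))
  refine (congr($(e).app U (shTm m n))).trans ?_
  refine (congrArg ((pushμ f (pb f M) (pb f N)).app U)
    (tensorBi_map_shApp ((Scheme.Modules.pullbackPushforwardAdjunction f).unit.app M)
      ((Scheme.Modules.pullbackPushforwardAdjunction f).unit.app N) U m n)).trans ?_
  exact pushμ_shApp f (pb f M) (pb f N) U _ _

theorem pullTens_hom_ext {M N : Y.Modules} {P : X.Modules} {a b : pb f (tens M N) ⟶ P}
    (h : ∀ (U : Y.Opens) (m : Γ(M, U)) (n : Γ(N, U)),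
      a.app (f ⁻¹ᵁ U) (puSec f (shTm m n)) = b.app (f ⁻¹ᵁ U) (puSec f (shTm m n))) : a = b := by
  apply ((Scheme.Modules.pullbackPushforwardAdjunction f).homEquiv _ P).injective
  rw [Adjunction.homEquiv_unit, Adjunction.homEquiv_unit]
  exact tens_hom_ext h

theorem tensorBi_map₁_shTm {Z : Scheme.{u}} {M M' : Z.Modules} (a : M ⟶ M') (N : Z.Modules)
    {U : Z.Opens} (m : Γ(M, U)) (n : Γ(N, U)) :
    (((DCoh.tensorBi (X := Z)).map a).app N).app U (shTm m n) = shTm (a.app U m) n :=
  shApp_map (M := M) (N := N) (DCoh.toP.map a ▷ DCoh.toP.obj N) U _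

theorem tensorBi_map₂_shTm {Z : Scheme.{u}} (M : Z.Modules) {N N' : Z.Modules} (b : N ⟶ N')
    {U : Z.Opens} (m : Γ(M, U)) (n : Γ(N, U)) :
    (((DCoh.tensorBi (X := Z)).obj M).map b).app U (shTm m n) = shTm m (b.app U n) :=
  shApp_map (M := M) (N := N) (DCoh.toP.obj M ◁ DCoh.toP.map b) U _

theorem pullθ_natural_left {M M' : Y.Modules} (a : M ⟶ M') (N : Y.Modules) :
    (Scheme.Modules.pullback f).map (((DCoh.tensorBi (X := Y)).map a).app N) ≫ pullθ f M' N =
      pullθ f M N ≫ ((DCoh.tensorBi (X := X)).map ((Scheme.Modules.pullback f).map a)).app (pb f N) := by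
  refine pullTens_hom_ext f fun U m n => ?_
  refine ((congrArg ((pullθ f M' N).app (f ⁻¹ᵁ U))
    ((puSec_natural f _ (shTm m n)).trans (congrArg (puSec f) (tensorBi_map₁_shTm a N m n)))).trans
      (pullθ_puSec f M' N _ n)).trans (Eq.symm ?_)
  refine (congrArg ((((DCoh.tensorBi (X := X)).map ((Scheme.Modules.pullback f).map a)).app
    (pb f N)).app (f ⁻¹ᵁ U)) (pullθ_puSec f M N m n)).trans ?_
  exact (tensorBi_map₁_shTm _ _ _ _).trans (congrArg (shTm · _) (puSec_natural f a m))

theorem pullθ_natural_right (M : Y.Modules) {N N' : Y.Modules} (b : N ⟶ N') :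
    (Scheme.Modules.pullback f).map (((DCoh.tensorBi (X := Y)).obj M).map b) ≫ pullθ f M N' =
      pullθ f M N ≫ ((DCoh.tensorBi (X := X)).obj (pb f M)).map ((Scheme.Modules.pullback f).map b) := by
  refine pullTens_hom_ext f fun U m n => ?_
  refine ((congrArg ((pullθ f M N').app (f ⁻¹ᵁ U))
    ((puSec_natural f _ (shTm m n)).trans (congrArg (puSec f) (tensorBi_map₂_shTm M b m n)))).trans
      (pullθ_puSec f M N' m _)).trans (Eq.symm ?_)
  refine (congrArg ((((DCoh.tensorBi (X := X)).obj (pb f M)).map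
    ((Scheme.Modules.pullback f).map b)).app (f ⁻¹ᵁ U)) (pullθ_puSec f M N m n)).trans ?_
  exact (tensorBi_map₂_shTm _ _ _ _).trans (congrArg (shTm _ ·) (puSec_natural f b n))

theorem skyAdj_homEquiv {Z : Scheme.{u}} (z : Z) (M : Z.Modules)
    (A : ModuleCat.{u} (Z.presheaf.stalk z)) (a : (DerSch.stalkFunctor Z z).obj M ⟶ A) :
    (skyAdj z).homEquiv M A a = skyLift z a := by
  rw [skyAdj, Adjunction.adjunctionOfEquivRight]
  erw [Adjunction.mkOfHomEquiv_homEquiv]
  rfl

/-- The stalk of the pullback, on pure tensors. -/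
theorem stalkPullInv_germ (M : Y.Modules) (x : X) {U : Y.Opens} (hU : f x ∈ U) (m : Γ(M, U)) :
    letI := (f.stalkMap x).hom.toAlgebra
    ((stalkPullIso f x).inv.app M).hom
        ((1 : X.presheaf.stalk x) ⊗ₜ[Y.presheaf.stalk (f x)] M.presheaf.germ U (f x) hU m) =
      (pb f M).presheaf.germ (f ⁻¹ᵁ U) x hU (puSec f m) := by
  let a₁ := (Scheme.Modules.pullbackPushforwardAdjunction f).comp (skyAdj x)
  let a₂ := (skyAdj (f x)).comp (ModuleCat.extendRestrictScalarsAdj (f.stalkMap x).hom)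
  let P := (DerSch.stalkFunctor X x).obj (pb f M)
  have e : a₁.unit.app M ≫ (pushSkyIso f x).hom.app P =
      a₂.homEquiv M P ((stalkPullIso f x).inv.app M) :=
    (unit_conjugateEquiv_symm a₁ a₂ (pushSkyIso f x).hom M).trans
      (a₂.homEquiv_unit _ _ _).symm
  rw [show a₂.homEquiv M P ((stalkPullIso f x).inv.app M) = skyLift (f x)
    ((ModuleCat.extendRestrictScalarsAdj (f.stalkMap x).hom).homEquiv _ _
      ((stalkPullIso f x).inv.app M)) by
    rw [Adjunction.comp_homEquiv]
    exact skyAdj_homEquiv (f x) M _ _] at e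
  have e' := congrArg (skyVal (f x) (U := U) hU) congr($(e).app U m)
  refine ((skyLift_app (f x) _ hU m).trans
    (ModuleCat.extendRestrictScalarsAdj_homEquiv_apply _ _)).symm.trans (e'.symm.trans ?_)
  have hu : (a₁.unit.app M).app U m =
      ((skyAdj x).unit.app (pb f M)).app (f ⁻¹ᵁ U) (puSec f m) := by
    rw [Adjunction.comp_unit_app]
    rfl
  refine (congrArg (fun s => skyVal (f x) (U := U) hU (((pushSkyIso f x).hom.app P).app U s)) hu).trans ?_
  have hs : (skyAdj x).unit.app (pb f M) = skyLift x (𝟙 P) := by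
    rw [← Adjunction.homEquiv_id]
    exact skyAdj_homEquiv x (pb f M) P (𝟙 P)
  rw [hs]
  exact skyLift_app x (𝟙 P) (U := f ⁻¹ᵁ U) hU (puSec f m)

theorem isIso_of_stalks {Z : Scheme.{u}} {M N : Z.Modules} (φ : M ⟶ N)
    (h : ∀ z : Z, IsIso ((DerSch.stalkFunctor Z z).map φ)) : IsIso φ := by
  have : Mono φ := by
    refine Preadditive.mono_of_isZero_kernel φ ((isZero_iff_forall_stalk _).mpr fun z => ?_)
    have := h z
    exact (isZero_kernel_of_mono ((DerSch.stalkFunctor Z z).map φ)).of_iso (PreservesKernel.iso _ φ)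
  have : Epi φ := by
    refine Preadditive.epi_of_isZero_cokernel φ ((isZero_iff_forall_stalk _).mpr fun z => ?_)
    have := h z
    exact (isZero_cokernel_of_epi ((DerSch.stalkFunctor Z z).map φ)).of_iso
      (PreservesCokernel.iso _ φ)
  exact isIso_of_mono_of_epi φ

instance isIso_pullθ (M N : Y.Modules) : IsIso (pullθ f M N) := by
  refine isIso_of_stalks _ fun x => ?_
  let B := ModuleCat.extendScalars.{u, u, u} (f.stalkMap x).hom
  let Mx := (DerSch.stalkFunctor Y (f x)).obj M
  let Nx := (DerSch.stalkFunctor Y (f x)).obj N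
  have key : B.map (stalkTensorIso M N (f x)).hom ≫ (stalkPullIso f x).inv.app (tens M N) ≫
      (DerSch.stalkFunctor X x).map (pullθ f M N) =
      Functor.OplaxMonoidal.δ B Mx Nx ≫
        ((stalkPullIso f x).inv.app M ⊗ₘ (stalkPullIso f x).inv.app N) ≫
          (stalkTensorIso (pb f M) (pb f N) x).hom := by
    apply ((ModuleCat.extendRestrictScalarsAdj (f.stalkMap x).hom).homEquiv _ _).injective
    refine ModuleCat.MonoidalCategory.tensor_ext fun a b => ?_
    erw [ModuleCat.extendRestrictScalarsAdj_homEquiv_apply, ModuleCat.extendRestrictScalarsAdj_homEquiv_apply]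
    let := (f.stalkMap x).hom.toAlgebra
    obtain ⟨U, hU, m, n, rfl, rfl⟩ := exists_germ₂ (f x) a b
    refine Eq.trans (b := tmGerm (pb f M) (pb f N) x (U := f ⁻¹ᵁ U) hU (puSec f m) (puSec f n)) ?_ ?_
    · change ((DerSch.stalkFunctor X x).map (pullθ f M N)).hom
        (((stalkPullIso f x).inv.app (tens M N)).hom ((1 : X.presheaf.stalk x) ⊗ₜ[Y.presheaf.stalk (f x)]
          (stalkTensorIso M N (f x)).hom.hom (M.presheaf.germ U (f x) hU m ⊗ₜ N.presheaf.germ U (f x) hU n))) = _
      refine (congrArg (fun w => ((DerSch.stalkFunctor X x).map (pullθ f M N)).hom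
        (((stalkPullIso f x).inv.app (tens M N)).hom ((1 : X.presheaf.stalk x) ⊗ₜ[Y.presheaf.stalk (f x)] w)))
        (stalkTensorIso_hom_tmul M N (f x) hU m n)).trans ?_
      refine (congrArg ((DerSch.stalkFunctor X x).map (pullθ f M N)).hom
        (stalkPullInv_germ f (tens M N) x hU (shTm m n))).trans ?_
      refine (DerSch.stalkFunctor_map_germ x (pullθ f M N) (f ⁻¹ᵁ U) hU _).trans ?_
      exact congrArg _ (pullθ_puSec f M N m n)
    · symm
      refine (congrArg (fun w => (stalkTensorIso (pb f M) (pb f N) x).hom.hom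
        (((stalkPullIso f x).inv.app M ⊗ₘ (stalkPullIso f x).inv.app N).hom w))
        (ModuleCat.extendScalars_δ_tmul _ Mx Nx _ _)).trans ?_
      refine (congrArg₂ (fun a b => (stalkTensorIso (pb f M) (pb f N) x).hom.hom (a ⊗ₜ b))
        (stalkPullInv_germ f M x hU m) (stalkPullInv_germ f N x hU n)).trans ?_
      exact stalkTensorIso_hom_tmul _ _ x (U := f ⁻¹ᵁ U) hU _ _
  have : IsIso (B.map (stalkTensorIso M N (f x)).hom ≫ (stalkPullIso f x).inv.app (tens M N) ≫
      (DerSch.stalkFunctor X x).map (pullθ f M N)) := by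
    rw [key]
    infer_instance
  have := IsIso.of_isIso_comp_left (B.map (stalkTensorIso M N (f x)).hom)
    ((stalkPullIso f x).inv.app (tens M N) ≫ (DerSch.stalkFunctor X x).map (pullθ f M N))
  exact IsIso.of_isIso_comp_left ((stalkPullIso f x).inv.app (tens M N)) _

end KFlatLib
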