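import Groth.Agent.KFlatLib.QCohPull
import Groth.Agent.KFlatLib.PullTensor
import Groth.Agent.FlatLib.QStalk
import Mathlib.RingTheory.Localization.BaseChange
import Mathlib.RingTheory.LocalProperties.Exactness

/-!
# Sections of the pullback of a quasi-coherent module on affine opens

For affine `U' ≤ g ⁻¹ U`, `Γ(g^* M, U') = Γ(X, U') ⊗ Γ(M, U)`.
-/

set_option autoImplicit false

universe u

open CategoryTheory CategoryTheory.Limits AlgebraicGeometry TopologicalSpace Opposite
  TensorProduct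

namespace KFlatLib

variable {X Y : Scheme.{u}} (g : X ⟶ Y)

theorem puSec_smul {M : Y.Modules} {U : Y.Opens} (r : Γ(Y, U)) (m : Γ(M, U)) :
    puSec g (r • m) = g.app U r • puSec g m :=
  ((Scheme.Modules.pullbackPushforwardAdjunction g).unit.app M).app_smul r m

/-- The pullback of a section, restricted. -/
noncomputable def puSecLE (M : Y.Modules) {U : Y.Opens} {U' : X.Opens} (h : U' ≤ g ⁻¹ᵁ U) :
    Γ(M, U) →+ Γ(pb g M, U') :=
  (((pb g M).presheaf.map (homOfLE h).op).hom).comp
    (AddMonoidHom.mk' (puSec g (M := M) (U := U))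
      fun a b => map_add (((Scheme.Modules.pullbackPushforwardAdjunction g).unit.app M).app U).hom a b)

theorem puSecLE_apply (M : Y.Modules) {U : Y.Opens} {U' : X.Opens} (h : U' ≤ g ⁻¹ᵁ U) (m : Γ(M, U)) :
    puSecLE g M h m = (pb g M).presheaf.map (homOfLE h).op (puSec g m) := rfl

theorem puSecLE_smul (M : Y.Modules) {U : Y.Opens} {U' : X.Opens} (h : U' ≤ g ⁻¹ᵁ U) (r : Γ(Y, U))
    (m : Γ(M, U)) :
    puSecLE g M h (r • m) = (g.appLE U U' h).hom r • puSecLE g M h m := by
  rw [puSecLE_apply, puSecLE_apply, puSec_smul, Scheme.Modules.map_smul]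
  rfl

theorem gm_puSecLE (M : Y.Modules) {U : Y.Opens} {U' : X.Opens} (h : U' ≤ g ⁻¹ᵁ U) {x : X}
    (hx : x ∈ U') (m : Γ(M, U)) :
    (pb g M).presheaf.germ U' x hx (puSecLE g M h m) =
      (pb g M).presheaf.germ (g ⁻¹ᵁ U) x (h hx) (puSec g m) :=
  TopCat.Presheaf.germ_res_apply (pb g M).presheaf _ x hx _

/-- The germ at `x` of the pullback of a section, as a base change. -/
theorem isBaseChange_germ_puSec (M : Y.Modules) [Coh.IsQCoh M] {U : Y.Opens} (hU : IsAffineOpen U)
    (x : X) (hx : g x ∈ U) [Algebra Γ(Y, U) (X.presheaf.stalk x)]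
    [Module Γ(Y, U) ((pb g M).presheaf.stalk x)]
    [IsScalarTower Γ(Y, U) (X.presheaf.stalk x) ((pb g M).presheaf.stalk x)]
    (halg : ∀ r, algebraMap Γ(Y, U) (X.presheaf.stalk x) r =
      g.stalkMap x (Y.presheaf.germ U (g x) hx r))
    (l : Γ(M, U) →ₗ[Γ(Y, U)] (pb g M).presheaf.stalk x)
    (hl : ∀ m, l m = (pb g M).presheaf.germ (g ⁻¹ᵁ U) x hx (puSec g m)) :
    IsBaseChange (X.presheaf.stalk x) l := by
  let y := g x
  let : Algebra Γ(Y, U) (Y.presheaf.stalk y) := (Y.presheaf.germ U y hx).hom.toAlgebra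
  let : Algebra (Y.presheaf.stalk y) (X.presheaf.stalk x) := (g.stalkMap x).hom.toAlgebra
  have : IsScalarTower Γ(Y, U) (Y.presheaf.stalk y) (X.presheaf.stalk x) :=
    IsScalarTower.of_algebraMap_eq halg
  let := Module.compHom (M.presheaf.stalk y) (Y.presheaf.germ U y hx).hom
  have : IsScalarTower Γ(Y, U) (Y.presheaf.stalk y) (M.presheaf.stalk y) :=
    IsScalarTower.of_algebraMap_smul fun _ _ ↦ rfl
  let := Module.compHom ((pb g M).presheaf.stalk x) (g.stalkMap x).hom
  have : IsScalarTower (Y.presheaf.stalk y) (X.presheaf.stalk x) ((pb g M).presheaf.stalk x) :=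
    IsScalarTower.of_algebraMap_smul fun _ _ ↦ rfl
  have : IsScalarTower Γ(Y, U) (Y.presheaf.stalk y) ((pb g M).presheaf.stalk x) :=
    IsScalarTower.of_algebraMap_smul fun r σ ↦ by
      rw [← algebraMap_smul (X.presheaf.stalk x) r σ, halg]
      rfl
  have : IsLocalization.AtPrime (Y.presheaf.stalk y) (hU.primeIdealOf ⟨y, hx⟩).asIdeal :=
    hU.isLocalization_stalk ⟨y, hx⟩
  have := FlatLib.isLocalizedModule_germLin M hU hx
  have h₁ : IsBaseChange (Y.presheaf.stalk y) (FlatLib.germLin M hx) :=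
    IsLocalizedModule.isBaseChange (hU.primeIdealOf ⟨y, hx⟩).asIdeal.primeCompl _ _
  let e : X.presheaf.stalk x ⊗[Y.presheaf.stalk y] M.presheaf.stalk y ≃ₗ[X.presheaf.stalk x]
      (pb g M).presheaf.stalk x :=
    ((stalkPullIso g x).symm.app M).toLinearEquiv
  let l₂ : M.presheaf.stalk y →ₗ[Y.presheaf.stalk y] (pb g M).presheaf.stalk x :=
    (e.toLinearMap.restrictScalars (Y.presheaf.stalk y)).comp
      (TensorProduct.mk (Y.presheaf.stalk y) (X.presheaf.stalk x) (M.presheaf.stalk y) 1)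
  have h₂ : IsBaseChange (X.presheaf.stalk x) l₂ := IsBaseChange.of_equiv e fun _ => rfl
  have key : (l₂.restrictScalars Γ(Y, U)).comp (FlatLib.germLin M hx) = l :=
    LinearMap.ext fun m => (stalkPullInv_germ g M x hx m).trans (hl m).symm
  exact key ▸ h₁.comp h₂

/-- A map is bijective when, at each maximal ideal, a localisation of the target composed with it
localises the source. -/
theorem bijective_of_local_loc {R : Type u} [CommRing R] {A N : Type u} [AddCommGroup A] [Module R A]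
    [AddCommGroup N] [Module R N] (Ψ : A →ₗ[R] N)
    (h : ∀ P : Ideal R, P.IsMaximal → ∃ (_ : P.IsPrime) (L : Type u) (_ : AddCommGroup L) (_ : Module R L)
      (f : N →ₗ[R] L), IsLocalizedModule P.primeCompl f ∧ IsLocalizedModule P.primeCompl (f.comp Ψ)) :
    Function.Bijective Ψ := by
  classical
  refine bijective_of_localized_maximal Ψ fun P hP => ?_
  obtain ⟨_, L, _, _, f, hf, hfΨ⟩ := h P hP
  let eA := IsLocalizedModule.iso P.primeCompl (f.comp Ψ)
  let eN := IsLocalizedModule.iso P.primeCompl f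
  have key : eN.toLinearMap.comp ((LocalizedModule.map P.primeCompl Ψ).restrictScalars R) =
      eA.toLinearMap := by
    refine IsLocalizedModule.linearMap_ext P.primeCompl (LocalizedModule.mkLinearMap P.primeCompl A)
      (f.comp Ψ) (LinearMap.ext fun a => ?_)
    simp [eA, eN, LocalizedModule.map_mk]
  have hb : Function.Bijective (eN ∘ LocalizedModule.map P.primeCompl Ψ) := by
    have := eA.bijective
    rwa [← LinearEquiv.coe_toLinearMap, ← key] at this
  exact (Function.Bijective.of_comp_iff' eN.bijective _).mp hb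

/-- `Γ(g^* M, U')` is the base change of `Γ(M, U)`, for affine `U' ≤ g ⁻¹ U`. -/
theorem isBaseChange_puSec (M : Y.Modules) [Coh.IsQCoh M] {U : Y.Opens} (hU : IsAffineOpen U)
    {U' : X.Opens} (hU' : IsAffineOpen U') (h : U' ≤ g ⁻¹ᵁ U) [Algebra Γ(Y, U) Γ(X, U')]
    [Module Γ(Y, U) Γ(pb g M, U')] [IsScalarTower Γ(Y, U) Γ(X, U') Γ(pb g M, U')]
    (halg : ∀ r, algebraMap Γ(Y, U) Γ(X, U') r = (g.appLE U U' h).hom r)
    (ψ : Γ(M, U) →ₗ[Γ(Y, U)] Γ(pb g M, U')) (hψ : ∀ m, ψ m = puSecLE g M h m) :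
    IsBaseChange Γ(X, U') ψ := by
  classical
  have := isQCoh_pullback g M
  let G := pb g M
  let Ψ := ψ.liftBaseChange Γ(X, U')
  have hpt : ∀ (x : X) (hx : x ∈ U'),
      (letI := Module.compHom (G.presheaf.stalk x) (X.presheaf.germ U' x hx).hom
       IsLocalizedModule (hU'.primeIdealOf ⟨x, hx⟩).asIdeal.primeCompl
        ((FlatLib.germLin G hx).comp Ψ)) := by
    intro x hx
    let := Module.compHom (G.presheaf.stalk x) (X.presheaf.germ U' x hx).hom
    let : Algebra Γ(X, U') (X.presheaf.stalk x) := (X.presheaf.germ U' x hx).hom.toAlgebra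
    have : IsScalarTower Γ(X, U') (X.presheaf.stalk x) (G.presheaf.stalk x) :=
      IsScalarTower.of_algebraMap_smul fun _ _ ↦ rfl
    have : IsLocalization.AtPrime (X.presheaf.stalk x) (hU'.primeIdealOf ⟨x, hx⟩).asIdeal :=
      hU'.isLocalization_stalk ⟨x, hx⟩
    let : Algebra Γ(Y, U) (X.presheaf.stalk x) :=
      ((X.presheaf.germ U' x hx).hom.comp (algebraMap Γ(Y, U) Γ(X, U'))).toAlgebra
    have : IsScalarTower Γ(Y, U) Γ(X, U') (X.presheaf.stalk x) :=
      IsScalarTower.of_algebraMap_eq fun _ => rfl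
    let : Module Γ(Y, U) (G.presheaf.stalk x) :=
      Module.compHom (G.presheaf.stalk x) (algebraMap Γ(Y, U) (X.presheaf.stalk x))
    have : IsScalarTower Γ(Y, U) (X.presheaf.stalk x) (G.presheaf.stalk x) :=
      IsScalarTower.of_algebraMap_smul fun _ _ ↦ rfl
    have : IsScalarTower Γ(Y, U) Γ(X, U') (G.presheaf.stalk x) :=
      IsScalarTower.of_algebraMap_smul fun _ _ ↦ rfl
    have halg' : ∀ r, algebraMap Γ(Y, U) (X.presheaf.stalk x) r =
        g.stalkMap x (Y.presheaf.germ U (g x) (h hx) r) := fun r => by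
      change X.presheaf.germ U' x hx (algebraMap Γ(Y, U) Γ(X, U') r) = _
      rw [halg, Scheme.Hom.germ_stalkMap_apply]
      exact TopCat.Presheaf.germ_res_apply X.presheaf _ _ _ _
    rw [isLocalizedModule_iff_isBaseChange _ (X.presheaf.stalk x)]
    refine IsBaseChange.of_comp (TensorProduct.isBaseChange Γ(Y, U) Γ(M, U) Γ(X, U')) ?_
    refine isBaseChange_germ_puSec g M hU x (h hx) halg' _ fun m => ?_
    exact (congrArg (G.presheaf.germ U' x hx)
      ((LinearMap.liftBaseChange_tmul Γ(X, U') ψ 1 m).trans ((one_smul _ _).trans (hψ m)))).trans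
      (gm_puSecLE g M h hx m)
  have hb : Function.Bijective Ψ := by
    refine bijective_of_local_loc Ψ fun P hP => ?_
    let x := hU'.fromSpec (⟨P, hP.isPrime⟩ : PrimeSpectrum Γ(X, U'))
    have hx : x ∈ U' :=
      hU'.range_fromSpec.le (Set.mem_range_self (⟨P, hP.isPrime⟩ : PrimeSpectrum Γ(X, U')))
    have hprime : hU'.primeIdealOf ⟨x, hx⟩ = ⟨P, hP.isPrime⟩ :=
      hU'.fromSpec.isOpenEmbedding.injective (hU'.fromSpec_primeIdealOf _)
    let := Module.compHom (G.presheaf.stalk x) (X.presheaf.germ U' x hx).hom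
    have h1 := FlatLib.isLocalizedModule_germLin G hU' hx
    have h2 := hpt x hx
    simp only [hprime] at h1 h2
    exact ⟨hP.isPrime, G.presheaf.stalk x, inferInstance, inferInstance, FlatLib.germLin G hx, h1, h2⟩
  exact IsBaseChange.of_equiv (LinearEquiv.ofBijective Ψ hb) fun m =>
    (LinearMap.liftBaseChange_tmul Γ(X, U') ψ 1 m).trans (one_smul _ _)

end KFlatLib
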