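import Groth.Agent.QCohLib.Local
import Groth.Agent.KFlatLib.PerfectPull

/-!
# Pullbacks of quasi-coherent modules are quasi-coherent
-/

set_option autoImplicit false

universe u

open CategoryTheory CategoryTheory.Limits AlgebraicGeometry TopologicalSpace Opposite

namespace KFlatLib

variable {X Y : Scheme.{u}}

instance preservesColimits_pullback (f : X ⟶ Y) :
    PreservesColimitsOfSize.{u, u} (Scheme.Modules.pullback f) :=
  (Scheme.Modules.pullbackPushforwardAdjunction f).leftAdjoint_preservesColimits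

/-- A presentation of `M` on `W` gives one of `f^* M` on `f⁻¹ W`. -/
noncomputable def pullPresentation (f : X ⟶ Y) (M : Y.Modules) (W : Y.Opens)
    (P : (M.restrict W.ι).Presentation) :
    (((Scheme.Modules.pullback f).obj M).restrict (f ⁻¹ᵁ W).ι).Presentation :=
  SheafOfModules.Presentation.ofIsIso.{u, u, u}
    ((Scheme.Modules.pullback (f ∣_ W)).mapIso
        ((Scheme.Modules.restrictFunctorIsoPullback W.ι).app M) ≪≫
      (Scheme.Modules.pullbackComp (f ∣_ W) W.ι).app M ≪≫
      (Scheme.Modules.pullbackCongr (morphismRestrict_ι f W)).app M ≪≫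
      ((Scheme.Modules.pullbackComp (f ⁻¹ᵁ W).ι f).app M).symm ≪≫
      ((Scheme.Modules.restrictFunctorIsoPullback (f ⁻¹ᵁ W).ι).app _).symm).hom
    (@SheafOfModules.Presentation.map.{u} _ _ _ _ _ _ _ _ _ _ _ _ _ P (Scheme.Modules.pullback (f ∣_ W))
      (preservesColimits_pullback (f ∣_ W)) (pullUnitIso (f ∣_ W)).symm)

/-- Pullback preserves quasi-coherence. -/
theorem isQCoh_pullback (f : X ⟶ Y) (M : Y.Modules) [Coh.IsQCoh M] :
    Coh.IsQCoh ((Scheme.Modules.pullback f).obj M) := by
  obtain ⟨ι, W, P, hW, -⟩ := Scheme.Modules.exists_isOpenCover_presentation (M := M)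
  exact QCohLib.isQCoh_of_presentations _ (fun i => f ⁻¹ᵁ W i)
    (by rw [← f.preimage_iSup, hW]; rfl) fun i => pullPresentation f M (W i) (P i)

end KFlatLib
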