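import Groth.Agent.KFlatLib.Stalk

/-!
# Skyscraper modules

`skyMod x A` has sections `(x ∈ U) → A` over `U`; `DerSch.stalkFunctor X x ⊣ skyMod x`, the counit is
an isomorphism and `skyMod x` is exact.
-/

set_option autoImplicit false

universe u

open CategoryTheory CategoryTheory.Limits AlgebraicGeometry TopologicalSpace Opposite

namespace KFlatLib

variable {X : Scheme.{u}} (x : X) (A : ModuleCat.{u} (X.presheaf.stalk x))

/-- Sections of the skyscraper module. -/
abbrev SkySec (U : X.Opens) : Type u := PLift (x ∈ U) → A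

/-- The scalar action on sections of the skyscraper module. -/
noncomputable instance skySMul (U : (Opens X)ᵒᵖ) :
    SMul (X.ringCatSheaf.obj.obj U) (SkySec x A U.unop) :=
  ⟨fun r f h => (X.presheaf.germ U.unop x h.down (show Γ(X, U.unop) from r)) • f h⟩

theorem skySMul_def (U : (Opens X)ᵒᵖ) (r : X.ringCatSheaf.obj.obj U) (f : SkySec x A U.unop)
    (h : PLift (x ∈ U.unop)) :
    (r • f) h = (X.presheaf.germ U.unop x h.down (show Γ(X, U.unop) from r)) • f h := rfl

noncomputable instance skyModule (U : (Opens X)ᵒᵖ) :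
    Module (X.ringCatSheaf.obj.obj U) (SkySec x A U.unop) where
  one_smul f := funext fun h => by
    rw [skySMul_def]
    exact (congrArg (· • f h) (map_one (X.presheaf.germ U.unop x h.down).hom)).trans (one_smul _ _)
  mul_smul r s f := funext fun h => by
    rw [skySMul_def, skySMul_def, skySMul_def]
    exact (congrArg (· • f h) (map_mul (X.presheaf.germ U.unop x h.down).hom r s)).trans (mul_smul _ _ _)
  smul_zero r := funext fun h => smul_zero (X.presheaf.germ U.unop x h.down r)
  smul_add r f g := funext fun h => smul_add (X.presheaf.germ U.unop x h.down r) (f h) (g h)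
  add_smul r s f := funext fun h => by
    rw [Pi.add_apply, skySMul_def, skySMul_def, skySMul_def]
    exact (congrArg (· • f h) (map_add (X.presheaf.germ U.unop x h.down).hom r s)).trans (add_smul _ _ _)
  zero_smul f := funext fun h => by
    rw [skySMul_def]
    exact (congrArg (· • f h) (map_zero (X.presheaf.germ U.unop x h.down).hom)).trans (zero_smul _ _)

/-- The underlying presheaf of abelian groups. -/
noncomputable def skyAb : TopCat.Presheaf AddCommGrpCat.{u} X.toTopCat where
  obj U := AddCommGrpCat.of (SkySec x A U.unop)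
  map {U V} i := AddCommGrpCat.ofHom
    { toFun := fun (f : SkySec x A U.unop) h => f ⟨i.unop.le h.down⟩
      map_zero' := rfl
      map_add' := fun _ _ => rfl }

noncomputable instance skyAbModule (U : (Opens X)ᵒᵖ) :
    Module (X.ringCatSheaf.obj.obj U) ((skyAb x A).obj U) :=
  skyModule x A U

theorem skyAb_map_smul {U V : (Opens X)ᵒᵖ} (i : U ⟶ V) (r : X.ringCatSheaf.obj.obj U)
    (f : (skyAb x A).obj U) :
    (skyAb x A).map i (r • f) = X.ringCatSheaf.obj.map i r • (skyAb x A).map i f := by
  funext h
  exact congrArg (· • (show SkySec x A U.unop from f) ⟨i.unop.le h.down⟩)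
    (TopCat.Presheaf.germ_res_apply X.presheaf i.unop x h.down r).symm

theorem skyAb_isSheaf : TopCat.Presheaf.IsSheaf (skyAb x A) := by
  classical
  rw [TopCat.Presheaf.isSheaf_iff_isSheafUniqueGluing]
  intro ι U sf hsf
  let g : SkySec x A (iSup U) := fun h =>
    (show SkySec x A (U (Opens.mem_iSup.mp h.down).choose) from sf _)
      ⟨(Opens.mem_iSup.mp h.down).choose_spec⟩
  refine ⟨g, fun i => ?_, fun s hs => ?_⟩
  · funext ⟨h⟩
    have hI : x ∈ iSup U := Opens.mem_iSup.mpr ⟨i, h⟩
    exact congr_fun (hsf (Opens.mem_iSup.mp hI).choose i)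
      ⟨⟨(Opens.mem_iSup.mp hI).choose_spec, h⟩⟩
  · funext h
    exact congr_fun (hs (Opens.mem_iSup.mp h.down).choose) ⟨(Opens.mem_iSup.mp h.down).choose_spec⟩

/-- The skyscraper module. -/
noncomputable def skyObj : X.Modules :=
  { val := PresheafOfModules.ofPresheaf (R := X.ringCatSheaf.obj) (skyAb x A) (fun _ _ i r f => skyAb_map_smul x A i r f)
    isSheaf := skyAb_isSheaf x A }

theorem skyObj_ext {U : X.Opens} (f g : Γ(skyObj x A, U))
    (h : ∀ h : x ∈ U, (show SkySec x A U from f) ⟨h⟩ = (show SkySec x A U from g) ⟨h⟩) : f = g :=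
  funext fun (h' : PLift (x ∈ U)) => h h'.down

variable {A}

/-- The value of a section at the point. -/
noncomputable def skyVal {U : X.Opens} (hx : x ∈ U) : Γ(skyObj x A, U) →+ A where
  toFun f := (show SkySec x A U from f) ⟨hx⟩
  map_zero' := rfl
  map_add' _ _ := rfl

theorem skyVal_smul {U : X.Opens} (hx : x ∈ U) (r : Γ(X, U)) (f : Γ(skyObj x A, U)) :
    skyVal x hx (r • f) = X.presheaf.germ U x hx r • skyVal x hx f := rfl

/-- A section with prescribed value. -/
noncomputable def skyMk {U : X.Opens} (f : x ∈ U → A) : Γ(skyObj x A, U) := fun (h : PLift (x ∈ U)) => f h.down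

theorem skyVal_mk {U : X.Opens} (hx : x ∈ U) (f : x ∈ U → A) :
    skyVal x hx (skyMk x f) = f hx := rfl

theorem skyVal_map {V U : X.Opens} (i : V ⟶ U) (hx : x ∈ V) (f : Γ(skyObj x A, U)) :
    skyVal x hx ((skyObj x A).presheaf.map i.op f) = skyVal x (i.le hx) f := rfl

variable (A)

/-- The map `(sky A)_x → A`. -/
noncomputable def skyCounitAb : (skyObj x A).presheaf.stalk x ⟶ AddCommGrpCat.of A :=
  colimit.desc _
    { pt := AddCommGrpCat.of A
      ι :=
        { app := fun U => AddCommGrpCat.ofHom (skyVal x U.unop.2)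
          naturality := fun _ _ _ => rfl } }

theorem skyCounitAb_germ {U : X.Opens} (hx : x ∈ U) (f : Γ(skyObj x A, U)) :
    skyCounitAb x A ((skyObj x A).presheaf.germ U x hx f) = skyVal x hx f := by
  have h : (skyObj x A).presheaf.germ U x hx ≫ skyCounitAb x A =
      AddCommGrpCat.ofHom (skyVal x hx) :=
    colimit.ι_desc (F := (OpenNhds.inclusion x).op ⋙ (skyObj x A).presheaf) _
      (op (⟨U, hx⟩ : OpenNhds x))
  exact congr($(h) f)

theorem skyCounitAb_bijective : Function.Bijective (skyCounitAb x A) := by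
  constructor
  · intro a b h
    obtain ⟨U, hU, f, rfl⟩ := (skyObj x A).presheaf.exists_germ_eq (x := x) a
    obtain ⟨V, hV, g, rfl⟩ := (skyObj x A).presheaf.exists_germ_eq (x := x) b
    rw [skyCounitAb_germ, skyCounitAb_germ] at h
    refine (skyObj x A).presheaf.germ_ext (U ⊓ V) ⟨hU, hV⟩ (homOfLE inf_le_left)
      (homOfLE inf_le_right) (skyObj_ext x A _ _ fun hW => ?_)
    exact h
  · intro a
    exact ⟨(skyObj x A).presheaf.germ ⊤ x trivial (skyMk x fun _ => a), skyCounitAb_germ x A _ _⟩

/-- `(sky A)_x ≅ A`. -/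
noncomputable def skyCounit : (DerSch.stalkFunctor X x).obj (skyObj x A) ≅ A :=
  (LinearEquiv.ofBijective
    ({ toFun := skyCounitAb x A
       map_add' := map_add (skyCounitAb x A).hom
       map_smul' := fun c m => by
        obtain ⟨U, hU, r, rfl⟩ := X.presheaf.exists_germ_eq (x := x) c
        obtain ⟨V, hV, f, rfl⟩ := (skyObj x A).presheaf.exists_germ_eq (x := x) m
        have hW : x ∈ U ⊓ V := ⟨hU, hV⟩
        rw [← TopCat.Presheaf.germ_res_apply X.presheaf (homOfLE (inf_le_left : U ⊓ V ≤ U)) x hW r,
          ← TopCat.Presheaf.germ_res_apply (skyObj x A).presheaf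
            (homOfLE (inf_le_right : U ⊓ V ≤ V)) x hW f, RingHom.id_apply]
        refine (congrArg (skyCounitAb x A)
          (PresheafOfModules.germ_smul (R := X.presheaf) (skyObj x A).val x (U ⊓ V) hW _ _).symm).trans ?_
        refine (skyCounitAb_germ x A hW _).trans ((skyVal_smul x hW _ _).trans ?_)
        exact congrArg (_ • ·) (skyCounitAb_germ x A hW _).symm } :
      (DerSch.stalkFunctor X x).obj (skyObj x A) →ₗ[X.presheaf.stalk x] A)
    (skyCounitAb_bijective x A)).toModuleIso

theorem skyCounit_germ {U : X.Opens} (hx : x ∈ U) (f : Γ(skyObj x A, U)) :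
    (skyCounit x A).hom.hom ((skyObj x A).presheaf.germ U x hx f) = skyVal x hx f :=
  skyCounitAb_germ x A hx f

variable {A} {M : X.Modules}

/-- The transpose of a map out of a stalk. -/
noncomputable def skyLift (a : (DerSch.stalkFunctor X x).obj M ⟶ A) : M ⟶ skyObj x A :=
  ⟨PresheafOfModules.homMk (M₁ := M.val) (M₂ := (skyObj x A).val)
    { app := fun U => AddCommGrpCat.ofHom
        { toFun := fun m => skyMk x fun h => a.hom (M.presheaf.germ U.unop x h m)
          map_zero' := funext fun ⟨h⟩ =>
            (congrArg a.hom (map_zero (M.presheaf.germ U.unop x h).hom)).trans (map_zero a.hom)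
          map_add' := fun m m' => funext fun ⟨h⟩ =>
            (congrArg a.hom (map_add (M.presheaf.germ U.unop x h).hom m m')).trans
              (map_add a.hom _ _) }
      naturality := fun U V i => by
        ext m
        funext ⟨h⟩
        exact congrArg a.hom (TopCat.Presheaf.germ_res_apply M.presheaf i.unop x h m) }
    (fun U r m => funext fun ⟨h⟩ => by
      exact (congrArg a.hom
        (PresheafOfModules.germ_smul (R := X.presheaf) M.val x U.unop h r m)).trans
          (map_smul a.hom _ _))⟩

theorem skyLift_app (a : (DerSch.stalkFunctor X x).obj M ⟶ A) {U : X.Opens} (hx : x ∈ U)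
    (m : Γ(M, U)) : skyVal x hx ((skyLift x a).app U m) = a.hom (M.presheaf.germ U x hx m) := rfl

theorem skyLift_counit (a : (DerSch.stalkFunctor X x).obj M ⟶ A) :
    (DerSch.stalkFunctor X x).map (skyLift x a) ≫ (skyCounit x A).hom = a := by
  ext m
  obtain ⟨U, hU, s, rfl⟩ := M.presheaf.exists_germ_eq (x := x) m
  exact ((congrArg (skyCounit x A).hom.hom
    (DerSch.stalkFunctor_map_germ x (skyLift x a) U hU s)).trans (skyCounit_germ x A hU _)).trans
      (skyLift_app x a hU s)

theorem sky_hom_ext {φ ψ : M ⟶ skyObj x A}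
    (h : (DerSch.stalkFunctor X x).map φ ≫ (skyCounit x A).hom =
      (DerSch.stalkFunctor X x).map ψ ≫ (skyCounit x A).hom) : φ = ψ := by
  refine Scheme.Modules.hom_ext _ _ fun U => ?_
  ext m
  refine skyObj_ext x A _ _ fun hx => ?_
  have := congr($(h).hom (M.presheaf.germ U x hx m))
  exact ((skyCounit_germ x A hx (φ.app U m)).symm.trans
    (congrArg (skyCounit x A).hom.hom (DerSch.stalkFunctor_map_germ x φ U hx m)).symm).trans
      (this.trans ((congrArg (skyCounit x A).hom.hom
        (DerSch.stalkFunctor_map_germ x ψ U hx m)).trans (skyCounit_germ x A hx (ψ.app U m))))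

/-- `Hom(M_x, A) ≃ Hom(M, sky A)`. -/
noncomputable def skyHomEquiv (M : X.Modules) (A : ModuleCat.{u} (X.presheaf.stalk x)) :
    ((DerSch.stalkFunctor X x).obj M ⟶ A) ≃ (M ⟶ skyObj x A) where
  toFun := skyLift x
  invFun φ := (DerSch.stalkFunctor X x).map φ ≫ (skyCounit x A).hom
  left_inv a := skyLift_counit x a
  right_inv φ := sky_hom_ext x (skyLift_counit x _)

theorem skyHomEquiv_naturality {M M' : X.Modules} {A : ModuleCat.{u} (X.presheaf.stalk x)}
    (f : M' ⟶ M) (g : (DerSch.stalkFunctor X x).obj M ⟶ A) :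
    skyHomEquiv x M' A ((DerSch.stalkFunctor X x).map f ≫ g) = f ≫ skyHomEquiv x M A g :=
  sky_hom_ext x (by
    rw [Functor.map_comp, Category.assoc]
    exact (skyLift_counit x _).trans (congrArg (_ ≫ ·) (skyLift_counit x g).symm))

/-- The skyscraper functor. -/
noncomputable def skyMod : ModuleCat.{u} (X.presheaf.stalk x) ⥤ X.Modules :=
  Adjunction.rightAdjointOfEquiv (F := DerSch.stalkFunctor X x) (fun M A => skyHomEquiv x M A)
    (fun M' M A f g => skyHomEquiv_naturality x f g)

/-- Stalks are left adjoint to skyscrapers. -/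
noncomputable def skyAdj : DerSch.stalkFunctor X x ⊣ skyMod x :=
  Adjunction.adjunctionOfEquivRight (F := DerSch.stalkFunctor X x)
    (fun M A => skyHomEquiv x M A) (fun M' M A f g => skyHomEquiv_naturality x f g)

theorem skyMod_map {A B : ModuleCat.{u} (X.presheaf.stalk x)} (g : A ⟶ B) :
    (skyMod x).map g = skyLift x ((skyCounit x A).hom ≫ g) := by
  change skyLift x ((skyHomEquiv x (skyObj x A) A).symm (𝟙 (skyObj x A)) ≫ g) = _
  change skyLift x (((DerSch.stalkFunctor X x).map (𝟙 _) ≫ (skyCounit x A).hom) ≫ g) = _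
  rw [CategoryTheory.Functor.map_id, Category.id_comp]

theorem skyMod_map_app {A B : ModuleCat.{u} (X.presheaf.stalk x)} (g : A ⟶ B) {U : X.Opens}
    (hx : x ∈ U) (f : Γ(skyObj x A, U)) :
    skyVal x hx (((skyMod x).map g).app U f) = g.hom (skyVal x hx f) := by
  rw [skyMod_map]
  exact (skyLift_app x ((skyCounit x A).hom ≫ g) hx f).trans
    (congrArg g.hom (skyCounit_germ x A hx f))

instance skyMod_isRightAdjoint : (skyMod x).IsRightAdjoint := (skyAdj x).isRightAdjoint

instance additive_skyMod : (skyMod x).Additive := (skyAdj x).right_adjoint_additive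

theorem skyMod_map_epi {A B : ModuleCat.{u} (X.presheaf.stalk x)} (g : A ⟶ B) [Epi g] :
    Epi ((skyMod x).map g) := by
  constructor
  intro N a b h
  refine Scheme.Modules.hom_ext _ _ fun U => ?_
  ext f
  have hs := (ModuleCat.epi_iff_surjective g).mp inferInstance
  choose v hv using fun hx : x ∈ U => hs (skyVal x hx (show Γ(skyObj x B, U) from f))
  have : ((skyMod x).map g).app U (skyMk x v) = f :=
    skyObj_ext x B _ _ fun hx => (skyMod_map_app x g hx (skyMk x v)).trans (hv hx)
  rw [← this]
  exact congr($(congr_arg (fun t => Scheme.Modules.Hom.app t U) h) (skyMk x v))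

instance preservesEpi_skyMod : (skyMod x).PreservesEpimorphisms :=
  ⟨fun g _ => skyMod_map_epi x g⟩

instance preservesFiniteLimits_skyMod : PreservesFiniteLimits (skyMod x) := by
  have : PreservesLimitsOfSize.{0, 0} (skyMod x) := (skyAdj x).rightAdjoint_preservesLimits
  exact PreservesLimitsOfSize.preservesFiniteLimits _

instance preservesHomology_skyMod : (skyMod x).PreservesHomology := by
  exact Functor.preservesHomology_of_preservesEpis_and_kernels _

/-- The stalk of a skyscraper, naturally. -/
noncomputable def skyCounitNatIso : skyMod x ⋙ DerSch.stalkFunctor X x ≅ 𝟭 _ :=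
  NatIso.ofComponents (fun A => skyCounit x A) (fun {A B} g => by
    change (DerSch.stalkFunctor X x).map ((skyMod x).map g) ≫ (skyCounit x B).hom = _
    rw [skyMod_map]
    exact skyLift_counit x _)

end KFlatLib
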