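import Mathlib.Algebra.Homology.BifunctorHomotopy
import Mathlib.Algebra.Homology.HomologySequenceLemmas
import Mathlib.Algebra.Homology.HomologicalComplexAbelian
import Mathlib.Algebra.Homology.HomologicalComplexBiprod
import Mathlib.Algebra.Homology.HomotopyCategory.MappingCone
import Mathlib.Algebra.Homology.HomotopyCategory.Pretriangulated
import Mathlib.Algebra.Homology.ComplexShapeSigns

/-!
# Functors on complexes preserving quasi-isomorphisms

An additive functor on cochain complexes which maps degreewise split short exact sequences to short exact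
sequences, contractible complexes and acyclic complexes to acyclic ones preserves quasi-isomorphisms.
Totalisations of bifunctors have the first two properties.
-/

set_option autoImplicit false

open CategoryTheory CategoryTheory.Limits HomologicalComplex

namespace KFlatLib

section

variable {A : Type*} [Category* A] [Abelian A]

/-- A short complex of complexes which is split in every degree. -/
abbrev DegSplit (S : ShortComplex (CochainComplex A ℤ)) : Type _ :=
  ∀ n : ℤ, (S.map (eval A (ComplexShape.up ℤ) n)).Splitting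

theorem shortExact_of_degSplit {S : ShortComplex (CochainComplex A ℤ)} (h : DegSplit S) :
    S.ShortExact :=
  shortExact_of_degreewise_shortExact S fun n => (h n).shortExact

theorem quasiIso_f_of_acyclic {S : ShortComplex (CochainComplex A ℤ)} (hS : S.ShortExact)
    (h : ∀ i, IsZero (S.X₃.homology i)) : QuasiIso S.f := by
  refine ⟨fun i => (quasiIsoAt_iff_isIso_homologyMap _ _).mpr ?_⟩
  have hm : Mono (homologyMap S.f i) :=
    (hS.homology_exact₁ (i - 1) i (by simp)).mono_g ((h _).eq_of_src _ _)
  have he : Epi (homologyMap S.f i) :=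
    (hS.homology_exact₂ i).epi_f ((h _).eq_of_tgt _ _)
  exact isIso_of_mono_of_epi _

theorem quasiIso_g_of_acyclic {S : ShortComplex (CochainComplex A ℤ)} (hS : S.ShortExact)
    (h : ∀ i, IsZero (S.X₁.homology i)) : QuasiIso S.g := by
  refine ⟨fun i => (quasiIsoAt_iff_isIso_homologyMap _ _).mpr ?_⟩
  have hm : Mono (homologyMap S.g i) :=
    (hS.homology_exact₂ i).mono_g ((h _).eq_of_src _ _)
  have he : Epi (homologyMap S.g i) :=
    (hS.homology_exact₃ i (i + 1) (by simp)).epi_f ((h _).eq_of_tgt _ _)
  exact isIso_of_mono_of_epi _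

theorem isZero_homology_of_contractible {C : CochainComplex A ℤ} (h : Homotopy (𝟙 C) 0) (i : ℤ) :
    IsZero (C.homology i) := by
  rw [IsZero.iff_id_eq_zero, ← homologyMap_id, h.homologyMap_eq i, homologyMap_zero]

/-- The cone of the identity is contractible. -/
noncomputable def coneIdContractible (K : CochainComplex A ℤ) :
    Homotopy (𝟙 (CochainComplex.mappingCone (𝟙 K))) 0 :=
  CochainComplex.mappingCone.homotopyToZeroOfId K

variable {B : Type*} [Category* B] [Abelian B]
  (T : CochainComplex A ℤ ⥤ CochainComplex B ℤ) [T.Additive]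

theorem quasiIso_map_of_acyclic
    (hS : ∀ S : ShortComplex (CochainComplex A ℤ), DegSplit S → (S.map T).ShortExact)
    (hH : ∀ C : CochainComplex A ℤ, Homotopy (𝟙 C) 0 → ∀ i, IsZero ((T.obj C).homology i))
    (hA : ∀ C : CochainComplex A ℤ, (∀ i, IsZero (C.homology i)) →
      ∀ i, IsZero ((T.obj C).homology i))
    {F G : CochainComplex A ℤ} (g : F ⟶ G) [QuasiIso g] : QuasiIso (T.map g) := by
  let W : CochainComplex A ℤ := CochainComplex.mappingCone (𝟙 F)
  let S₁ : ShortComplex (CochainComplex A ℤ) :=
    ShortComplex.mk (biprod.inl : W ⟶ W ⊞ G) biprod.snd biprod.inl_snd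
  have hS₁ : DegSplit S₁ := fun n =>
    (ShortComplex.Splitting.map
      { r := biprod.fst, s := biprod.inr, f_r := biprod.inl_fst, s_g := biprod.inr_snd,
        id := biprod.total } (eval A (ComplexShape.up ℤ) n))
  have hW : ∀ i, IsZero (W.homology i) := isZero_homology_of_contractible (coneIdContractible F)
  have : QuasiIso S₁.g := quasiIso_g_of_acyclic (shortExact_of_degSplit hS₁) hW
  let i : F ⟶ W ⊞ G := biprod.lift (CochainComplex.mappingCone.inr (𝟙 F)) g
  have hi : i ≫ S₁.g = g := biprod.lift_snd _ _
  have : QuasiIso (i ≫ S₁.g) := by rw [hi]; infer_instance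
  have : QuasiIso i := quasiIso_of_comp_right i S₁.g
  let S₂ : ShortComplex (CochainComplex A ℤ) :=
    ShortComplex.mk i (cokernel.π i) (cokernel.condition i)
  have hS₂ : DegSplit S₂ := fun n =>
    ShortComplex.Splitting.ofExactOfRetraction _
      ((ShortComplex.exact_of_g_is_cokernel S₂ (cokernelIsCokernel i)).map_of_mono_of_preservesKernel
        (eval A (ComplexShape.up ℤ) n)
        (by
          have : Mono i := by
            constructor
            intro Z a b h
            have h' := congr_arg (· ≫ (biprod.fst : W ⊞ G ⟶ W)) h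
            simp only [i, Category.assoc, biprod.lift_fst] at h'
            ext m
            have := congr_arg (fun t => Hom.f t m ≫
              (CochainComplex.mappingCone.snd (𝟙 F)).v m m (add_zero m)) h'
            simp only [comp_f, Category.assoc, CochainComplex.mappingCone.inr_f_snd_v,
              Category.comp_id] at this
            exact this
          infer_instance)
        inferInstance)
      ((biprod.fst : W ⊞ G ⟶ W).f n ≫
        (CochainComplex.mappingCone.snd (𝟙 F)).v n n (add_zero n))
      (by
        change i.f n ≫ _ ≫ _ = 𝟙 _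
        rw [← Category.assoc, ← comp_f, biprod.lift_fst,
          CochainComplex.mappingCone.inr_f_snd_v])
      (by
        change Epi ((eval A (ComplexShape.up ℤ) n).map (cokernel.π i))
        infer_instance)
  have hQ : ∀ j, IsZero (S₂.X₃.homology j) := fun j =>
    (exactAt_iff_isZero_homology _ _).mp ((shortExact_of_degSplit hS₂).acyclic_X₃ ‹QuasiIso i› j)
  have : QuasiIso (T.map i) := quasiIso_f_of_acyclic (hS S₂ hS₂) (hA _ hQ)
  have : QuasiIso (T.map S₁.g) :=
    quasiIso_g_of_acyclic (hS S₁ hS₁) (hH _ (coneIdContractible F))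
  rw [← hi, T.map_comp]
  infer_instance

end

section Bifunctor

variable {A₁ A₂ B : Type*} [Category* A₁] [Category* A₂] [Category* B] [Abelian A₁] [Abelian A₂]
  [Abelian B] (F : A₁ ⥤ A₂ ⥤ B) [F.Additive] [∀ X, (F.obj X).Additive]
  [∀ (K₁ : CochainComplex A₁ ℤ) (K₂ : CochainComplex A₂ ℤ),
    HasMapBifunctor K₁ K₂ F (ComplexShape.up ℤ)]

/-- Tensoring on the right with `E`, as a functor. -/
noncomputable abbrev bimap₁ (E : CochainComplex A₂ ℤ) :
    CochainComplex A₁ ℤ ⥤ CochainComplex B ℤ :=
  F.map₂CochainComplex.flip.obj E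

theorem ι_bimap₁_map (E : CochainComplex A₂ ℤ) {K K' : CochainComplex A₁ ℤ} (f : K ⟶ K')
    (p q n : ℤ) (h : p + q = n) :
    ιMapBifunctor K E F (ComplexShape.up ℤ) p q n h ≫ ((bimap₁ F E).map f).f n =
      (F.map (f.f p)).app (E.X q) ≫ ιMapBifunctor K' E F (ComplexShape.up ℤ) p q n h := by
  change _ ≫ (mapBifunctorMap f (𝟙 E) F (ComplexShape.up ℤ)).f n = _
  rw [ι_mapBifunctorMap, id_f, (F.obj _).map_id, Category.id_comp]

instance additive_bimap₁ (E : CochainComplex A₂ ℤ) : (bimap₁ F E).Additive where
  map_add {K K' f g} := by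
    ext n : 1
    refine mapBifunctor.hom_ext fun p q h => ?_
    refine (ι_bimap₁_map F E _ p q n h).trans ?_
    rw [add_f_apply, F.map_add, NatTrans.app_add, Preadditive.add_comp]
    refine Eq.trans ?_ (Preadditive.comp_add _ _ _ _ _ _).symm
    exact congrArg₂ (· + ·) (ι_bimap₁_map F E f p q n h).symm (ι_bimap₁_map F E g p q n h).symm

/-- Totalisation preserves degreewise splittings. -/
noncomputable def degSplitBimap₁ (E : CochainComplex A₂ ℤ)
    {S : ShortComplex (CochainComplex A₁ ℤ)} (h : DegSplit S) : DegSplit (S.map (bimap₁ F E)) :=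
  fun n =>
  { r := mapBifunctorDesc fun p q hpq => (F.map (h p).r).app (E.X q) ≫
      ιMapBifunctor S.X₁ E F (ComplexShape.up ℤ) p q n hpq
    s := mapBifunctorDesc fun p q hpq => (F.map (h p).s).app (E.X q) ≫
      ιMapBifunctor S.X₂ E F (ComplexShape.up ℤ) p q n hpq
    f_r := by
      refine mapBifunctor.hom_ext fun p q hpq => ?_
      refine ((Category.assoc _ _ _).symm.trans
        (congrArg (· ≫ _) (ι_bimap₁_map F E S.f p q n hpq))).trans ?_
      erw [Category.assoc, ι_mapBifunctorDesc, Category.comp_id, ← Category.assoc,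
        ← NatTrans.comp_app, ← F.map_comp, (h p).f_r, F.map_id, NatTrans.id_app,
        Category.id_comp]
    s_g := by
      refine mapBifunctor.hom_ext fun p q hpq => ?_
      refine ((Category.assoc _ _ _).symm.trans
        (congrArg (· ≫ _) (ι_mapBifunctorDesc _ p q hpq))).trans ?_
      refine ((Category.assoc _ _ _).trans
        (congrArg (_ ≫ ·) (ι_bimap₁_map F E S.g p q n hpq))).trans ?_
      erw [← Category.assoc, ← NatTrans.comp_app, ← F.map_comp, (h p).s_g, F.map_id,
        NatTrans.id_app, Category.id_comp, Category.comp_id]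
    id := by
      refine mapBifunctor.hom_ext fun p q hpq => ?_
      let r : S.X₂.X p ⟶ S.X₁.X p := (h p).r
      let s : S.X₃.X p ⟶ S.X₂.X p := (h p).s
      have e0 : r ≫ S.f.f p + S.g.f p ≫ s = 𝟙 (S.X₂.X p) := (h p).id
      have e := congr_arg (fun t => (F.map t).app (E.X q) ≫
        ιMapBifunctor S.X₂ E F (ComplexShape.up ℤ) p q n hpq) e0
      rw [F.map_add, F.map_comp, F.map_comp, F.map_id, NatTrans.app_add, NatTrans.comp_app,
        NatTrans.comp_app, NatTrans.id_app, Preadditive.add_comp, Category.assoc, Category.assoc]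
        at e
      refine Eq.trans ?_ (e.trans (Category.id_comp _)) |>.trans (Category.comp_id _).symm
      refine (Preadditive.comp_add _ _ _ _ _ _).trans ?_
      congr 1
      · refine ((Category.assoc _ _ _).symm.trans
          (congrArg (· ≫ _) (ι_mapBifunctorDesc _ p q hpq))).trans ?_
        exact (Category.assoc _ _ _).trans (congrArg (_ ≫ ·) (ι_bimap₁_map F E S.f p q n hpq))
      · refine ((Category.assoc _ _ _).symm.trans
          (congrArg (· ≫ _) (ι_bimap₁_map F E S.g p q n hpq))).trans ?_
        exact (Category.assoc _ _ _).trans (congrArg (_ ≫ ·) (ι_mapBifunctorDesc _ p q hpq)) }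

/-- Totalisation preserves contractibility. -/
noncomputable def contractibleBimap₁ (E : CochainComplex A₂ ℤ) {C : CochainComplex A₁ ℤ}
    (h : Homotopy (𝟙 C) 0) : Homotopy (𝟙 ((bimap₁ F E).obj C)) 0 :=
  (Homotopy.ofEq ((bimap₁ F E).map_id C).symm).trans
    ((mapBifunctorMapHomotopy₁ h (𝟙 E) F (ComplexShape.up ℤ)).trans
      (Homotopy.ofEq ((bimap₁ F E).map_zero C C)))

/-- If `- ⊗ E` preserves acyclic complexes it preserves quasi-isomorphisms. -/
theorem quasiIso_bimap₁ (E : CochainComplex A₂ ℤ)
    (hE : ∀ C : CochainComplex A₁ ℤ, (∀ i, IsZero (C.homology i)) →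
      ∀ i, IsZero (((bimap₁ F E).obj C).homology i))
    {K K' : CochainComplex A₁ ℤ} (g : K ⟶ K') [QuasiIso g] : QuasiIso ((bimap₁ F E).map g) :=
  quasiIso_map_of_acyclic (bimap₁ F E) (fun _ h => shortExact_of_degSplit (degSplitBimap₁ F E h))
    (fun _ h => isZero_homology_of_contractible (contractibleBimap₁ F E h)) hE g

end Bifunctor

end KFlatLib
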