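import Groth.Prelude.Def_DerSch
import Groth.Agent.QCohLib.Modules
import Mathlib.Topology.Sheaves.Abelian
import Mathlib.Topology.Sheaves.Skyscraper
import Mathlib.Algebra.Homology.ShortComplex.ExactFunctor

/-!
# The stalk functor on `O_X`-modules

`DerSch.stalkFunctor X x` is exact, commutes with colimits, and the stalk functors jointly detect
zero objects and acyclic complexes.
-/

set_option autoImplicit false

universe u

open CategoryTheory CategoryTheory.Limits AlgebraicGeometry TopologicalSpace Opposite

namespace KFlatLib

variable (X : Scheme.{u})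

/-- The underlying abelian sheaf, typed as a sheaf on the topological space. -/
noncomputable abbrev toAbT : X.Modules ⥤ TopCat.Sheaf AddCommGrpCat.{u} X.toTopCat :=
  QCohLib.toAbF X

/-- Stalks of modules, as abelian groups, are stalks of the underlying abelian sheaves. -/
noncomputable def stalkFunctorForgetIso (x : X) :
    DerSch.stalkFunctor X x ⋙ forget₂ _ AddCommGrpCat.{u} ≅
      toAbT X ⋙ TopCat.Sheaf.forget AddCommGrpCat.{u} X.toTopCat ⋙
        TopCat.Presheaf.stalkFunctor AddCommGrpCat.{u} x :=
  NatIso.ofComponents (fun _ => Iso.refl _) (fun _ =>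
    (Category.comp_id _).trans (Category.id_comp _).symm)

noncomputable instance preservesColimits_stalkFunctor (x : X) :
    PreservesColimitsOfSize.{u, u} (DerSch.stalkFunctor X x) := by
  have : PreservesColimitsOfSize.{u, u}
      (DerSch.stalkFunctor X x ⋙ forget₂ _ AddCommGrpCat.{u}) :=
    haveI : PreservesColimitsOfSize.{u, u} (toAbT X) :=
      QCohLib.preservesColimitsOfSize_toAbF (X := X)
    haveI : PreservesColimitsOfSize.{u, u} (TopCat.Sheaf.forget AddCommGrpCat.{u} X.toTopCat ⋙
        TopCat.Presheaf.stalkFunctor AddCommGrpCat.{u} x) :=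
      inferInstance
    preservesColimits_of_natIso (stalkFunctorForgetIso X x).symm
  have : ReflectsColimitsOfSize.{u, u} (forget₂ (ModuleCat.{u} (X.presheaf.stalk x))
      AddCommGrpCat.{u}) := reflectsColimits_of_reflectsIsomorphisms
  exact preservesColimits_of_reflects_of_preserves _ (forget₂ _ AddCommGrpCat.{u})

noncomputable instance preservesFiniteColimits_stalkFunctor (x : X) :
    PreservesFiniteColimits (DerSch.stalkFunctor X x) :=
  PreservesColimitsOfSize.preservesFiniteColimits _

noncomputable instance preservesCountableCoproducts_stalkFunctor (x : X) :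
    PreservesColimitsOfSize.{0, 0} (DerSch.stalkFunctor X x) :=
  preservesColimitsOfSize_shrink.{0, u, 0, u} _

noncomputable instance preservesFiniteLimits_stalkFunctor (x : X) :
    PreservesFiniteLimits (DerSch.stalkFunctor X x) := by
  have : PreservesFiniteLimits (DerSch.stalkFunctor X x ⋙ forget₂ _ AddCommGrpCat.{u}) :=
    haveI : PreservesFiniteLimits (toAbT X) := QCohLib.preservesFiniteLimits_toAbF (X := X)
    preservesFiniteLimits_of_natIso (stalkFunctorForgetIso X x).symm
  exact preservesFiniteLimits_of_reflects_of_preserves _ (forget₂ _ AddCommGrpCat.{u})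

instance preservesHomology_stalkFunctor (x : X) : (DerSch.stalkFunctor X x).PreservesHomology :=
  inferInstance

variable {X}

/-- A module all of whose stalks vanish is zero. -/
theorem isZero_of_stalks {M : X.Modules} (h : ∀ x : X, Subsingleton (M.presheaf.stalk x)) :
    IsZero M := by
  refine (IsZero.iff_id_eq_zero _).mpr ?_
  ext U s
  change s = 0
  exact TopCat.Presheaf.section_ext
    ((QCohLib.toAbF X).obj M : TopCat.Sheaf AddCommGrpCat.{u} X.toTopCat) U s 0
    fun p _ => (h p).elim _ _

theorem isZero_iff_forall_stalk (M : X.Modules) :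
    IsZero M ↔ ∀ x : X, IsZero ((DerSch.stalkFunctor X x).obj M) := by
  refine ⟨fun h x => (DerSch.stalkFunctor X x).map_isZero h, fun h => isZero_of_stalks fun x => ?_⟩
  exact (ModuleCat.subsingleton_of_isZero (h x) : _)

/-- The complex of stalks. -/
noncomputable abbrev stalkCx (X : Scheme.{u}) (x : X) :
    CochainComplex X.Modules ℤ ⥤ CochainComplex (ModuleCat.{u} (X.presheaf.stalk x)) ℤ :=
  (DerSch.stalkFunctor X x).mapHomologicalComplex (ComplexShape.up ℤ)

/-- Homology commutes with stalks. -/
noncomputable def stalkHomologyIso (K : CochainComplex X.Modules ℤ) (x : X) (i : ℤ) :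
    ((stalkCx X x).obj K).homology i ≅ (DerSch.stalkFunctor X x).obj (K.homology i) :=
  (K.sc i).mapHomologyIso (DerSch.stalkFunctor X x)

theorem isZero_homology_iff (K : CochainComplex X.Modules ℤ) (i : ℤ) :
    IsZero (K.homology i) ↔ ∀ x : X, IsZero (((stalkCx X x).obj K).homology i) := by
  rw [isZero_iff_forall_stalk]
  exact forall_congr' fun x => (Iso.isZero_iff (stalkHomologyIso K x i)).symm

/-- The complexes of stalks jointly detect acyclicity. -/
theorem acyclic_iff_stalks (K : CochainComplex X.Modules ℤ) :
    (∀ i : ℤ, IsZero (K.homology i)) ↔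
      ∀ (x : X) (i : ℤ), IsZero (((stalkCx X x).obj K).homology i) := by
  simp only [isZero_homology_iff]
  exact forall_comm

theorem quasiIso_iff_stalks {K L : CochainComplex X.Modules ℤ} (f : K ⟶ L) :
    QuasiIso f ↔ ∀ x : X, QuasiIso ((stalkCx X x).map f) := by
  refine ⟨fun h x => inferInstance, fun h => ?_⟩
  have hQ := h
  constructor
  intro i
  rw [quasiIsoAt_iff_isIso_homologyMap]
  have hi : ∀ x : X,
      IsIso ((DerSch.stalkFunctor X x).map (HomologicalComplex.homologyMap f i)) := by
    intro x
    have := hQ x
    have := (quasiIsoAt_iff_isIso_homologyMap ((stalkCx X x).map f) i).mp inferInstance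
    have e := ShortComplex.mapHomologyIso_hom_naturality
      ((HomologicalComplex.shortComplexFunctor _ (ComplexShape.up ℤ) i).map f)
      (DerSch.stalkFunctor X x)
    have : IsIso (ShortComplex.homologyMap ((DerSch.stalkFunctor X x).mapShortComplex.map
        ((HomologicalComplex.shortComplexFunctor _ (ComplexShape.up ℤ) i).map f))) := this
    exact @IsIso.of_isIso_fac_left _ _ _ _ _ _ _ _ inferInstance
      (IsIso.comp_isIso' this inferInstance) e.symm
  have : Mono (HomologicalComplex.homologyMap f i) := by
    rw [Preadditive.mono_iff_isZero_kernel, isZero_iff_forall_stalk]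
    intro x
    have := hi x
    exact (isZero_kernel_of_mono _).of_iso
      (PreservesKernel.iso (DerSch.stalkFunctor X x) (HomologicalComplex.homologyMap f i))
  have : Epi (HomologicalComplex.homologyMap f i) := by
    rw [Preadditive.epi_iff_isZero_cokernel, isZero_iff_forall_stalk]
    intro x
    have := hi x
    exact (isZero_cokernel_of_epi _).of_iso
      (PreservesCokernel.iso (DerSch.stalkFunctor X x) (HomologicalComplex.homologyMap f i))
  exact isIso_of_mono_of_epi _

end KFlatLib
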