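import Groth.Agent.KFlatLib.CoprodKFlat

/-!
# Left derived functors and coproducts
-/

set_option autoImplicit false

universe u w v t

open CategoryTheory CategoryTheory.Limits AlgebraicGeometry HomologicalComplex
open Groth.Agent.DerLib

namespace KFlatLib

section

variable {A : Type w} [Category.{v} A] [Abelian A] [IsGrothendieckAbelian.{v} A]
  [HasDerivedCategory.{t} A]

/-- Localization preserves coproducts of complexes. -/
theorem isColimit_Q_sigma {T : Type v} (K : T → CochainComplex A ℤ) :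
    Nonempty (IsColimit (Cofan.mk (DerivedCategory.Q.obj (∐ K))
      fun j => DerivedCategory.Q.map (Sigma.ι K j))) := by
  let c : Cofan (fun j => DerivedCategory.Q.obj (K j)) :=
    Cofan.mk (DerivedCategory.Q.obj (∐ K)) fun j => DerivedCategory.Q.map (Sigma.ι K j)
  suffices key : ∀ (W : DerivedCategory A) (g : ∀ j, DerivedCategory.Q.obj (K j) ⟶ W),
      ∃! l, ∀ j, c.inj j ≫ l = g j from
    ⟨Cofan.IsColimit.mk c (fun s => (key s.pt s.inj).choose)
      (fun s j => (key s.pt s.inj).choose_spec.1 j)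
      (fun s m hm => (key s.pt s.inj).choose_spec.2 m hm)⟩
  intro W g
  obtain ⟨I, hI, ⟨eW⟩⟩ := KInjUse.exists_iso_Q_kInjective W
  choose g' hg' using fun j => KInjUse.Q_map_surjective (K j) I (g j ≫ eW.hom)
  refine ⟨DerivedCategory.Q.map (Sigma.desc g') ≫ eW.inv, fun j => ?_, fun y hy => ?_⟩
  · change DerivedCategory.Q.map (Sigma.ι K j) ≫ _ = g j
    rw [← Functor.map_comp_assoc, Sigma.ι_desc, hg', Category.assoc, Iso.hom_inv_id,
      Category.comp_id]
  · obtain ⟨y', hy'⟩ := KInjUse.Q_map_surjective (∐ K) I (y ≫ eW.hom)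
    rw [← cancel_mono eW.hom, Category.assoc, Iso.inv_hom_id, Category.comp_id, ← hy',
      ← sub_eq_zero, ← Functor.map_sub]
    have h0 : ∀ j, (HomotopyCategory.quotient A (ComplexShape.up ℤ)).map
        (Sigma.ι K j ≫ (y' - Sigma.desc g')) = 0 := fun j => KInjUse.quotient_eq_zero_of_Q (by
      rw [Functor.map_comp, Functor.map_sub, Preadditive.comp_sub, hy', ← Functor.map_comp,
        Sigma.ι_desc, hg', sub_eq_zero, ← Category.assoc]
      exact congrArg (· ≫ eW.hom) (hy j))
    choose ψ hψ using fun j => KInjUse.exists_factor _ (h0 j)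
    have : y' - Sigma.desc g' = Limits.Sigma.map
        (fun j => CochainComplex.mappingCone.inr (𝟙 (K j))) ≫ Sigma.desc ψ :=
      Limits.Sigma.hom_ext _ _ fun j => by simp [hψ]
    rw [this, Functor.map_comp]
    have hz : IsZero (DerivedCategory.Q.obj (∐ fun j => CochainComplex.mappingCone (𝟙 (K j)))) :=
      KInjUse.isZero_Q_obj (KInjUse.acyclic_sigma _ fun j => KInjUse.acyclic_cone_id (K j))
    rw [hz.eq_of_src (DerivedCategory.Q.map (Sigma.desc ψ)) 0, comp_zero]

end

attribute [local instance] HasDerivedCategory.standard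

variable {X : Scheme.{u}} {B : Type (u + 1)} [Category.{u} B] [Abelian B]
  [IsGrothendieckAbelian.{u} B]
  {Φ : X.Modules ⥤ B} [Φ.Additive]
  [(khFunctor Φ).HasLeftDerivedFunctor (HomotopyCategory.quasiIso X.Modules (ComplexShape.up ℤ))]

/-- The left derived functor. -/
noncomputable abbrev lDer (Φ : X.Modules ⥤ B) [Φ.Additive]
    [(khFunctor Φ).HasLeftDerivedFunctor (HomotopyCategory.quasiIso X.Modules (ComplexShape.up ℤ))] :
    DerivedCategory X.Modules ⥤ DerivedCategory B :=
  (khFunctor Φ).totalLeftDerived DerivedCategory.Qh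
    (HomotopyCategory.quasiIso X.Modules (ComplexShape.up ℤ))

omit [IsGrothendieckAbelian.{u} B] in
theorem leftDerivedObjIso_natural (hΦ : PreservesKFlatQis Φ) {K L : CochainComplex X.Modules ℤ}
    (hK : DCoh.IsKFlat K) (hL : DCoh.IsKFlat L) (φ : K ⟶ L) :
    (lDer Φ).map (DerivedCategory.Q.map φ) ≫ (leftDerivedObjIso hΦ L hL).hom =
      (leftDerivedObjIso hΦ K hK).hom ≫
        DerivedCategory.Q.map ((Φ.mapHomologicalComplex (ComplexShape.up ℤ)).map φ) := by
  simp only [leftDerivedObjIso, Iso.trans_hom, Functor.mapIso_hom, asIso_hom, Iso.symm_hom,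
    Iso.app_inv, Iso.app_hom, Category.assoc]
  have h₁ := (DerivedCategory.quotientCompQhIso X.Modules).inv.naturality φ
  rw [← Category.assoc, ← Functor.map_comp, h₁, Functor.map_comp, Category.assoc]
  refine congrArg (_ ≫ ·) ?_
  have h₂ := ((khFunctor Φ).totalLeftDerivedCounit DerivedCategory.Qh
    (HomotopyCategory.quasiIso X.Modules (ComplexShape.up ℤ))).naturality
      ((HomotopyCategory.quotient X.Modules (ComplexShape.up ℤ)).map φ)
  refine ((Category.assoc _ _ _).symm.trans (congrArg (· ≫ _) h₂)).trans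
    ((Category.assoc _ _ _).trans (congrArg (_ ≫ ·) ?_))
  exact (DerivedCategory.quotientCompQhIso B).hom.naturality
    ((Φ.mapHomologicalComplex (ComplexShape.up ℤ)).map φ)

/-- Left derived functors of cocontinuous functors preserve coproducts. -/
theorem isIso_sigmaDesc_lDer (hΦ : PreservesKFlatQis Φ) [PreservesColimitsOfSize.{u, u} Φ]
    {ι : Type u} (C : ι → DerivedCategory X.Modules) [HasCoproduct C]
    [HasCoproduct (fun i => (lDer Φ).obj (C i))] :
    IsIso (Sigma.desc (fun i => (lDer Φ).map (Sigma.ι C i))) := by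
  choose P hP e using fun i => exists_good_rep (C i)
  have hσ := isKFlat_sigma P fun i => (hP i).1
  let ΦC := Φ.mapHomologicalComplex (ComplexShape.up ℤ)
  let hC : IsColimit (Cofan.mk (DerivedCategory.Q.obj (∐ P))
      (fun i => (e i).some.inv ≫ DerivedCategory.Q.map (Sigma.ι P i)) : Cofan C) :=
    (IsColimit.precomposeInvEquiv (Discrete.natIso fun i => (e i.as).some) _).symm
      (isColimit_Q_sigma P).some |>.ofIsoColimit (Cocone.ext (Iso.refl _) fun i => by simp)
  let E := (coproductIsCoproduct C).coconePointUniqueUpToIso hC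
  have hE : ∀ i, Sigma.ι C i ≫ E.hom = (e i).some.inv ≫ DerivedCategory.Q.map (Sigma.ι P i) :=
    fun i => IsColimit.comp_coconePointUniqueUpToIso_hom _ hC (Discrete.mk i)
  let T := (lDer Φ).mapIso E ≪≫ leftDerivedObjIso hΦ (∐ P) hσ ≪≫
    DerivedCategory.Q.mapIso (PreservesCoproduct.iso ΦC P)
  let D := fun i => DerivedCategory.Q.obj (ΦC.obj (P i))
  let k : ∀ i, (lDer Φ).obj (C i) ≅ D i := fun i =>
    (lDer Φ).mapIso (e i).some.symm ≪≫ leftDerivedObjIso hΦ (P i) (hP i).1
  let hD : IsColimit (Cofan.mk (DerivedCategory.Q.obj (∐ fun i => ΦC.obj (P i)))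
      (fun i => (k i).hom ≫ DerivedCategory.Q.map (Sigma.ι (fun i => ΦC.obj (P i)) i)) :
        Cofan fun i => (lDer Φ).obj (C i)) :=
    (IsColimit.precomposeHomEquiv (Discrete.natIso fun i => k i.as) _).symm
      (isColimit_Q_sigma fun i => ΦC.obj (P i)).some |>.ofIsoColimit
        (Cocone.ext (Iso.refl _) fun i => by simp)
  let U := (coproductIsCoproduct fun i => (lDer Φ).obj (C i)).coconePointUniqueUpToIso hD
  have key : Sigma.desc (fun i => (lDer Φ).map (Sigma.ι C i)) ≫ T.hom = U.hom := by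
    refine Sigma.hom_ext _ _ fun i => ?_
    refine Eq.trans ?_ (IsColimit.comp_coconePointUniqueUpToIso_hom _ hD ⟨i⟩).symm
    rw [← Category.assoc, Sigma.ι_desc]
    simp only [T, k, Iso.trans_hom, Functor.mapIso_hom, Iso.symm_hom, Cofan.mk_ι_app, Category.assoc]
    rw [← Functor.map_comp_assoc, hE, Functor.map_comp, Category.assoc,
      reassoc_of% (leftDerivedObjIso_natural hΦ (hP i).1 hσ (Sigma.ι P i)), ← Functor.map_comp]
    refine congrArg (_ ≫ ·) (congrArg (_ ≫ ·) (congrArg _ ?_))
    rw [← cancel_mono (PreservesCoproduct.iso ΦC P).inv, Category.assoc, Iso.hom_inv_id,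
      Category.comp_id, PreservesCoproduct.inv_hom, ι_comp_sigmaComparison]
  have : IsIso (Sigma.desc (fun i => (lDer Φ).map (Sigma.ι C i)) ≫ T.hom) := by
    rw [key]
    infer_instance
  exact IsIso.of_isIso_comp_right _ T.hom

end KFlatLib
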