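import Groth.Agent.KFlatLib.TorAmpMore
import Mathlib.Algebra.Homology.DerivedCategory.Fractions

/-!
# Left derived functors and distinguished triangles
-/

set_option autoImplicit false

universe u w v

open CategoryTheory CategoryTheory.Limits AlgebraicGeometry HomologicalComplex Pretriangulated
open CochainComplex (mappingCone)

attribute [local instance] HasDerivedCategory.standard

namespace KFlatLib

variable {X : Scheme.{u}}

/-- Stalks of a mapping cone. -/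
theorem isKFlat_mappingCone_mod {P Q : CochainComplex X.Modules ℤ} (hP : DCoh.IsKFlat P)
    (hQ : DCoh.IsKFlat Q) (φ : P ⟶ Q) : DCoh.IsKFlat (mappingCone φ) :=
  isKFlat_of_stalks _ fun x => isKFlat_ring_of_iso
    (CochainComplex.mappingCone.mapHomologicalComplexIso φ (DerSch.stalkFunctor X x)).symm
    (isKFlat_mappingCone (stalks_isKFlat hP x) (stalks_isKFlat hQ x) _)

/-- A triangle is represented by the cone of a map of K-flat complexes. -/
theorem exists_kFlat_triangle (T : Triangle (DCoh.D X)) (hT : T ∈ distinguishedTriangles) :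
    ∃ (P Q : CochainComplex X.Modules ℤ) (φ : P ⟶ Q), DCoh.IsKFlat P ∧ DCoh.IsKFlat Q ∧
      Nonempty (DerivedCategory.Q.mapTriangle.obj (CochainComplex.mappingCone.triangle φ) ≅ T) := by
  obtain ⟨P₁, h₁, ⟨e₁⟩⟩ := exists_good_rep T.obj₁
  obtain ⟨P₂, h₂, ⟨e₂⟩⟩ := exists_good_rep T.obj₂
  obtain ⟨P', s, hs, g, hf⟩ := DerivedCategory.right_fac (e₁.hom ≫ T.mor₁ ≫ e₂.inv)
  have := quasiIso_resψ P'
  have hiso : IsIso (DerivedCategory.Q.map ((resψ X).app P' ≫ s)) := by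
    rw [Functor.map_comp]
    exact @IsIso.comp_isIso _ _ _ _ _ _ _
      (inferInstanceAs (IsIso (DerivedCategory.Q.map ((resψ X).app P')))) hs
  refine ⟨(resP X).obj P', P₂, (resψ X).app P' ≫ g, (good_resP P').1, h₂.1,
    ⟨isoTriangleOfIso₁₂ _ _ (DerivedCategory.mappingCone_triangle_distinguished _) hT
      (@asIso _ _ _ _ (DerivedCategory.Q.map ((resψ X).app P' ≫ s)) hiso ≪≫ e₁) e₂ ?_⟩⟩
  change DerivedCategory.Q.map ((resψ X).app P' ≫ g) ≫ e₂.hom =
    (DerivedCategory.Q.map ((resψ X).app P' ≫ s) ≫ e₁.hom) ≫ T.mor₁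
  have hg : DerivedCategory.Q.map g = DerivedCategory.Q.map s ≫ e₁.hom ≫ T.mor₁ ≫ e₂.inv := by
    rw [hf, IsIso.hom_inv_id_assoc]
  rw [Functor.map_comp, Functor.map_comp, Category.assoc, hg]
  simp only [Category.assoc, Iso.inv_hom_id, Category.comp_id]

/-- The left derived functor sends the vertices of a distinguished triangle to those of a
distinguished triangle. -/
theorem exists_triangle_leftDerived {B : Type w} [Category.{v} B] [Abelian B]
    [HasDerivedCategory B] {Φ : X.Modules ⥤ B} [Φ.Additive] (hΦ : PreservesKFlatQis Φ)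
    [(khFunctor Φ).HasLeftDerivedFunctor (HomotopyCategory.quasiIso X.Modules (ComplexShape.up ℤ))]
    (T : Triangle (DCoh.D X)) (hT : T ∈ distinguishedTriangles) :
    let LΦ := (khFunctor Φ).totalLeftDerived DerivedCategory.Qh
      (HomotopyCategory.quasiIso X.Modules (ComplexShape.up ℤ))
    ∃ T' : Triangle (DerivedCategory B), T' ∈ distinguishedTriangles ∧
      Nonempty (T'.obj₁ ≅ LΦ.obj T.obj₁) ∧ Nonempty (T'.obj₂ ≅ LΦ.obj T.obj₂) ∧
        Nonempty (T'.obj₃ ≅ LΦ.obj T.obj₃) := by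
  intro LΦ
  obtain ⟨P, Q, φ, hP, hQ, ⟨e⟩⟩ := exists_kFlat_triangle T hT
  exact ⟨DerivedCategory.Q.mapTriangle.obj (CochainComplex.mappingCone.triangle
      ((Φ.mapHomologicalComplex (ComplexShape.up ℤ)).map φ)),
    DerivedCategory.mappingCone_triangle_distinguished _,
    ⟨(leftDerivedObjIso hΦ P hP).symm ≪≫ LΦ.mapIso (Triangle.π₁.mapIso e)⟩,
    ⟨(leftDerivedObjIso hΦ Q hQ).symm ≪≫ LΦ.mapIso (Triangle.π₂.mapIso e)⟩,
    ⟨DerivedCategory.Q.mapIso (CochainComplex.mappingCone.mapHomologicalComplexIso φ Φ).symm ≪≫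
      (leftDerivedObjIso hΦ (mappingCone φ) (isKFlat_mappingCone_mod hP hQ φ)).symm ≪≫
        LΦ.mapIso (Triangle.π₃.mapIso e)⟩⟩

/-- Tor amplitude in a distinguished triangle: the middle vertex. -/
theorem isZero_HD₂ {T : Triangle (DCoh.D X)} (hT : T ∈ distinguishedTriangles) (n : ℤ)
    (h₁ : IsZero (DCoh.HD T.obj₁ n)) (h₃ : IsZero (DCoh.HD T.obj₃ n)) :
    IsZero (DCoh.HD T.obj₂ n) :=
  (DerivedCategory.HomologySequence.exact₂ T hT n).isZero_X₂ (h₁.eq_of_src _ _) (h₃.eq_of_tgt _ _)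

theorem isZero_HD₃ {T : Triangle (DCoh.D X)} (hT : T ∈ distinguishedTriangles) (n n' : ℤ)
    (hn : n + 1 = n') (h₁ : IsZero (DCoh.HD T.obj₁ n')) (h₂ : IsZero (DCoh.HD T.obj₂ n)) :
    IsZero (DCoh.HD T.obj₃ n) :=
  (DerivedCategory.HomologySequence.exact₃ T hT n n' hn).isZero_X₂ (h₂.eq_of_src _ _)
    (h₁.eq_of_tgt _ _)

theorem isZero_HD₁ {T : Triangle (DCoh.D X)} (hT : T ∈ distinguishedTriangles) (n n' : ℤ)
    (hn : n + 1 = n') (h₂ : IsZero (DCoh.HD T.obj₂ n')) (h₃ : IsZero (DCoh.HD T.obj₃ n)) :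
    IsZero (DCoh.HD T.obj₁ n') :=
  (DerivedCategory.HomologySequence.exact₁ T hT n n' hn).isZero_X₂ (h₃.eq_of_src _ _)
    (h₂.eq_of_tgt _ _)

theorem exists_triangle_lTensorMod (F : X.Modules) [DCoh.HasLTensorMod F]
    (T : Triangle (DCoh.D X)) (hT : T ∈ distinguishedTriangles) :
    ∃ T' : Triangle (DCoh.D X), T' ∈ distinguishedTriangles ∧
      Nonempty (T'.obj₁ ≅ (DCoh.LTensorMod F).obj T.obj₁) ∧
      Nonempty (T'.obj₂ ≅ (DCoh.LTensorMod F).obj T.obj₂) ∧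
      Nonempty (T'.obj₃ ≅ (DCoh.LTensorMod F).obj T.obj₃) :=
  exists_triangle_leftDerived (preservesKFlatQis_tensorMod F) T hT

theorem torAmplitude₂ {T : Triangle (DCoh.D X)} (hT : T ∈ distinguishedTriangles) {a b : ℤ}
    (h₁ : DCoh.HasTorAmplitudeIn a b T.obj₁) (h₃ : DCoh.HasTorAmplitudeIn a b T.obj₃) :
    DCoh.HasTorAmplitudeIn a b T.obj₂ := by
  intro F hF n hn
  obtain ⟨T', hT', ⟨e₁⟩, ⟨e₂⟩, ⟨e₃⟩⟩ := exists_triangle_lTensorMod F T hT
  let H := DerivedCategory.homologyFunctor X.Modules n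
  exact (isZero_HD₂ hT' n ((h₁ F n hn).of_iso (H.mapIso e₁))
    ((h₃ F n hn).of_iso (H.mapIso e₃))).of_iso (H.mapIso e₂).symm

theorem torAmplitude₃ {T : Triangle (DCoh.D X)} (hT : T ∈ distinguishedTriangles) {a b : ℤ}
    (h₁ : DCoh.HasTorAmplitudeIn (a + 1) (b + 1) T.obj₁) (h₂ : DCoh.HasTorAmplitudeIn a b T.obj₂) :
    DCoh.HasTorAmplitudeIn a b T.obj₃ := by
  intro F hF n hn
  obtain ⟨T', hT', ⟨e₁⟩, ⟨e₂⟩, ⟨e₃⟩⟩ := exists_triangle_lTensorMod F T hT
  exact (isZero_HD₃ hT' n (n + 1) rfl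
    ((h₁ F (n + 1) (by omega)).of_iso ((DerivedCategory.homologyFunctor X.Modules _).mapIso e₁))
    ((h₂ F n hn).of_iso ((DerivedCategory.homologyFunctor X.Modules _).mapIso e₂))).of_iso
      ((DerivedCategory.homologyFunctor X.Modules _).mapIso e₃).symm

theorem torAmplitude₁ {T : Triangle (DCoh.D X)} (hT : T ∈ distinguishedTriangles) {a b : ℤ}
    (h₂ : DCoh.HasTorAmplitudeIn (a + 1) (b + 1) T.obj₂) (h₃ : DCoh.HasTorAmplitudeIn a b T.obj₃) :
    DCoh.HasTorAmplitudeIn (a + 1) (b + 1) T.obj₁ := by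
  intro F hF n hn
  obtain ⟨T', hT', ⟨e₁⟩, ⟨e₂⟩, ⟨e₃⟩⟩ := exists_triangle_lTensorMod F T hT
  exact (isZero_HD₁ hT' (n - 1) n (by omega)
    ((h₂ F n hn).of_iso ((DerivedCategory.homologyFunctor X.Modules _).mapIso e₂))
    ((h₃ F (n - 1) (by omega)).of_iso ((DerivedCategory.homologyFunctor X.Modules _).mapIso e₃))).of_iso
      ((DerivedCategory.homologyFunctor X.Modules _).mapIso e₁).symm

end KFlatLib
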