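import Groth.Agent.KFlatLib.PerfectPull
import Groth.Agent.KFlatLib.Triangle
import Groth.Agent.KFlatLib.DerivedCoprod

/-!
# Pullback of pseudo-coherent objects
-/

set_option autoImplicit false

universe u

open CategoryTheory CategoryTheory.Limits AlgebraicGeometry HomologicalComplex Pretriangulated


attribute [local instance] HasDerivedCategory.standard

namespace KFlatLib

variable {X Y : Scheme.{u}}

/-- The vertex of a triangle vanishes above `m` iff the map is iso above `m` and epi at `m`. -/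
theorem isoAboveEpiAt_iff (T : Triangle (DCoh.D X)) (hT : T ∈ distinguishedTriangles) (m : ℤ) :
    ((∀ i, m < i → IsIso ((DerivedCategory.homologyFunctor X.Modules i).map T.mor₁)) ∧
      Epi ((DerivedCategory.homologyFunctor X.Modules m).map T.mor₁)) ↔
        ∀ i, m ≤ i → IsZero (DCoh.HD T.obj₃ i) := by
  constructor
  · rintro ⟨hi, hm⟩ i hmi
    have hepi : Epi ((DerivedCategory.homologyFunctor X.Modules i).map T.mor₁) := by
      rcases hmi.eq_or_lt with rfl | h
      · exact hm
      · have := hi i h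
        infer_instance
    have hmono : Mono ((DerivedCategory.homologyFunctor X.Modules (i + 1)).map T.mor₁) := by
      have := hi (i + 1) (by omega)
      infer_instance
    exact (DerivedCategory.HomologySequence.exact₃ T hT i (i + 1) rfl).isZero_X₂
      ((DerivedCategory.HomologySequence.epi_homologyMap_mor₁_iff T hT i).mp hepi)
      ((DerivedCategory.HomologySequence.mono_homologyMap_mor₁_iff T hT i (i + 1) rfl).mp hmono)
  · intro h
    have hepi : ∀ i, m ≤ i → Epi ((DerivedCategory.homologyFunctor X.Modules i).map T.mor₁) :=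
      fun i hi => (DerivedCategory.HomologySequence.epi_homologyMap_mor₁_iff T hT i).mpr
        ((h i hi).eq_of_tgt _ _)
    refine ⟨fun i hi => ?_, hepi m le_rfl⟩
    have := hepi i hi.le
    have : Mono ((DerivedCategory.homologyFunctor X.Modules i).map T.mor₁) :=
      (DerivedCategory.HomologySequence.mono_homologyMap_mor₁_iff T hT (i - 1) i (by omega)).mpr
        ((h (i - 1) (by omega)).eq_of_src _ _)
    exact isIso_of_mono_of_epi _

variable (g : X ⟶ Y)

/-- Derived pullback is right t-exact. -/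
theorem isZero_HD_lpull [DCoh.HasLpull g] (K : DCoh.D Y) (m : ℤ)
    (hK : ∀ i, m ≤ i → IsZero (DCoh.HD K i)) (i : ℤ) (hi : m ≤ i) :
    IsZero (DCoh.HD ((DCoh.Lpull g).obj K) i) := by
  have : K.IsLE (m - 1) :=
    (DerivedCategory.isLE_iff K (m - 1)).mpr fun j hj => hK j (by omega)
  obtain ⟨C, hC, ⟨e⟩⟩ := DerivedCategory.exists_iso_Q_obj_of_isLE K (m - 1)
  obtain ⟨L, α, hLb, hLf, hα⟩ := exists_flat_resolution C (m - 1)
    fun j hj => C.isZero_of_isStrictlyLE (m - 1) j hj
  have : IsIso (DerivedCategory.Q.map α) := inferInstance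
  have hL := isKFlat_of_bounded_flat_mod L (m - 1) hLb hLf
  refine IsZero.of_iso ?_ ((DerivedCategory.homologyFunctor X.Modules i).mapIso
    ((DCoh.Lpull g).mapIso (e ≪≫ (asIso (DerivedCategory.Q.map α)).symm) ≪≫
      lpullObjIso g L hL))
  have hzero : ((pullCx g).obj L).ExactAt i :=
    ShortComplex.exact_of_isZero_X₂ _
      ((Scheme.Modules.pullback g).map_isZero (hLb i (by omega)))
  exact IsZero.of_iso ((exactAt_iff_isZero_homology _ i).mp hzero)
    ((DerivedCategory.homologyFunctorFactors X.Modules i).app _)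

/-- Derived pullback preserves "iso above `m`, epi at `m`". -/
theorem isoAboveEpiAt_lpull [DCoh.HasLpull g] {A B : DCoh.D Y} (α : A ⟶ B) (m : ℤ)
    (h : ∀ i, m < i → IsIso ((DerivedCategory.homologyFunctor Y.Modules i).map α))
    (hm : Epi ((DerivedCategory.homologyFunctor Y.Modules m).map α)) :
    (∀ i, m < i →
      IsIso ((DerivedCategory.homologyFunctor X.Modules i).map ((DCoh.Lpull g).map α))) ∧
      Epi ((DerivedCategory.homologyFunctor X.Modules m).map ((DCoh.Lpull g).map α)) := by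
  obtain ⟨C, a, b, hT⟩ := distinguished_cocone_triangle α
  have hC := (isoAboveEpiAt_iff _ hT m).mp ⟨h, hm⟩
  obtain ⟨P, Q, φ, hP, hQ, ⟨e⟩⟩ := exists_kFlat_triangle _ hT
  let Φ := Scheme.Modules.pullback g
  let φ' := (pullCx g).map φ
  let T' := DerivedCategory.Q.mapTriangle.obj (CochainComplex.mappingCone.triangle φ')
  have hT' : T' ∈ distinguishedTriangles := DerivedCategory.mappingCone_triangle_distinguished _
  have hC' : ∀ i, m ≤ i → IsZero (DCoh.HD T'.obj₃ i) := fun i hi =>
    (isZero_HD_lpull g C m hC i hi).of_iso ((DerivedCategory.homologyFunctor X.Modules i).mapIso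
      (DerivedCategory.Q.mapIso (CochainComplex.mappingCone.mapHomologicalComplexIso φ Φ).symm ≪≫
        (lpullObjIso g (CochainComplex.mappingCone φ) (isKFlat_mappingCone_mod hP hQ φ)).symm ≪≫
          (DCoh.Lpull g).mapIso (Triangle.π₃.mapIso e)))
  obtain ⟨h', hm'⟩ := (isoAboveEpiAt_iff T' hT' m).mpr hC'
  let w₀ : Arrow.mk α ≅ Arrow.mk (DerivedCategory.Q.map φ) :=
    Arrow.isoMk (Triangle.π₁.mapIso e).symm (Triangle.π₂.mapIso e).symm e.inv.comm₁.symm
  let w₁ : Arrow.mk ((DCoh.Lpull g).map (DerivedCategory.Q.map φ)) ≅ Arrow.mk T'.mor₁ :=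
    Arrow.isoMk (lpullObjIso g P hP) (lpullObjIso g Q hQ)
      (leftDerivedObjIso_natural (preservesKFlatQis_pull g) hP hQ φ).symm
  have earr : Arrow.mk ((DCoh.Lpull g).map α) ≅ Arrow.mk T'.mor₁ :=
    (DCoh.Lpull g).mapArrow.mapIso w₀ ≪≫ w₁
  exact ⟨fun i hi => ((MorphismProperty.isomorphisms _).arrow_mk_iso_iff
      ((DerivedCategory.homologyFunctor X.Modules i).mapArrow.mapIso earr)).mpr (h' i hi),
    ((MorphismProperty.epimorphisms _).arrow_mk_iso_iff
      ((DerivedCategory.homologyFunctor X.Modules m).mapArrow.mapIso earr)).mpr hm'⟩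

/-- The derived pullback of an `m`-pseudo-coherent object is `m`-pseudo-coherent. -/
theorem isPseudoCoherent_lpull [DCoh.HasLpull g] (m : ℤ) (E : DCoh.D Y)
    (hE : DCoh.IsPseudoCoherentD m E) : DCoh.IsPseudoCoherentD m ((DCoh.Lpull g).obj E) :=
  fun x => by
  obtain ⟨V, hxV, hV⟩ := hE (g x)
  obtain ⟨P, hP, ⟨eP⟩⟩ := exists_good_rep E
  obtain ⟨E0, α, hE0, hα, hαm⟩ := hV P ⟨eP⟩
  have := hasLpull (g ∣_ V)
  refine ⟨g ⁻¹ᵁ V, hxV, fun F hF => ?_⟩
  obtain ⟨eF⟩ := hF
  let eR := restrictLpullIso g V F P hP.1 (eF ≪≫ (DCoh.Lpull g).mapIso eP.symm)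
  let e0 := lpullObjIso (g ∣_ V) E0 (isKFlat_of_isStrictlyPerfect hE0)
  obtain ⟨h1, h2⟩ := isoAboveEpiAt_lpull (g ∣_ V) α m hα hαm
  refine ⟨(pullCx (g ∣_ V)).obj E0, e0.inv ≫ (DCoh.Lpull (g ∣_ V)).map α ≫ eR.inv,
    isStrictlyPerfect_pull _ hE0, fun i hi => ?_, ?_⟩
  · have := h1 i hi
    rw [Functor.map_comp, Functor.map_comp]
    infer_instance
  · have := h2
    rw [Functor.map_comp, Functor.map_comp]
    infer_instance

end KFlatLib
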