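import Groth.Agent.KFlatLib.DerivedTensor
import Groth.Agent.KFlatLib.TorAmpMore
import Groth.Agent.DerLib.KInjUse
import Groth.Agent.ModSiteLib.Grothendieck

/-!
# Coproducts of K-flat complexes
-/

set_option autoImplicit false

universe u

open CategoryTheory CategoryTheory.Limits AlgebraicGeometry MonoidalCategory HomologicalComplex

namespace KFlatLib

variable {R : Type u} [CommRing R] {T : Type u}

/-- `L ⊗ -` preserves coproducts of complexes. -/
noncomputable def isColimitTensorSigma (L : CochainComplex (ModuleCat.{u} R) ℤ)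
    (P : T → CochainComplex (ModuleCat.{u} R) ℤ) :
    IsColimit (Cofan.mk (tT L (∐ P)) fun j => tMap (𝟙 L) (Sigma.ι P j)) := by
  refine isColimitOfEval _ _ fun n => ?_
  refine (isColimitMapCoconeCofanMkEquiv (eval _ _ n) _ _).symm ?_
  exact Cofan.IsColimit.mk (Cofan.mk ((tT L (∐ P)).X n) fun j => (tMap (𝟙 L) (Sigma.ι P j)).f n)
      (fun s => mapBifunctorDesc fun p q h =>
        Cofan.IsColimit.desc
          (isColimitCofanMkObjOfIsColimit (tensorLeft (L.X p)) _ _
            (isColimitCofanMkObjOfIsColimit (eval _ _ q) _ _ (coproductIsCoproduct P)))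
          fun j => ιT L (P j) p q n h ≫ s.inj j)
      (fun s j => mapBifunctor.hom_ext fun p q h => by
        have h' : p + q = n := h
        refine ((Category.assoc _ _ _).symm.trans (congrArg (· ≫ _)
          (ιT_tMap (𝟙 L) (Sigma.ι P j) p q n h'))).trans ?_
        rw [id_f, id_tensorHom, Category.assoc]
        refine (congrArg ((L.X p ◁ (Sigma.ι P j).f q) ≫ ·) (ι_mapBifunctorDesc _ p q h)).trans ?_
        exact Cofan.IsColimit.fac (isColimitCofanMkObjOfIsColimit (tensorLeft (L.X p)) _ _
          (isColimitCofanMkObjOfIsColimit (eval _ _ q) _ _ (coproductIsCoproduct P))) _ j)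
      (fun s m hm => mapBifunctor.hom_ext fun p q h => by
        have h' : p + q = n := h
        refine Cofan.IsColimit.hom_ext (isColimitCofanMkObjOfIsColimit (tensorLeft (L.X p)) _ _
          (isColimitCofanMkObjOfIsColimit (eval _ _ q) _ _ (coproductIsCoproduct P))) _ _ fun j => ?_
        refine Eq.trans ?_ ((congrArg ((L.X p ◁ (Sigma.ι P j).f q) ≫ ·)
          (ι_mapBifunctorDesc _ p q h)).trans (Cofan.IsColimit.fac (isColimitCofanMkObjOfIsColimit
            (tensorLeft (L.X p)) _ _ (isColimitCofanMkObjOfIsColimit (eval _ _ q) _ _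
              (coproductIsCoproduct P))) (fun j => ιT L (P j) p q n h ≫ s.inj j) j)).symm
        have e := ιT_tMap (𝟙 L) (Sigma.ι P j) p q n h'
        rw [id_f, id_tensorHom] at e
        exact (Category.assoc _ _ _).symm.trans ((congrArg (· ≫ m) e.symm).trans
          ((Category.assoc _ _ _).trans (congrArg (_ ≫ ·) (hm j)))))

/-- A coproduct of K-flat complexes is K-flat. -/
theorem isKFlat_sigma_ring (P : T → CochainComplex (ModuleCat.{u} R) ℤ)
    (hP : ∀ j, DRing.IsKFlat R (P j)) : DRing.IsKFlat R (∐ P) := fun L hL i =>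
  ((Groth.Agent.DerLib.AcyclicMono.acyclic_colimit _ (isColimitTensorSigma L P)
    (fun j k => by
      rw [exactAt_iff_isZero_homology]
      exact hP j.as L hL k)) i).isZero_homology

variable {X : Scheme.{u}}

instance isGrothendieckAbelian_modules : IsGrothendieckAbelian.{u} X.Modules :=
  inferInstanceAs (IsGrothendieckAbelian.{u} (SheafOfModules.{u} X.ringCatSheaf))

theorem isKFlat_sigma (P : T → CochainComplex X.Modules ℤ) (hP : ∀ j, DCoh.IsKFlat (P j)) :
    DCoh.IsKFlat (∐ P) := by
  refine isKFlat_of_stalks _ fun x => ?_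
  have : PreservesColimitsOfShape (Discrete T) (stalkCx X x) := inferInstance
  exact isKFlat_ring_of_iso (PreservesCoproduct.iso (stalkCx X x) P).symm
    (isKFlat_sigma_ring _ fun j => stalks_isKFlat (hP j) x)

end KFlatLib
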