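import Groth.Agent.KFlatLib.QCohDev
import Groth.Agent.KFlatLib.TorAmpMore
import Groth.Agent.KFlatLib.CoprodKFlat
import Mathlib.CategoryTheory.Limits.Connected

/-!
# Sequential colimits of complexes and quasi-coherent cohomology
-/

set_option autoImplicit false

universe u

open CategoryTheory CategoryTheory.Limits AlgebraicGeometry HomologicalComplex
open CochainComplex (mappingCone)

attribute [local instance] HasDerivedCategory.standard

namespace KFlatLib

variable {X : Scheme.{u}}

/-- Sequential colimit of complexes, degreewise. -/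
noncomputable abbrev colC : CochainComplex (ℕ ⥤ X.Modules) ℤ ⥤ CochainComplex X.Modules ℤ :=
  (colim (J := ℕ) (C := X.Modules)).mapHomologicalComplex (ComplexShape.up ℤ)

/-- The term at `j`. -/
noncomputable abbrev evC (j : ℕ) :
    CochainComplex (ℕ ⥤ X.Modules) ℤ ⥤ CochainComplex X.Modules ℤ :=
  ((evaluation ℕ X.Modules).obj j).mapHomologicalComplex (ComplexShape.up ℤ)

instance preservesHomology_colimNat :
    (colim (J := ℕ) (C := X.Modules)).PreservesHomology := by
  have : HasFilteredColimitsOfSize.{0, 0} X.Modules := hasFilteredColimitsOfSize_of_univLE.{0, 0, u, u}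
  have : AB5OfSize.{0, 0} X.Modules := AB5OfSize_shrink.{0, 0, u, u} X.Modules
  have : HasExactColimitsOfShape ℕ X.Modules := AB5OfSize.ofShape ℕ
  exact inferInstance

/-- Homology commutes with sequential colimits. -/
noncomputable def homologyColCIso (C : CochainComplex (ℕ ⥤ X.Modules) ℤ) (i : ℤ) :
    (colC.obj C).homology i ≅ colimit (C.homology i) :=
  (C.sc i).mapHomologyIso colim

/-- Homology is computed termwise. -/
noncomputable def homologyEvCIso (C : CochainComplex (ℕ ⥤ X.Modules) ℤ) (i : ℤ) (j : ℕ) :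
    ((evC j).obj C).homology i ≅ (C.homology i).obj j :=
  (C.sc i).mapHomologyIso ((evaluation ℕ X.Modules).obj j)

theorem isQCoh_homology_colC (C : CochainComplex (ℕ ⥤ X.Modules) ℤ) (i : ℤ)
    (h : ∀ j, Coh.IsQCoh (((evC j).obj C).homology i)) :
    Coh.IsQCoh ((colC.obj C).homology i) :=
  haveI : Coh.IsQCoh (colimit (C.homology i)) :=
    QCohLib.isQCoh_of_isColimit (fun _ => inferInstance)
      (fun j => @QCohLib.isQCoh_of_iso _ _ _ (homologyEvCIso C i j) (h j)) (colimit.isColimit _)
  QCohLib.isQCoh_of_iso (homologyColCIso C i).symm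

/-- A sequence which is eventually zero has zero colimit. -/
theorem isZero_colimit_of_eventually (F : ℕ ⥤ X.Modules) (N : ℕ)
    (h : ∀ j, N ≤ j → IsZero (F.obj j)) : IsZero (colimit F) :=
  (IsZero.iff_id_eq_zero _).mpr (colimit.hom_ext fun j => by
    rw [Category.comp_id, comp_zero, ← colimit.w F (homOfLE (le_max_left j N)),
      (h _ (le_max_right j N)).eq_of_tgt (F.map _) 0, zero_comp])

/-- A tower of complexes as a complex of sequences. -/
noncomputable def fam (D : ℕ ⥤ CochainComplex X.Modules ℤ) :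
    CochainComplex (ℕ ⥤ X.Modules) ℤ where
  X n := D ⋙ eval X.Modules (ComplexShape.up ℤ) n
  d m n :=
    { app := fun j => (D.obj j).d m n
      naturality := fun _ _ f => (D.map f).comm m n }
  shape m n h := by
    ext j : 2
    exact (D.obj j).shape m n h
  d_comp_d' l m n _ _ := by
    ext j : 2
    exact (D.obj j).d_comp_d l m n

/-- The terms of a tower. -/
noncomputable def evCFamIso (D : ℕ ⥤ CochainComplex X.Modules ℤ) (j : ℕ) :
    (evC j).obj (fam D) ≅ D.obj j :=
  Hom.isoOfComponents (fun _ => Iso.refl _) (fun _ _ _ =>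
    (Category.id_comp _).trans (Category.comp_id _).symm)

/-- The constant sequence. -/
noncomputable abbrev constC : CochainComplex X.Modules ℤ ⥤ CochainComplex (ℕ ⥤ X.Modules) ℤ :=
  (Functor.const ℕ).mapHomologicalComplex (ComplexShape.up ℤ)

/-- The colimit of a constant sequence. -/
noncomputable def colConstIso (K : CochainComplex X.Modules ℤ) : colC.obj (constC.obj K) ≅ K :=
  Hom.isoOfComponents
    (fun n => (colimit.isColimit _).coconePointUniqueUpToIso (isColimitConstCocone ℕ (K.X n)))
    (fun m n _ => colimit.hom_ext fun j => by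
      have e : ∀ k, colimit.ι ((Functor.const ℕ).obj (K.X k)) j ≫
          ((colimit.isColimit _).coconePointUniqueUpToIso (isColimitConstCocone ℕ (K.X k))).hom =
            𝟙 (K.X k) := fun k =>
        IsColimit.comp_coconePointUniqueUpToIso_hom _ _ j
      refine (reassoc_of% (e m)) (K.d m n) |>.trans ?_
      refine Eq.trans ?_ ((Category.assoc _ _ _).trans (congrArg (_ ≫ ·) rfl))
      change _ = (colimit.ι ((Functor.const ℕ).obj (K.X m)) j ≫
        colimMap ((Functor.const ℕ).map (K.d m n))) ≫ _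
      rw [ι_colimMap, Category.assoc]
      exact (Category.id_comp _).trans (((congrArg (((Functor.const ℕ).map (K.d m n)).app j ≫ ·)
        (e n)).trans (Category.comp_id _)).symm))

/-- Vanishing of the homology of a cone. -/
theorem isZero_homology_cone {P Q : CochainComplex X.Modules ℤ} (g : P ⟶ Q) (i : ℤ)
    (h₀ : QuasiIsoAt g i) (h₁ : QuasiIsoAt g (i + 1)) : IsZero ((mappingCone g).homology i) := by
  let T := DerivedCategory.Q.mapTriangle.obj (CochainComplex.mappingCone.triangle g)
  have hT : T ∈ Pretriangulated.distinguishedTriangles :=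
    DerivedCategory.mappingCone_triangle_distinguished g
  have hiso : ∀ k, QuasiIsoAt g k →
      IsIso ((DerivedCategory.homologyFunctor X.Modules k).map T.mor₁) := fun k hk => by
    have := (quasiIsoAt_iff_isIso_homologyMap g k).mp hk
    exact (NatIso.isIso_map_iff (DerivedCategory.homologyFunctorFactors X.Modules k) g).mpr this
  have := hiso i h₀
  have := hiso (i + 1) h₁
  exact ((DerivedCategory.HomologySequence.exact₃ T hT i (i + 1) rfl).isZero_X₂
    ((DerivedCategory.HomologySequence.epi_homologyMap_mor₁_iff T hT i).mp inferInstance)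
    ((DerivedCategory.HomologySequence.mono_homologyMap_mor₁_iff T hT i (i + 1) rfl).mp
      inferInstance)).of_iso (hdToD (mappingCone g) i).symm

/-- A tower mapping to `K`, eventually a quasi-isomorphism in each degree, computes `K`. -/
theorem quasiIso_colC (C : CochainComplex (ℕ ⥤ X.Modules) ℤ) (K : CochainComplex X.Modules ℤ)
    (β : C ⟶ constC.obj K)
    (h : ∀ i : ℤ, ∃ N : ℕ, ∀ j, N ≤ j → QuasiIsoAt ((evC j).map β) i) :
    QuasiIso (colC.map β ≫ (colConstIso K).hom) := by
  have : QuasiIso (colC.map β) := by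
    rw [← acyclic_cone_iff]
    refine acyclic_of_iso (CochainComplex.mappingCone.mapHomologicalComplexIso β colim) fun i => ?_
    obtain ⟨N₀, h₀⟩ := h i
    obtain ⟨N₁, h₁⟩ := h (i + 1)
    refine (isZero_colimit_of_eventually _ (max N₀ N₁) fun j hj => ?_).of_iso
      (homologyColCIso (mappingCone β) i)
    exact (isZero_homology_cone ((evC j).map β) i (h₀ j (by omega)) (h₁ j (by omega))).of_iso
      ((homologyEvCIso (mappingCone β) i j).symm ≪≫ (homologyFunctor _ _ i).mapIso
        (CochainComplex.mappingCone.mapHomologicalComplexIso β ((evaluation ℕ X.Modules).obj j)))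
  infer_instance

theorem isKFlat_colC_fam (D : ℕ ⥤ CochainComplex X.Modules ℤ) (hD : ∀ j, DCoh.IsKFlat (D.obj j)) :
    DCoh.IsKFlat (colC.obj (fam D)) :=
  isKFlat_of_stalks _ fun x =>
    let c : Cocone (D ⋙ stalkCx X x) :=
      { pt := (stalkCx X x).obj (colC.obj (fam D))
        ι :=
          { app := fun j => (stalkCx X x).map
              { f := fun n => colimit.ι ((fam D).X n) j
                comm' := fun m n _ => ι_colimMap ((fam D).d m n) j }
            naturality := fun i j f => by
              refine ((stalkCx X x).map_comp _ _).symm.trans (Eq.trans ?_ (Category.comp_id _).symm)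
              refine congrArg (stalkCx X x).map (HomologicalComplex.hom_ext _ _ fun n => ?_)
              exact colimit.w ((fam D).X n) f } }
    isKFlat_colim (D ⋙ stalkCx X x) c
      (fun q => IsColimit.ofIsoColimit
        (isColimitOfPreserves (DerSch.stalkFunctor X x) (colimit.isColimit ((fam D).X q)))
        (Cocone.ext (Iso.refl _) (fun _ => Category.comp_id _)))
      fun j => stalks_isKFlat (hD j) x

/-- The inclusion of consecutive truncations. -/
noncomputable def truncStep (K : CochainComplex X.Modules ℤ) (n : ℕ) :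
    K.truncLE n ⟶ K.truncLE ((n + 1 : ℕ) : ℤ) :=
  haveI : (K.truncLE (n : ℤ)).IsStrictlyLE ((n + 1 : ℕ) : ℤ) :=
    CochainComplex.isStrictlyLE_of_le _ (n : ℤ) _ (by omega)
  inv ((K.truncLE (n : ℤ)).ιTruncLE ((n + 1 : ℕ) : ℤ)) ≫
    CochainComplex.truncLEMap (K.ιTruncLE (n : ℤ)) ((n + 1 : ℕ) : ℤ)

theorem truncStep_ι (K : CochainComplex X.Modules ℤ) (n : ℕ) :
    truncStep K n ≫ K.ιTruncLE ((n + 1 : ℕ) : ℤ) = K.ιTruncLE (n : ℤ) := by
  have : (K.truncLE (n : ℤ)).IsStrictlyLE ((n + 1 : ℕ) : ℤ) :=
    CochainComplex.isStrictlyLE_of_le _ (n : ℤ) _ (by omega)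
  rw [truncStep, Category.assoc, CochainComplex.ιTruncLE_naturality, IsIso.inv_hom_id_assoc]

/-- Every object is a colimit of K-flat bounded above ones. -/
theorem exists_colim_rep (K : DCoh.D X) :
    ∃ C : CochainComplex (ℕ ⥤ X.Modules) ℤ, DCoh.IsKFlat (colC.obj C) ∧
      Nonempty (DCoh.toD X (colC.obj C) ≅ K) ∧
      ∀ j : ℕ, DCoh.IsKFlat ((evC j).obj C) ∧ (DCoh.toD X ((evC j).obj C)).IsLE (j : ℤ) ∧
        (DCoh.IsQCohD K → DCoh.IsQCohD (DCoh.toD X ((evC j).obj C))) := by
  let K₀ := DerivedCategory.Q.objPreimage K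
  let eK : DCoh.toD X K₀ ≅ K := DerivedCategory.Q.objObjPreimageIso K
  let T : ℕ ⥤ CochainComplex X.Modules ℤ := Functor.ofSequence (truncStep K₀)
  let D := T ⋙ resP X
  have hg : ∀ {i j : ℕ} (f : i ⟶ j), T.map f ≫ K₀.ιTruncLE (j : ℤ) = K₀.ιTruncLE (i : ℤ) := by
    intro i j f
    obtain ⟨k, rfl⟩ := Nat.le.dest (leOfHom f)
    induction k with
    | zero =>
      rw [Subsingleton.elim f (𝟙 i), CategoryTheory.Functor.map_id]
      exact Category.id_comp _
    | succ k ih =>
      rw [Subsingleton.elim f (homOfLE (Nat.le_add_right i k) ≫ homOfLE (Nat.le_succ (i + k))),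
        Functor.map_comp, Category.assoc]
      refine (congrArg (T.map _ ≫ ·) ?_).trans (ih (homOfLE (Nat.le_add_right i k)))
      refine (congrArg (· ≫ _) (Functor.ofSequence_map_homOfLE_succ (truncStep K₀) (i + k))).trans ?_
      exact truncStep_ι K₀ (i + k)
  let g : ∀ j, D.obj j ⟶ K₀ := fun j => (resψ X).app (T.obj j) ≫ K₀.ιTruncLE (j : ℤ)
  have hw : ∀ {i j : ℕ} (f : i ⟶ j), D.map f ≫ g j = g i := fun {i j} f => by
    change (resP X).map (T.map f) ≫ (resψ X).app (T.obj j) ≫ _ = _
    refine (Category.assoc _ _ _).symm.trans ?_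
    rw [(resψ X).naturality (T.map f)]
    exact (Category.assoc _ _ _).trans (congrArg (_ ≫ ·) (hg f))
  let β : fam D ⟶ constC.obj K₀ :=
    { f := fun n =>
        { app := fun j => (g j).f n
          naturality := fun i j f =>
            (congr($(hw f).f n)).trans (Category.comp_id _).symm }
      comm' := fun m n _ => by
        ext j : 2
        exact (g j).comm m n }
  have hqi : ∀ (i : ℤ) (j : ℕ), i ≤ j → QuasiIsoAt (g j) i := fun i j hij => by
    have := quasiIso_resψ (T.obj j)
    have : QuasiIsoAt (K₀.ιTruncLE (j : ℤ)) i :=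
      CochainComplex.quasiIsoAt_ιTruncLE K₀ _ i hij
    have h₁ : QuasiIsoAt ((resψ X).app (T.obj j)) i :=
      (quasiIso_resψ (T.obj j)).quasiIsoAt i
    exact @quasiIsoAt_comp _ _ _ _ _ _ _ _ ((resψ X).app (T.obj j)) (K₀.ιTruncLE (j : ℤ)) i _ _ _ h₁ this
  have hβ := quasiIso_colC (fam D) K₀ β fun i => ⟨i.toNat, fun j hj =>
    (quasiIsoAt_iff_comp_left (evCFamIso D j).inv _ i).mp
      (by
        rw [show (evCFamIso D j).inv ≫ (evC j).map β = g j from
          HomologicalComplex.hom_ext _ _ fun n => Category.id_comp _]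
        exact hqi i j (by omega))⟩
  refine ⟨fam D, isKFlat_colC_fam D fun j => (good_resP _).1,
    ⟨asIso (DerivedCategory.Q.map (colC.map β ≫ (colConstIso K₀).hom)) ≪≫ eK⟩, fun j => ?_⟩
  have hkf : DCoh.IsKFlat ((evC j).obj (fam D)) :=
    isKFlat_of_stalks _ fun x => isKFlat_ring_of_iso ((stalkCx X x).mapIso (evCFamIso D j)).symm
      (stalks_isKFlat (good_resP (T.obj j)).1 x)
  have := quasiIso_resψ (T.obj j)
  let e : DCoh.toD X ((evC j).obj (fam D)) ≅ DCoh.toD X (K₀.truncLE (j : ℤ)) :=
    DerivedCategory.Q.mapIso (evCFamIso D j) ≪≫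
      @asIso _ _ _ _ (DerivedCategory.Q.map ((resψ X).app (T.obj j)))
        ((DerivedCategory.isIso_Q_map_iff_quasiIso X.Modules _).mpr (quasiIso_resψ (T.obj j)))
  have hle : (DCoh.toD X ((evC j).obj (fam D))).IsLE (j : ℤ) := by
    rw [DerivedCategory.isLE_iff]
    intro i hi
    rw [isZero_HD_iff e.symm i]
    exact (exactAt_iff_isZero_homology _ _).mp (ShortComplex.exact_of_isZero_X₂ _
      ((K₀.truncLE (j : ℤ)).isZero_of_isStrictlyLE (j : ℤ) i hi))
  refine ⟨hkf, hle, fun hK i => ?_⟩
  rcases le_or_gt i (j : ℤ) with hi | hi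
  · have := CochainComplex.quasiIsoAt_ιTruncLE K₀ (j : ℤ) i hi
    have hq : Coh.IsQCoh ((K₀.truncLE (j : ℤ)).homology i) :=
      @QCohLib.isQCoh_of_iso _ _ _ (((DerivedCategory.homologyFunctor X.Modules i).mapIso eK).symm ≪≫
        hdToD K₀ i ≪≫ (isoOfQuasiIsoAt (K₀.ιTruncLE (j : ℤ)) i).symm) (hK i)
    exact @QCohLib.isQCoh_of_iso _ _ _ ((hdToD _ i).symm ≪≫
      (DerivedCategory.homologyFunctor X.Modules i).mapIso e.symm) hq
  · exact isQCoh_zero (DerivedCategory.isZero_of_isLE _ (j : ℤ) i hi)

end KFlatLib
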