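import Groth.Agent.KFlatLib.QCohTerms
import Groth.Agent.KFlatLib.QCohColim
import Groth.Agent.KFlatLib.PCohPull
import Groth.Agent.KFlatLib.FreeModel

/-!
# Derived pullback preserves quasi-coherent cohomology
-/

set_option autoImplicit false

universe u

open CategoryTheory CategoryTheory.Limits AlgebraicGeometry HomologicalComplex TopologicalSpace
open scoped ZeroObject

attribute [local instance] HasDerivedCategory.standard

namespace KFlatLib

variable {X Y : Scheme.{u}}

/-- Restriction of homology sheaves. -/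
noncomputable def restrictHomologyIso (W : X.Opens) (C : CochainComplex X.Modules ℤ) (i : ℤ) :
    (C.homology i).restrict W.ι ≅ ((pullCx W.ι).obj C).homology i :=
  ((C.sc i).mapHomologyIso (Scheme.Modules.restrictFunctor W.ι)).symm ≪≫
    (homologyFunctor _ _ i).mapIso ((restrictCxIso W).app C)

/-- Quasi-coherence of homology is local. -/
theorem isQCoh_homology_of_local (C : CochainComplex X.Modules ℤ) (i : ℤ) {ι : Type u}
    (W : ι → X.Opens) (hW : ⨆ k, W k = ⊤)
    (h : ∀ k, Coh.IsQCoh (((pullCx (W k).ι).obj C).homology i)) : Coh.IsQCoh (C.homology i) :=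
  QCohLib.isQCoh_of_cover _ W hW fun k =>
    @QCohLib.isQCoh_of_iso _ _ _ (restrictHomologyIso (W k) C i).symm (h k)

instance preservesFiniteLimits_pullback_openImmersion (j : X ⟶ Y) [IsOpenImmersion j] :
    PreservesFiniteLimits (Scheme.Modules.pullback j) :=
  preservesFiniteLimits_of_natIso (Scheme.Modules.restrictFunctorIsoPullback j)

instance preservesFiniteColimits_pullback (j : X ⟶ Y) :
    PreservesFiniteColimits (Scheme.Modules.pullback j) :=
  have : PreservesColimitsOfSize.{0, 0} (Scheme.Modules.pullback j) :=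
    (Scheme.Modules.pullbackPushforwardAdjunction j).leftAdjoint_preservesColimits
  PreservesColimitsOfSize.preservesFiniteColimits _

/-- Pullback along an open immersion respects isomorphisms in the derived category. -/
noncomputable def exactPullQIso (j : X ⟶ Y) [IsOpenImmersion j] {F G : CochainComplex Y.Modules ℤ}
    (e : DCoh.toD Y F ≅ DCoh.toD Y G) :
    DCoh.toD X ((pullCx j).obj F) ≅ DCoh.toD X ((pullCx j).obj G) :=
  (((Scheme.Modules.pullback j).mapDerivedCategoryFactors).app F).symm ≪≫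
    (Scheme.Modules.pullback j).mapDerivedCategory.mapIso e ≪≫
    ((Scheme.Modules.pullback j).mapDerivedCategoryFactors).app G

/-- A representative of `M` on an open affine is computed by a free resolution. -/
theorem exists_local_free_rep {R : CommRingCat.{u}} (j : Spec R ⟶ X) [IsOpenImmersion j]
    (M : X.Modules) (hM : Coh.IsQCoh M) (P : CochainComplex X.Modules ℤ)
    (e : DCoh.toD X P ≅ (DerivedCategory.singleFunctor X.Modules 0).obj M) :
    ∃ E : CochainComplex (Spec R).Modules ℤ, DCoh.IsKFlat E ∧ (∀ i, FreeRetr (E.X i)) ∧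
      Nonempty (DCoh.toD _ ((pullCx j).obj P) ≅ DCoh.toD _ E) := by
  have hq : Coh.IsQCoh ((Scheme.Modules.pullback j).obj M) :=
    @QCohLib.isQCoh_of_iso _ _ _ ((Scheme.Modules.restrictFunctorIsoPullback j).app M)
      (@Scheme.Modules.isQuasicoherent_restrictFunctor _ _ j _ M hM)
  obtain ⟨E, hE, hf, ⟨eE⟩⟩ := exists_freeRetr_resolution _ hq
  refine ⟨E, isKFlat_of_bounded_flat_mod E 0 hE fun i => (hf i).isFlat, hf, ⟨?_⟩⟩
  exact exactPullQIso j (e ≪≫ (DerivedCategory.singleFunctorIsoCompQ X.Modules 0).app M) ≪≫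
    DerivedCategory.Q.mapIso
      ((singleMapHomologicalComplex (Scheme.Modules.pullback j) (ComplexShape.up ℤ) 0).app M) ≪≫
    ((DerivedCategory.singleFunctorIsoCompQ (Spec R).Modules 0).app _).symm ≪≫ eE.symm

theorem isQCoh_homology_of_terms (C : CochainComplex X.Modules ℤ) (h : ∀ i, Coh.IsQCoh (C.X i))
    (i : ℤ) : Coh.IsQCoh (C.homology i) := by
  have := h (i - 1)
  have := h i
  have := h (i + 1)
  have hc : Coh.IsQCoh (C.cycles i) :=
    @QCohLib.isQCoh_of_iso _ _ _
      ((kernelIsKernel (C.d i (i + 1))).conePointUniqueUpToIso (C.cyclesIsKernel i (i + 1) (by simp)))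
      (QCohLib.isQCoh_kernel _)
  exact @QCohLib.isQCoh_of_iso _ _ _
    ((cokernelIsCokernel (C.toCycles (i - 1) i)).coconePointUniqueUpToIso
      (C.homologyIsCokernel (i - 1) i (by simp)))
    (@QCohLib.isQCoh_cokernel _ _ _ _ (h (i - 1)) hc)

/-- Derived pullback, as a functor respecting triangles. -/
noncomputable def pullTriFun (f : Y ⟶ X) [DCoh.HasLpull f] : TriFun X Y where
  Λ := DCoh.Lpull f
  zero {K} hK := by
    let Z : CochainComplex X.Modules ℤ := (CochainComplex.singleFunctor X.Modules 0).obj 0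
    have hz : ∀ i, IsZero (Z.X i) := fun i => by
      by_cases hi : i = 0
      · subst hi
        exact (isZero_zero _).of_iso (singleObjXSelf (ComplexShape.up ℤ) 0 (0 : X.Modules))
      · exact isZero_single_obj_X _ 0 _ i hi
    have hZ := isKFlat_of_bounded_flat_mod Z 0 (fun i _ => hz i) fun i => flat_of_isZero (hz i)
    have hz' : IsZero (DCoh.toD X Z) :=
      DerivedCategory.Q.map_isZero ((CochainComplex.singleFunctor X.Modules 0).map_isZero (isZero_zero _))
    refine IsZero.of_iso ?_ ((DCoh.Lpull f).mapIso (hK.iso hz') ≪≫ lpullObjIso f Z hZ)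
    exact DerivedCategory.Q.map_isZero ((pullCx f).map_isZero
      ((CochainComplex.singleFunctor X.Modules 0).map_isZero (isZero_zero _)))
  tri T hT := exists_triangle_leftDerived (preservesKFlatQis_pull f) T hT

theorem pullTriFun_single (f : Y ⟶ X) [DCoh.HasLpull f] (M : X.Modules) (hM : Coh.IsQCoh M) :
    (pullTriFun f).Q ((DerivedCategory.singleFunctor X.Modules 0).obj M) := by
  obtain ⟨P, hP, ⟨eP⟩⟩ := exists_good_rep ((DerivedCategory.singleFunctor X.Modules 0).obj M)
  intro i
  let e : DCoh.HD ((DCoh.Lpull f).obj ((DerivedCategory.singleFunctor X.Modules 0).obj M)) i ≅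
      ((pullCx f).obj P).homology i :=
    (DerivedCategory.homologyFunctor Y.Modules i).mapIso
      ((DCoh.Lpull f).mapIso eP.symm ≪≫ lpullObjIso f P hP.1) ≪≫ hdToD _ i
  refine @QCohLib.isQCoh_of_iso _ _ _ e.symm (isQCoh_homology_of_local _ i
    (fun U : X.affineOpens => f ⁻¹ᵁ U.1) ?_ fun U => ?_)
  · rw [← f.preimage_iSup, QCohLib.iSup_affineOpens_val]
    rfl
  let h : (f ⁻¹ᵁ U.1 : Scheme.{u}) ⟶ Spec Γ(X, U.1) := (f ∣_ U.1) ≫ U.2.isoSpec.hom
  have : IsOpenImmersion U.2.fromSpec := U.2.isOpenImmersion_fromSpec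
  have hw : (f ⁻¹ᵁ U.1).ι ≫ f = h ≫ U.2.fromSpec := by
    rw [Category.assoc, U.2.isoSpec_hom_fromSpec, morphismRestrict_ι]
  obtain ⟨E, hE, hf, ⟨eE⟩⟩ := exists_local_free_rep U.2.fromSpec M hM P eP
  obtain ⟨e'⟩ := pullQIso h (isKFlat_pull U.2.fromSpec hP.1) hE eE
  let c : (pullCx (f ⁻¹ᵁ U.1).ι).obj ((pullCx f).obj P) ≅
      (pullCx h).obj ((pullCx U.2.fromSpec).obj P) :=
    (NatIso.mapHomologicalComplex (Scheme.Modules.pullbackComp (f ⁻¹ᵁ U.1).ι f ≪≫
      Scheme.Modules.pullbackCongr hw ≪≫ (Scheme.Modules.pullbackComp h U.2.fromSpec).symm)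
      (ComplexShape.up ℤ)).app P
  exact @QCohLib.isQCoh_of_iso _ _ _
    ((hdToD ((pullCx h).obj E) i).symm ≪≫
      (DerivedCategory.homologyFunctor _ i).mapIso
        (e'.symm ≪≫ DerivedCategory.Q.mapIso c.symm) ≪≫ hdToD _ i)
    (isQCoh_homology_of_terms _ (fun k => (freeRetr_pull h (hf k)).isQCoh) i)

/-- `Lf^*` preserves quasi-coherent cohomology. -/
theorem isQCohD_lpull (f : Y ⟶ X) [DCoh.HasLpull f] (K : DCoh.D X) (hK : DCoh.IsQCohD K) :
    DCoh.IsQCohD ((DCoh.Lpull f).obj K) := by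
  obtain ⟨C, hC, ⟨eC⟩, hj⟩ := exists_colim_rep K
  refine isQCohD_iso ((lpullObjIso f _ hC).symm ≪≫ (DCoh.Lpull f).mapIso eC) fun i => ?_
  let Φ := Scheme.Modules.pullback f
  have : PreservesColimitsOfSize.{0, 0} Φ :=
    (Scheme.Modules.pullbackPushforwardAdjunction f).leftAdjoint_preservesColimits
  let C' := (((Functor.whiskeringRight ℕ X.Modules Y.Modules).obj Φ).mapHomologicalComplex
    (ComplexShape.up ℤ)).obj C
  let e : (pullCx f).obj (colC.obj C) ≅ colC.obj C' :=
    (NatIso.mapHomologicalComplex (preservesColimitNatIso (J := ℕ) Φ) (ComplexShape.up ℤ)).app C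
  refine @QCohLib.isQCoh_of_iso _ _ _
    ((homologyFunctor _ _ i).mapIso e.symm ≪≫ (hdToD _ i).symm) (isQCoh_homology_colC C' i fun j => ?_)
  obtain ⟨hkf, hle, hqc⟩ := hj j
  have h' : (pullTriFun f).Q (DCoh.toD X ((evC j).obj C)) :=
    (pullTriFun f).q_boundedAbove (pullTriFun_single f) (c := 0)
      (fun L n k hL hk => isZero_HD_lpull f L (n + 1)
        (fun l hl => DerivedCategory.isZero_of_isLE L n l (by omega)) k (by omega))
      (j : ℤ) _ (hqc hK)
  exact @QCohLib.isQCoh_of_iso _ _ _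
    ((DerivedCategory.homologyFunctor Y.Modules i).mapIso (lpullObjIso f _ hkf) ≪≫ hdToD _ i) (h' i)

end KFlatLib
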