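import Groth.Agent.KFlatLib.TorRing
import Groth.Agent.FlatCrit.Quotient
import Mathlib.RingTheory.Flat.Tensor

/-!
# Flat terms of bounded above exact complexes
-/

set_option autoImplicit false

universe u

open CategoryTheory CategoryTheory.Limits HomologicalComplex

namespace KFlatLib

variable {R : Type u} [CommRing R]

/-- A submodule with flat quotient is pure. -/
theorem rTensor_injective_of_flat_quotient {K B Q : Type u} [AddCommGroup K] [Module R K]
    [AddCommGroup B] [Module R B] [AddCommGroup Q] [Module R Q] (f : K →ₗ[R] B) (g : B →ₗ[R] Q)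
    (hf : Function.Injective f) (hfg : Function.Exact f g) (hg : Function.Surjective g)
    [Module.Flat R Q] (N : Type u) [AddCommGroup N] [Module R N] :
    Function.Injective (f.rTensor N) := by
  let p : (N →₀ R) →ₗ[R] N := Finsupp.linearCombination R (id : N → N)
  have hp : Function.Surjective p := fun y => ⟨Finsupp.single y 1, by simp [p]⟩
  let ι : LinearMap.ker p →ₗ[R] (N →₀ R) := (LinearMap.ker p).subtype
  have hι : Function.Exact ι p := fun z => ⟨fun h => ⟨⟨z, h⟩, rfl⟩, fun ⟨w, hw⟩ => hw ▸ w.2⟩
  rw [injective_iff_map_eq_zero]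
  intro t ht
  obtain ⟨t', rfl⟩ := LinearMap.lTensor_surjective K hp t
  have h1 : p.lTensor B (f.rTensor (N →₀ R) t') = 0 := by
    rw [← ht, ← LinearMap.comp_apply, LinearMap.lTensor_comp_rTensor,
      ← LinearMap.rTensor_comp_lTensor, LinearMap.comp_apply]
  obtain ⟨w, hw⟩ := (lTensor_exact B (M := LinearMap.ker p) (N := N →₀ R) (P := N) (f := ι) (g := p) hι hp _).mp h1
  have h2 : g.rTensor (LinearMap.ker p) w = 0 := by
    refine Module.Flat.lTensor_preserves_injective_linearMap (M := Q) ι Subtype.val_injective ?_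
    rw [map_zero, ← LinearMap.comp_apply, LinearMap.lTensor_comp_rTensor,
      ← LinearMap.rTensor_comp_lTensor, LinearMap.comp_apply, hw, ← LinearMap.comp_apply,
      ← LinearMap.rTensor_comp, hfg.linearMap_comp_eq_zero, LinearMap.rTensor_zero,
      LinearMap.zero_apply]
  obtain ⟨v, rfl⟩ := (rTensor_exact (LinearMap.ker p) hfg hg w).mp h2
  have h3 : ι.lTensor K v = t' := by
    refine Module.Flat.rTensor_preserves_injective_linearMap (M := N →₀ R) f hf ?_
    rw [← hw, ← LinearMap.comp_apply, LinearMap.rTensor_comp_lTensor,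
      ← LinearMap.lTensor_comp_rTensor, LinearMap.comp_apply]
  rw [← h3, ← LinearMap.comp_apply, ← LinearMap.lTensor_comp, hι.linearMap_comp_eq_zero,
    LinearMap.lTensor_zero, LinearMap.zero_apply]

/-- The kernel of a surjection of flat modules is flat. -/
theorem flat_kernel {K B Q : Type u} [AddCommGroup K] [Module R K] [AddCommGroup B] [Module R B]
    [AddCommGroup Q] [Module R Q] (f : K →ₗ[R] B) (g : B →ₗ[R] Q)
    (hf : Function.Injective f) (hfg : Function.Exact f g) (hg : Function.Surjective g)
    [Module.Flat R B] [Module.Flat R Q] : Module.Flat R K := by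
  refine Module.Flat.iff_lTensor_injective'.mpr fun I => ?_
  intro x y h
  refine rTensor_injective_of_flat_quotient f g hf hfg hg I
    (Module.Flat.lTensor_preserves_injective_linearMap (M := B) I.subtype Subtype.val_injective ?_)
  rw [← LinearMap.comp_apply, ← LinearMap.comp_apply, LinearMap.lTensor_comp_rTensor,
    ← LinearMap.rTensor_comp_lTensor, LinearMap.comp_apply, LinearMap.comp_apply, h]

variable (C : CochainComplex (ModuleCat.{u} R) ℤ)

/-- In a bounded above exact complex with flat terms above `a`, the cycles above `a` are flat. -/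
theorem flat_cycles_of_acyclic (hC : ∀ i, IsZero (C.homology i)) (a b : ℤ)
    (hb : ∀ i, b < i → IsZero (C.X i)) (hflat : ∀ i, a < i → Module.Flat R (C.X i)) :
    ∀ (n : ℕ) (i : ℤ), a < i → b + 1 - i ≤ n →
      Module.Flat R (LinearMap.ker (C.d i (i + 1)).hom) := by
  intro n
  induction n with
  | zero =>
    intro i _ hin
    have := ModuleCat.subsingleton_of_isZero (hb i (by omega))
    infer_instance
  | succ n ih =>
    intro i hi hin
    have := ih (i + 1) (by omega) (by omega)
    have := hflat i hi
    have hd : ∀ z, (C.d (i + 1) (i + 1 + 1)).hom ((C.d i (i + 1)).hom z) = 0 := fun z => by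
      rw [← LinearMap.comp_apply, ← ModuleCat.hom_comp, C.d_comp_d, ModuleCat.hom_zero,
        LinearMap.zero_apply]
    refine flat_kernel (LinearMap.ker (C.d i (i + 1)).hom).subtype
      ((C.d i (i + 1)).hom.codRestrict (LinearMap.ker (C.d (i + 1) (i + 1 + 1)).hom) hd) Subtype.val_injective ?_ ?_
    · rw [LinearMap.exact_iff, Submodule.range_subtype, LinearMap.ker_codRestrict]
    · rintro ⟨z, hz⟩
      obtain ⟨y, hy⟩ := (isZero_homology_iff_exists C i (i + 1) (i + 1 + 1) rfl rfl).mp (hC _) z hz
      exact ⟨y, Subtype.ext hy⟩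

/-- In an exact complex which is flat except at `a`, bounded above and zero at `a - 2`, the
remaining term is flat. -/
theorem flat_X_of_acyclic (hC : ∀ i, IsZero (C.homology i)) (a b : ℤ)
    (hb : ∀ i, b < i → IsZero (C.X i)) (hflat : ∀ i, a < i → Module.Flat R (C.X i))
    [Module.Flat R (C.X (a - 1))] (h2 : IsZero (C.X (a - 2))) : Module.Flat R (C.X a) := by
  have := flat_cycles_of_acyclic C hC a b hb hflat (b + 1 - (a + 1)).toNat (a + 1) (by omega)
    (by omega)
  have hd : ∀ z, (C.d (a + 1) (a + 1 + 1)).hom ((C.d a (a + 1)).hom z) = 0 := fun z => by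
    rw [← LinearMap.comp_apply, ← ModuleCat.hom_comp, C.d_comp_d, ModuleCat.hom_zero,
      LinearMap.zero_apply]
  refine FlatCrit.flat_of_extension (C.d (a - 1) a).hom
    ((C.d a (a + 1)).hom.codRestrict (LinearMap.ker (C.d (a + 1) (a + 1 + 1)).hom) hd) ?_ ?_ ?_
  · rw [injective_iff_map_eq_zero]
    intro z hz
    obtain ⟨y, rfl⟩ := (isZero_homology_iff_exists C (a - 2) (a - 1) a (by omega) (by omega)).mp
      (hC _) z hz
    have := ModuleCat.subsingleton_of_isZero h2
    rw [Subsingleton.elim y 0, map_zero]
  · intro z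
    constructor
    · intro hz
      exact (isZero_homology_iff_exists C (a - 1) a (a + 1) (by omega) rfl).mp (hC _) z
        (congrArg Subtype.val hz)
    · rintro ⟨y, rfl⟩
      refine Subtype.ext ?_
      change (C.d a (a + 1)).hom ((C.d (a - 1) a).hom y) = 0
      rw [← LinearMap.comp_apply, ← ModuleCat.hom_comp, C.d_comp_d, ModuleCat.hom_zero,
        LinearMap.zero_apply]
  · rintro ⟨z, hz⟩
    obtain ⟨y, hy⟩ := (isZero_homology_iff_exists C a (a + 1) (a + 1 + 1) rfl rfl).mp (hC _) z hz
    exact ⟨y, Subtype.ext hy⟩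

end KFlatLib
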