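import Groth.Agent.KFlatLib.FreeModel
import Mathlib.RingTheory.LocalRing.Module

/-!
# Flat finitely presented modules are finite locally free

Maps out of finite free modules are determined by, and can be lifted from, their stalks near a point.
-/

set_option autoImplicit false

universe u

open CategoryTheory CategoryTheory.Limits AlgebraicGeometry TopologicalSpace Opposite

namespace KFlatLib

variable {X : Scheme.{u}}

/-- The map `freeU U ⟶ freeU V` for `U ≤ V`. -/
noncomputable def resU {U V : X.Opens} (h : U ≤ V) : freeU U ⟶ freeU V :=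
  secMap ((freeU V).presheaf.map (homOfLE h).op (genU V))

theorem resU_comp {U V : X.Opens} (h : U ≤ V) {N : X.Modules} (a : freeU V ⟶ N) :
    resU h ≫ a = secMap (N.presheaf.map (homOfLE h).op (freeUEquiv V N a)) := by
  rw [resU, secMap_comp]
  refine congrArg secMap ((app_map' a (homOfLE h) (genU V)).trans ?_)
  refine congrArg _ ?_
  rw [genU, ← freeUEquiv_comp, Category.id_comp]
where
  app_map' {M N : X.Modules} (φ : M ⟶ N) {U V : X.Opens} (i : U ⟶ V) (s : Γ(M, V)) :
      φ.app U (M.presheaf.map i.op s) = N.presheaf.map i.op (φ.app V s) :=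
    QCohLib.app_map φ i s

theorem isIso_pullback_resU (U : X.Opens) :
    IsIso ((Scheme.Modules.pullback U.ι).map (resU (le_top : U ≤ ⊤))) := by
  refine isIso_of_coyoneda_map_bijective _ fun N => ?_
  let adj := Scheme.Modules.pullbackPushforwardAdjunction U.ι
  let R := (Scheme.Modules.pushforward U.ι).obj N
  have key : ∀ a, adj.homEquiv _ N ((Scheme.Modules.pullback U.ι).map (resU (le_top : U ≤ ⊤)) ≫ a) =
      secMap (R.presheaf.map (homOfLE (le_top : U ≤ ⊤)).op
        (freeUEquiv ⊤ R (adj.homEquiv _ N a))) := fun a =>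
    (adj.homEquiv_naturality_left _ a).trans (resU_comp _ _)
  have heq : (Opens.map U.ι.base).obj U = (Opens.map U.ι.base).obj (⊤ : X.Opens) :=
    Opens.ext (Set.ext fun z => ⟨fun _ => trivial, fun _ => z.2⟩)
  have he : (Opens.map U.ι.base).map (homOfLE (le_top : U ≤ ⊤)) = eqToHom heq :=
    Subsingleton.elim _ _
  have hiso : IsIso (R.presheaf.map (homOfLE (le_top : U ≤ ⊤)).op) := by
    change IsIso (N.presheaf.map ((Opens.map U.ι.base).map (homOfLE (le_top : U ≤ ⊤))).op)
    rw [he]
    infer_instance
  have hb : Function.Bijective (R.presheaf.map (homOfLE (le_top : U ≤ ⊤)).op) :=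
    ConcreteCategory.bijective_of_isIso _
  constructor
  · intro a b h
    have h' := ((key a).symm.trans (congrArg (adj.homEquiv _ N) h)).trans (key b)
    exact (adj.homEquiv _ N).injective ((freeUEquiv ⊤ R).injective
      (hb.1 ((freeUEquiv U R).symm.injective h')))
  · intro c
    obtain ⟨t, ht⟩ := hb.2 (freeUEquiv U R (adj.homEquiv _ N c))
    refine ⟨(adj.homEquiv _ N).symm (secMap t), (adj.homEquiv _ N).injective ?_⟩
    refine (key _).trans ?_
    rw [Equiv.apply_symm_apply, secMap, secMap, Equiv.apply_symm_apply, ht, Equiv.symm_apply_apply]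

section Stalk

variable (x : X)

/-- The germ of the tautological section. -/
noncomputable def genGerm {U : X.Opens} (hx : x ∈ U) :
    (DerSch.stalkFunctor X x).obj (freeU U) :=
  (freeU U).presheaf.germ U x hx (genU U)

theorem genGerm_map {U : X.Opens} (hx : x ∈ U) {N : X.Modules} (a : freeU U ⟶ N) :
    ((DerSch.stalkFunctor X x).map a).hom (genGerm x hx) =
      N.presheaf.germ U x hx (freeUEquiv U N a) := by
  refine (DerSch.stalkFunctor_map_germ x a U hx (genU U)).trans ?_
  rw [genU, ← freeUEquiv_comp, Category.id_comp]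

/-- A linear map out of the stalk of `freeU U` is determined by the image of the generator. -/
theorem stalk_freeU_ext {U : X.Opens} (hx : x ∈ U) {B : ModuleCat.{u} (X.presheaf.stalk x)}
    (f g : (DerSch.stalkFunctor X x).obj (freeU U) ⟶ B)
    (h : f.hom (genGerm x hx) = g.hom (genGerm x hx)) : f = g :=
  (skyHomEquiv x (freeU U) B).injective ((freeUEquiv U _).injective
    (skyObj_ext x B _ _ fun _ => by
      have hf : ∀ f : (DerSch.stalkFunctor X x).obj (freeU U) ⟶ B,
          freeUEquiv U (skyObj x B) (skyHomEquiv x (freeU U) B f) = (skyLift x f).app U (genU U) :=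
        fun f => by
          rw [genU, ← freeUEquiv_comp, Category.id_comp]
          rfl
      exact ((congrArg (skyVal x hx) (hf f)).trans (skyLift_app x f hx _)).trans
        (h.trans ((congrArg (skyVal x hx) (hf g)).trans (skyLift_app x g hx _)).symm)))

/-- The section `1` of the skyscraper of the local ring. -/
noncomputable def oneMap (U : X.Opens) :
    freeU U ⟶ skyObj x (ModuleCat.of (X.presheaf.stalk x) (X.presheaf.stalk x)) :=
  secMap (skyMk x (A := ModuleCat.of (X.presheaf.stalk x) (X.presheaf.stalk x))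
    fun _ => (1 : X.presheaf.stalk x))

/-- The stalk of `freeU U` at a point of `U` is free of rank one. -/
noncomputable def stalkFreeUIso {U : X.Opens} (hx : x ∈ U) :
    (DerSch.stalkFunctor X x).obj (freeU U) ≅
      ModuleCat.of (X.presheaf.stalk x) (X.presheaf.stalk x) where
  hom := (skyHomEquiv x (freeU U) _).symm
    (oneMap x U)
  inv := ModuleCat.ofHom (LinearMap.toSpanSingleton _ _ (genGerm x hx))
  hom_inv_id := stalk_freeU_ext x hx _ _ (by
    change (((skyHomEquiv x (freeU U) _).symm
      (oneMap x U)).hom (genGerm x hx)) • genGerm x hx = _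
    rw [show ((skyHomEquiv x (freeU U) _).symm
      (oneMap x U)).hom (genGerm x hx) =
        (1 : X.presheaf.stalk x) from gen_value, one_smul]
    rfl)
  inv_hom_id := by
    apply ModuleCat.hom_ext
    apply LinearMap.ext_ring
    change ((skyHomEquiv x (freeU U) _).symm
      (oneMap x U)).hom
        ((1 : X.presheaf.stalk x) • genGerm x hx) = (1 : X.presheaf.stalk x)
    rw [one_smul]
    exact gen_value
where
  gen_value {U : X.Opens} {hx : x ∈ U} : ((skyHomEquiv x (freeU U) _).symm
      (oneMap x U)).hom (genGerm x hx) =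
        (1 : X.presheaf.stalk x) := by
    change (skyCounit x _).hom.hom (((DerSch.stalkFunctor X x).map _).hom (genGerm x hx)) = _
    refine (congrArg (skyCounit x _).hom.hom (genGerm_map x hx _)).trans ?_
    rw [oneMap, secMap, Equiv.apply_symm_apply, skyCounit_germ, skyVal_mk]

end Stalk

/-- The comparison `∐ freeU U ⟶ O^q`. -/
noncomputable def resFree (U : X.Opens) (q : ℕ) :
    (∐ fun _ : Fin q => freeU U) ⟶ FlatMod.freeMod X q :=
  Limits.Sigma.map fun _ => resU (le_top : U ≤ ⊤) ≫ (structureIso X).hom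

theorem isIso_pullback_resFree (U : X.Opens) (q : ℕ) :
    IsIso ((Scheme.Modules.pullback U.ι).map (resFree U q)) := by
  have := isIso_pullback_resU U
  let Φ := Scheme.Modules.pullback U.ι
  have h : (PreservesCoproduct.iso Φ fun _ : Fin q => freeU U).inv ≫ Φ.map (resFree U q) =
      Limits.Sigma.map (fun _ : Fin q => Φ.map (resU (le_top : U ≤ ⊤)) ≫ Φ.map (structureIso X).hom) ≫
        (PreservesCoproduct.iso Φ fun _ : Fin q => Coh.structureModule X).inv := by
    refine Sigma.hom_ext _ _ fun j => ?_
    simp only [PreservesCoproduct.inv_hom, ι_comp_sigmaComparison_assoc, Sigma.ι_map_assoc,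
      ι_comp_sigmaComparison, Category.assoc]
    rw [← Functor.map_comp, ← Functor.map_comp, ← Functor.map_comp]
    simp [resFree]
  have : Φ.map (resFree U q) = (PreservesCoproduct.iso Φ fun _ : Fin q => freeU U).hom ≫
      Limits.Sigma.map (fun _ : Fin q => Φ.map (resU (le_top : U ≤ ⊤)) ≫ Φ.map (structureIso X).hom) ≫
        (PreservesCoproduct.iso Φ fun _ : Fin q => Coh.structureModule X).inv := by
    rw [← h, Iso.hom_inv_id_assoc]
  rw [this]
  infer_instance

section Lift

variable (x : X) {U : X.Opens}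

/-- Stalks of pullbacks of maps. -/
theorem isIso_stalk_pullback {Y : Scheme.{u}} (f : Y ⟶ X) (y : Y) {M N : X.Modules} (φ : M ⟶ N)
    [IsIso ((DerSch.stalkFunctor X (f y)).map φ)] :
    IsIso ((DerSch.stalkFunctor Y y).map ((Scheme.Modules.pullback f).map φ)) := by
  have h := (stalkPullIso f y).hom.naturality φ
  have : IsIso ((DerSch.stalkFunctor X (f y) ⋙
      ModuleCat.extendScalars.{u, u, u} (f.stalkMap y).hom).map φ) := by
    rw [Functor.comp_map]
    infer_instance
  exact (NatIso.isIso_map_iff (stalkPullIso f y) φ).mpr this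

theorem stalk_pullback_map {Y : Scheme.{u}} (f : Y ⟶ X) (y : Y) {M N : X.Modules} (φ : M ⟶ N) :
    (DerSch.stalkFunctor Y y).map ((Scheme.Modules.pullback f).map φ) =
      ((stalkPullIso f y).app M).hom ≫ (ModuleCat.extendScalars.{u, u, u} (f.stalkMap y).hom).map
        ((DerSch.stalkFunctor X (f y)).map φ) ≫ ((stalkPullIso f y).app N).inv := by
  rw [← Category.assoc]
  exact (Iso.eq_comp_inv _).mpr ((stalkPullIso f y).hom.naturality φ)

theorem stalk_pullback_congr {Y : Scheme.{u}} (f : Y ⟶ X) (y : Y) {M N : X.Modules} {φ ψ : M ⟶ N}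
    (h : (DerSch.stalkFunctor X (f y)).map φ = (DerSch.stalkFunctor X (f y)).map ψ) :
    (DerSch.stalkFunctor Y y).map ((Scheme.Modules.pullback f).map φ) =
      (DerSch.stalkFunctor Y y).map ((Scheme.Modules.pullback f).map ψ) := by
  rw [stalk_pullback_map, stalk_pullback_map, h]

/-- A linear map out of the stalk of a finite free module lifts to a neighbourhood, on the copies
of `freeU U`. -/
theorem exists_lift {q : ℕ} {N : X.Modules}
    (f : (DerSch.stalkFunctor X x).obj (FlatMod.freeMod X q) ⟶ (DerSch.stalkFunctor X x).obj N) :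
    ∃ (U : X.Opens) (_ : x ∈ U) (h : (∐ fun _ : Fin q => freeU U) ⟶ N),
      (DerSch.stalkFunctor X x).map h = (DerSch.stalkFunctor X x).map (resFree U q) ≫ f := by
  let gT := genGerm x (show x ∈ (⊤ : X.Opens) from trivial)
  let v : Fin q → (DerSch.stalkFunctor X x).obj N := fun j =>
    f.hom (((DerSch.stalkFunctor X x).map ((structureIso X).hom ≫
      Sigma.ι (fun _ : Fin q => Coh.structureModule X) j)).hom gT)
  choose W hW n hn using fun j => N.presheaf.exists_germ_eq (x := x) (v j)
  let U : X.Opens := Finset.univ.inf W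
  have hU : x ∈ U := Finset.inf_induction (p := fun W : X.Opens => x ∈ W) trivial
    (fun _ h₁ _ h₂ => ⟨h₁, h₂⟩) fun i _ => hW i
  refine ⟨U, hU, Sigma.desc fun j => secMap (N.presheaf.map
    (homOfLE (Finset.inf_le (Finset.mem_univ j) : U ≤ W j)).op (n j)), ?_⟩
  refine (cancel_epi (PreservesCoproduct.iso (DerSch.stalkFunctor X x) _).inv).mp
    (Sigma.hom_ext _ _ fun j => ?_)
  simp only [PreservesCoproduct.inv_hom, ι_comp_sigmaComparison_assoc, ← Functor.map_comp,
    ← Functor.map_comp_assoc, Sigma.ι_desc]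
  apply stalk_freeU_ext x hU
  refine (genGerm_map x hU _).trans ?_
  rw [secMap, Equiv.apply_symm_apply, TopCat.Presheaf.germ_res_apply]
  refine (hn j).trans ?_
  refine congrArg f.hom ?_
  rw [resFree, Sigma.ι_map, Category.assoc, Functor.map_comp _ (resU _)]
  refine congrArg (fun t => ((DerSch.stalkFunctor X x).map ((structureIso X).hom ≫
    Sigma.ι (fun _ : Fin q => Coh.structureModule X) j)).hom t) ?_
  refine (TopCat.Presheaf.germ_res_apply (freeU (⊤ : X.Opens)).presheaf
    (homOfLE (le_top : U ≤ ⊤)) x hU (genU ⊤)).symm.trans ?_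
  refine ((genGerm_map x hU _).trans (congrArg _ ?_)).symm
  rw [resU, secMap, Equiv.apply_symm_apply]

/-- Maps out of a finite free module with the same stalk map agree near the point. -/
theorem exists_eq_near {q : ℕ} {N : X.Modules} (φ ψ : FlatMod.freeMod X q ⟶ N)
    (h : (DerSch.stalkFunctor X x).map φ = (DerSch.stalkFunctor X x).map ψ) :
    ∃ U : X.Opens, x ∈ U ∧
      (Scheme.Modules.pullback U.ι).map φ = (Scheme.Modules.pullback U.ι).map ψ := by
  let S := fun (t : FlatMod.freeMod X q ⟶ N) j => freeUEquiv ⊤ N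
    ((structureIso X).hom ≫ Sigma.ι (fun _ : Fin q => Coh.structureModule X) j ≫ t)
  have hg : ∀ j, N.presheaf.germ ⊤ x trivial (S φ j) = N.presheaf.germ ⊤ x trivial (S ψ j) :=
    fun j => by
      rw [← genGerm_map, ← genGerm_map]
      simp only [Functor.map_comp, h]
  choose W hW i₁ i₂ hWe using fun j => TopCat.Presheaf.germ_eq N.presheaf x
    (U := (⊤ : X.Opens)) (V := (⊤ : X.Opens)) trivial trivial (S φ j) (S ψ j) (hg j)
  let U : X.Opens := Finset.univ.inf W
  have hU : x ∈ U := Finset.inf_induction (p := fun W : X.Opens => x ∈ W) trivial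
    (fun _ h₁ _ h₂ => ⟨h₁, h₂⟩) fun i _ => hW i
  refine ⟨U, hU, ?_⟩
  have he : resFree U q ≫ φ = resFree U q ≫ ψ := Sigma.hom_ext _ _ fun j => by
    simp only [resFree, Sigma.ι_map_assoc]
    rw [Category.assoc (resU _), Category.assoc (resU _), resU_comp, resU_comp]
    refine congrArg secMap ?_
    have e := congrArg (N.presheaf.map (homOfLE (Finset.inf_le (Finset.mem_univ j) : U ≤ W j)).op)
      (hWe j)
    rw [← ConcreteCategory.comp_apply, ← ConcreteCategory.comp_apply, ← Functor.map_comp,
      ← Functor.map_comp] at e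
    exact e
  have := isIso_pullback_resFree U q
  rw [← cancel_epi ((Scheme.Modules.pullback U.ι).map (resFree U q)), ← Functor.map_comp,
    ← Functor.map_comp, he]

theorem exists_lift_pullback {q : ℕ} {N : X.Modules}
    (f : (DerSch.stalkFunctor X x).obj (FlatMod.freeMod X q) ⟶ (DerSch.stalkFunctor X x).obj N) :
    ∃ (U : X.Opens) (hU : x ∈ U) (k : (Scheme.Modules.pullback U.ι).obj (FlatMod.freeMod X q) ⟶
      (Scheme.Modules.pullback U.ι).obj N),
      (DerSch.stalkFunctor _ (⟨x, hU⟩ : U)).map k =
        ((stalkPullIso U.ι ⟨x, hU⟩).app _).hom ≫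
          (ModuleCat.extendScalars.{u, u, u} (U.ι.stalkMap ⟨x, hU⟩).hom).map f ≫
          ((stalkPullIso U.ι ⟨x, hU⟩).app _).inv := by
  obtain ⟨U, hU, h, hh⟩ := exists_lift x f
  have := isIso_pullback_resFree U q
  let Φ := Scheme.Modules.pullback U.ι
  refine ⟨U, hU, inv (Φ.map (resFree U q)) ≫ Φ.map h, ?_⟩
  rw [Functor.map_comp, Functor.map_inv, IsIso.inv_comp_eq, stalk_pullback_map, stalk_pullback_map]
  simp only [Category.assoc, Iso.inv_hom_id_assoc, ← Functor.map_comp_assoc]
  exact congrArg (fun t => _ ≫ (ModuleCat.extendScalars.{u, u, u}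
    (U.ι.stalkMap ⟨x, hU⟩).hom).map t ≫ _) hh

end Lift

end KFlatLib
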