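import Groth.Agent.KFlatLib.ResolProps
import Mathlib.Algebra.Homology.HomotopyCategory.Acyclic

/-!
# Quasi-isomorphisms of K-flat complexes, factorisation through K-flat complexes
-/

set_option autoImplicit false

universe u

open CategoryTheory CategoryTheory.Limits AlgebraicGeometry HomologicalComplex
open CochainComplex (mappingCone)

namespace KFlatLib

variable {X : Scheme.{u}}

theorem quasiIso_tensor_left {K : CochainComplex X.Modules ℤ} (hK : DCoh.IsKFlat K)
    {P Q : CochainComplex X.Modules ℤ} (α : P ⟶ Q) [QuasiIso α] :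
    QuasiIso (((DCoh.tensorCx (X := X)).obj K).map α) := by
  change QuasiIso (mapBifunctorMap (𝟙 K) α (DCoh.tensorBi (X := X)) (ComplexShape.up ℤ))
  rw [quasiIso_mapBifunctorMap_iff]
  intro x
  rw [CategoryTheory.Functor.map_id]
  exact quasiIso_tMap_left (stalks_isKFlat hK x) _

theorem quasiIso_tensor_of_kFlat {P Q : CochainComplex X.Modules ℤ} (α : P ⟶ Q) [QuasiIso α]
    (hP : DCoh.IsKFlat P) (hQ : DCoh.IsKFlat Q) (F : CochainComplex X.Modules ℤ) :
    QuasiIso (((DCoh.tensorCx (X := X)).obj F).map α) := by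
  have : QuasiIso ((resψ X).app F) := quasiIso_resψ F
  let q : (resP X).obj F ⟶ F := (resψ X).app F
  have : QuasiIso q := quasiIso_resψ F
  have h1 : QuasiIso (((DCoh.tensorCx (X := X)).obj ((resP X).obj F)).map α) :=
    quasiIso_tensor_left (good_resP F).1 α
  have h2 : QuasiIso (((DCoh.tensorCx (X := X)).map q).app P) :=
    quasiIso_bimap₁ (DCoh.tensorBi (X := X)) P hP q
  have h3 : QuasiIso (((DCoh.tensorCx (X := X)).map q).app Q) :=
    quasiIso_bimap₁ (DCoh.tensorBi (X := X)) Q hQ q
  have e := ((DCoh.tensorCx (X := X)).map q).naturality α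
  have : QuasiIso (((DCoh.tensorCx (X := X)).map q).app P ≫
      ((DCoh.tensorCx (X := X)).obj F).map α) := by
    rw [← e]
    infer_instance
  exact quasiIso_of_comp_left (((DCoh.tensorCx (X := X)).map q).app P) _

theorem isKFlat_contractible {C : CochainComplex X.Modules ℤ} (h : Homotopy (𝟙 C) 0) :
    DCoh.IsKFlat C := isKFlat_of_stalks C fun x L _ =>
  acyclic_tensor_symm fun i => isZero_homology_of_contractible
    (contractibleBimap₁ (MonoidalCategory.curriedTensor (ModuleCat.{u} (X.presheaf.stalk x))) L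
      ((Homotopy.ofEq ((stalkCx X x).map_id C).symm).trans
        (((DerSch.stalkFunctor X x).mapHomotopy h).trans
          (Homotopy.ofEq ((stalkCx X x).map_zero C C))))) i

theorem isKFlat_cone {A K : CochainComplex X.Modules ℤ} (hA : Good A) (hK : DCoh.IsKFlat K)
    (φ : A ⟶ K) : DCoh.IsKFlat (mappingCone φ) ∧
      ((∀ n, FlatMod.IsFlat (K.X n)) → ∀ n, FlatMod.IsFlat ((mappingCone φ).X n)) := by
  have hflat : ∀ n x, Module.Flat (X.presheaf.stalk x)
      ((DerSch.stalkFunctor X x).obj ((A⟦(1 : ℤ)⟧).X n)) := fun n x => hA.2 (n + 1) x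
  have hs : DCoh.IsKFlat (A⟦(1 : ℤ)⟧) := by
    let S₀ := CochainComplex.mappingCone.triangleRotateShortComplex (𝟙 A)
    exact isKFlat_of_stalks _ fun x L hL =>
      (kFlat_two_out_of_three S₀ (shortExact_of_degSplit
        (CochainComplex.mappingCone.triangleRotateShortComplexSplitting (𝟙 A))) hflat x (L := L)).1
        (stalks_isKFlat hA.1 x L hL)
        (stalks_isKFlat (isKFlat_contractible (coneIdContractible A)) x L hL)
  let S := CochainComplex.mappingCone.triangleRotateShortComplex φ
  let hsplit : DegSplit S := CochainComplex.mappingCone.triangleRotateShortComplexSplitting φ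
  refine ⟨isKFlat_of_stalks _ fun x L hL =>
    (kFlat_two_out_of_three S (shortExact_of_degSplit hsplit) hflat x (L := L)).2.1
      (stalks_isKFlat hK x L hL) (stalks_isKFlat hs x L hL), fun h n x => ?_⟩
  exact @flat_of_splitting _ _ _ ((hsplit n).map (DerSch.stalkFunctor X x)) (h n x) (hflat n x)

/-- The split sequence of a biproduct. -/
noncomputable def biprodSplit (A B : CochainComplex X.Modules ℤ) :
    DegSplit (ShortComplex.mk (biprod.inl : A ⟶ A ⊞ B) biprod.snd biprod.inl_snd) := fun n =>
  (ShortComplex.Splitting.map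
    { r := biprod.fst, s := biprod.inr, f_r := biprod.inl_fst, s_g := biprod.inr_snd,
      id := biprod.total } (eval X.Modules (ComplexShape.up ℤ) n))

theorem isKFlat_biprod {A B : CochainComplex X.Modules ℤ} (hA : DCoh.IsKFlat A) (hB : Good B) :
    DCoh.IsKFlat (A ⊞ B) ∧
      ((∀ n, FlatMod.IsFlat (A.X n)) → ∀ n, FlatMod.IsFlat ((A ⊞ B).X n)) :=
  ⟨isKFlat_of_stalks _ fun x L hL =>
    (kFlat_two_out_of_three _ (shortExact_of_degSplit (biprodSplit A B)) hB.2 x (L := L)).2.1
      (stalks_isKFlat hA x L hL) (stalks_isKFlat hB.1 x L hL),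
    fun h n x => @flat_of_splitting _ _ _ ((biprodSplit A B n).map (DerSch.stalkFunctor X x))
      (h n x) (hB.2 n x)⟩

theorem exists_factor_kFlat {K L : CochainComplex X.Modules ℤ} (a : K ⟶ L) (hK : DCoh.IsKFlat K) :
    ∃ (N : CochainComplex X.Modules ℤ) (b : K ⟶ N) (c : N ⟶ L), DCoh.IsKFlat N ∧ QuasiIso c ∧
      a = b ≫ c ∧ ((∀ n : ℤ, FlatMod.IsFlat (K.X n)) → ∀ n : ℤ, FlatMod.IsFlat (N.X n)) := by
  let RK := (resP X).obj K
  let RL := (resP X).obj L
  let qK : RK ⟶ K := (resψ X).app K
  let qL : RL ⟶ L := (resψ X).app L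
  let Ra : RK ⟶ RL := (resP X).map a
  let φ : RK ⟶ K ⊞ RL := biprod.lift qK (-Ra)
  have hzero : φ ≫ biprod.desc a qL = 0 := by
    rw [biprod.lift_desc, Preadditive.neg_comp,
      show Ra ≫ qL = qK ≫ a from (resψ X).naturality a, add_neg_cancel]
  let c : mappingCone φ ⟶ L := CochainComplex.mappingCone.desc φ 0 (biprod.desc a qL)
    (by rw [CochainComplex.HomComplex.δ_zero, hzero, CochainComplex.HomComplex.Cochain.ofHom_zero])
  have hc : ∀ n, (CochainComplex.mappingCone.inr φ).f n ≫ c.f n = (biprod.desc a qL).f n :=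
    fun n => CochainComplex.mappingCone.inr_f_desc_f _ _ _ _ n
  let i : RL ⟶ mappingCone φ := biprod.inr ≫ CochainComplex.mappingCone.inr φ
  let p : mappingCone φ ⟶ mappingCone qK :=
    CochainComplex.mappingCone.map φ qK (𝟙 RK) (biprod.fst : K ⊞ RL ⟶ K)
      (by rw [biprod.lift_fst, Category.id_comp])
  have hip : i ≫ p = 0 := by
    ext n : 1
    simp only [i, p, comp_f, Category.assoc, CochainComplex.mappingCone.map,
      CochainComplex.mappingCone.inr_f_desc_f, zero_f]
    rw [← Category.assoc, ← comp_f, biprod.inr_fst, zero_f, zero_comp]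
  have hid : ∀ n : ℤ, ((CochainComplex.mappingCone.snd φ).v n n (add_zero n) ≫
      (biprod.snd : K ⊞ RL ⟶ RL).f n) ≫ i.f n + p.f n ≫
        ((CochainComplex.mappingCone.fst qK).1.v n (n + 1) rfl ≫
          (CochainComplex.mappingCone.inl φ).v (n + 1) n (by omega) +
        (CochainComplex.mappingCone.snd qK).v n n (add_zero n) ≫
          (biprod.inl : K ⟶ K ⊞ RL).f n ≫ (CochainComplex.mappingCone.inr φ).f n) =
      𝟙 ((mappingCone φ).X n) := by
    intro n
    refine (CochainComplex.mappingCone.ext_from_iff φ (n + 1) n rfl _ _).mpr ⟨?_, ?_⟩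
    · simp [p, i, CochainComplex.mappingCone.map]
    · simp [p, i, CochainComplex.mappingCone.map]
      rw [← Category.assoc, ← Category.assoc ((biprod.fst : K ⊞ RL ⟶ K).f n),
        ← Preadditive.add_comp, ← comp_f, ← comp_f, ← add_f_apply,
        add_comm (biprod.snd ≫ biprod.inr), biprod.total, id_f, Category.id_comp]
  let T : ShortComplex (CochainComplex X.Modules ℤ) := ShortComplex.mk i p hip
  have hT : DegSplit T := fun n =>
  { r := (CochainComplex.mappingCone.snd φ).v n n (add_zero n) ≫ (biprod.snd : K ⊞ RL ⟶ RL).f n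
    s := (CochainComplex.mappingCone.fst qK).1.v n (n + 1) rfl ≫
        (CochainComplex.mappingCone.inl φ).v (n + 1) n (by omega) +
      (CochainComplex.mappingCone.snd qK).v n n (add_zero n) ≫ (biprod.inl : K ⟶ K ⊞ RL).f n ≫
        (CochainComplex.mappingCone.inr φ).f n
    f_r := by
      change ((biprod.inr : RL ⟶ K ⊞ RL).f n ≫ (CochainComplex.mappingCone.inr φ).f n) ≫
        (CochainComplex.mappingCone.snd φ).v n n (add_zero n) ≫
          (biprod.snd : K ⊞ RL ⟶ RL).f n = 𝟙 (RL.X n)
      rw [Category.assoc, CochainComplex.mappingCone.inr_f_snd_v_assoc, ← comp_f,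
        biprod.inr_snd, id_f]
    s_g := by
      change (_ + _) ≫ p.f n = 𝟙 ((mappingCone qK).X n)
      refine (CochainComplex.mappingCone.ext_from_iff qK (n + 1) n rfl _ _).mpr ⟨?_, ?_⟩
      · simp only [p, CochainComplex.mappingCone.map, Preadditive.add_comp, Preadditive.comp_add,
          Category.assoc, CochainComplex.mappingCone.inl_v_fst_v_assoc,
          CochainComplex.mappingCone.inl_v_snd_v_assoc, zero_comp, add_zero,
          CochainComplex.mappingCone.inl_v_desc_f, Category.comp_id,
          CochainComplex.HomComplex.Cochain.zero_cochain_comp_v,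
          CochainComplex.HomComplex.Cochain.ofHom_v, id_f, Category.id_comp]
      · simp only [p, CochainComplex.mappingCone.map, Preadditive.add_comp, Preadditive.comp_add,
          Category.assoc, CochainComplex.mappingCone.inr_f_fst_v_assoc,
          CochainComplex.mappingCone.inr_f_snd_v_assoc, zero_comp, zero_add,
          CochainComplex.mappingCone.inr_f_desc_f, Category.comp_id, comp_f]
        rw [← Category.assoc, ← comp_f, biprod.inl_fst, id_f, Category.id_comp]
    id := hid n }
  have hqK : QuasiIso qK := quasiIso_resψ K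
  have hcone : ∀ j, IsZero ((mappingCone qK).homology j) := by
    exact fun j => isZero_homology_cone qK j
  have : QuasiIso i := quasiIso_f_of_acyclic (shortExact_of_degSplit hT) hcone
  have hic : i ≫ c = qL := by
    ext n : 1
    rw [comp_f, comp_f, Category.assoc, hc, ← comp_f, biprod.inr_desc]
  refine ⟨mappingCone φ, biprod.inl ≫ CochainComplex.mappingCone.inr φ, c, ?_, ?_, ?_, ?_⟩
  · exact (isKFlat_cone (good_resP K) (isKFlat_biprod hK (good_resP L)).1 φ).1
  · have : QuasiIso (i ≫ c) := by rw [hic]; exact quasiIso_resψ L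
    exact quasiIso_of_comp_left i c
  · ext n : 1
    rw [comp_f, comp_f, Category.assoc, hc, ← comp_f, biprod.inl_desc]
  · intro h
    exact (isKFlat_cone (good_resP K) (isKFlat_biprod hK (good_resP L)).1 φ).2
      ((isKFlat_biprod hK (good_resP L)).2 h)
where
  isZero_homology_cone {A K : CochainComplex X.Modules ℤ} (f : A ⟶ K) [QuasiIso f] (j : ℤ) :
      IsZero ((mappingCone f).homology j) := by
    let T : Pretriangulated.Triangle (HomotopyCategory X.Modules (ComplexShape.up ℤ)) :=
      CochainComplex.mappingCone.triangleh f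
    have hT : T ∈ Pretriangulated.distinguishedTriangles :=
      HomotopyCategory.mappingCone_triangleh_distinguished f
    have hq : HomotopyCategory.quasiIso X.Modules (ComplexShape.up ℤ) T.mor₁ :=
      (HomotopyCategory.quotient_map_mem_quasiIso_iff f).mpr
        ((HomologicalComplex.mem_quasiIso_iff _).mpr inferInstance)
    rw [HomotopyCategory.quasiIso_eq_trW_subcategoryAcyclic,
      ObjectProperty.trW_iff_of_distinguished _ T hT] at hq
    exact (exactAt_iff_isZero_homology _ _).mp
      ((HomotopyCategory.quotient_obj_mem_subcategoryAcyclic_iff_exactAt _).mp hq j)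

end KFlatLib
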