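import Groth.Agent.KFlatLib.PullKFlat
import Groth.Agent.KFlatLib.Factor
import Groth.Prelude.Def_DTor2

/-!
# Derived tensor products exist
-/

set_option autoImplicit false

universe u

open CategoryTheory CategoryTheory.Limits AlgebraicGeometry MonoidalCategory HomologicalComplex

namespace KFlatLib

variable {R : Type u} [CommRing R]

theorem acyclic_tensorRight {K : CochainComplex (ModuleCat.{u} R) ℤ} (hK : DRing.IsKFlat R K)
    (hK0 : Acyclic' K) (N : ModuleCat.{u} R) :
    Acyclic' (((tensorRight N).mapHomologicalComplex (ComplexShape.up ℤ)).obj K) :=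
  acyclic_of_iso ((NatIso.mapHomologicalComplex (BraidedCategory.tensorLeftIsoTensorRight N)
    (ComplexShape.up ℤ)).app K) (acyclic_tensorLeft hK hK0 N)

theorem quasiIso_tensorRight {P Q : CochainComplex (ModuleCat.{u} R) ℤ} (hP : DRing.IsKFlat R P)
    (hQ : DRing.IsKFlat R Q) (g : P ⟶ Q) [QuasiIso g] (N : ModuleCat.{u} R) :
    QuasiIso (((tensorRight N).mapHomologicalComplex (ComplexShape.up ℤ)).map g) :=
  quasiIso_map_of_cone _ g
    (acyclic_tensorRight (isKFlat_mappingCone hP hQ g) ((acyclic_cone_iff g).mpr inferInstance) N)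

variable {X : Scheme.{u}}

/-- `(N ⊗ M)_x ≅ N_x ⊗ M_x`, as functors in `N`. -/
noncomputable def stalkTensorRightIso (x : X) (M : X.Modules) :
    DerSch.stalkFunctor X x ⋙ tensorRight ((DerSch.stalkFunctor X x).obj M) ≅
      DCoh.tensorRightMod M ⋙ DerSch.stalkFunctor X x :=
  NatIso.ofComponents (fun N => stalkTensorIso N M x)
    (fun f => stalkTensorIso_natural_left (N := M) x f)

/-- `- ⊗ M` of complexes of modules. -/
noncomputable abbrev tensorModCx (M : X.Modules) :
    CochainComplex X.Modules ℤ ⥤ CochainComplex X.Modules ℤ :=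
  (DCoh.tensorRightMod M).mapHomologicalComplex (ComplexShape.up ℤ)

/-- Stalks of `K ⊗ M`. -/
noncomputable def stalkTensorModCxIso (x : X) (M : X.Modules) (K : CochainComplex X.Modules ℤ) :
    ((tensorRight ((DerSch.stalkFunctor X x).obj M)).mapHomologicalComplex (ComplexShape.up ℤ)).obj
        ((stalkCx X x).obj K) ≅
      (stalkCx X x).obj ((tensorModCx M).obj K) :=
  Hom.isoOfComponents (fun n => (stalkTensorRightIso x M).app (K.X n))
    (fun i j _ => ((stalkTensorRightIso x M).hom.naturality (K.d i j)).symm)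

theorem quasiIso_tensorMod {P Q : CochainComplex X.Modules ℤ} (hP : DCoh.IsKFlat P)
    (hQ : DCoh.IsKFlat Q) (g : P ⟶ Q) [QuasiIso g] (M : X.Modules) :
    QuasiIso ((tensorModCx M).map g) := by
  rw [quasiIso_iff_stalks]
  intro x
  have : QuasiIso ((stalkCx X x).map g) := (quasiIso_iff_stalks g).mp inferInstance x
  have := quasiIso_tensorRight (stalks_isKFlat hP x) (stalks_isKFlat hQ x) ((stalkCx X x).map g)
    ((DerSch.stalkFunctor X x).obj M)
  have h : ((tensorRight ((DerSch.stalkFunctor X x).obj M)).mapHomologicalComplex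
        (ComplexShape.up ℤ)).map ((stalkCx X x).map g) ≫ (stalkTensorModCxIso x M Q).hom =
      (stalkTensorModCxIso x M P).hom ≫ (stalkCx X x).map ((tensorModCx M).map g) :=
    HomologicalComplex.hom_ext _ _ fun n => (stalkTensorRightIso x M).hom.naturality (g.f n)
  have : QuasiIso ((stalkTensorModCxIso x M P).hom ≫ (stalkCx X x).map ((tensorModCx M).map g)) := by
    rw [← h]
    infer_instance
  exact quasiIso_of_comp_left (stalkTensorModCxIso x M P).hom _

theorem quasiIso_tensorCx_fixedRight {P Q : CochainComplex X.Modules ℤ} (hP : DCoh.IsKFlat P)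
    (hQ : DCoh.IsKFlat Q) (g : P ⟶ Q) [QuasiIso g] (E : CochainComplex X.Modules ℤ) :
    QuasiIso (((DCoh.tensorCx (X := X)).map g).app E) := by
  have h : QuasiIso (mapBifunctorMap (𝟙 E) g (DCoh.tensorBi (X := X)) (ComplexShape.up ℤ)) :=
    quasiIso_tensor_of_kFlat g hP hQ E
  change QuasiIso (mapBifunctorMap g (𝟙 E) (DCoh.tensorBi (X := X)) (ComplexShape.up ℤ))
  rw [quasiIso_mapBifunctorMap_iff] at h ⊢
  intro x
  have := h x
  have e := tensorFlipIso_natural ((stalkCx X x).map (𝟙 E)) ((stalkCx X x).map g)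
  have : QuasiIso (tMap ((stalkCx X x).map g) ((stalkCx X x).map (𝟙 E)) ≫
      (tensorFlipIso ((stalkCx X x).obj E) ((stalkCx X x).obj Q)).hom) := by
    rw [e]
    infer_instance
  exact quasiIso_of_comp_right (tMap ((stalkCx X x).map g) ((stalkCx X x).map (𝟙 E)))
    (tensorFlipIso ((stalkCx X x).obj E) ((stalkCx X x).obj Q)).hom

theorem preservesKFlatQis_tensorMod (M : X.Modules) : PreservesKFlatQis (DCoh.tensorRightMod M) :=
  fun _ _ g hP hQ _ => quasiIso_tensorMod hP hQ g M

attribute [local instance] HasDerivedCategory.standard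

theorem hasLTensorMod (M : X.Modules) : DCoh.HasLTensorMod M :=
  hasLeftDerived_of_kFlat (preservesKFlatQis_tensorMod M)

theorem hasLTensorCx (E : CochainComplex X.Modules ℤ) : DCoh.HasLTensorCx E := by
  let W := HomologicalComplex.quasiIso X.Modules (ComplexShape.up ℤ)
  have hiso : ∀ {P Q : CochainComplex X.Modules ℤ} (g : P ⟶ Q), Good P → Good Q → QuasiIso g →
      IsIso ((DCoh.tensorCxQ E).map g) := by
    intro P Q g hP hQ hg
    have := quasiIso_tensorCx_fixedRight hP.1 hQ.1 g E
    exact inferInstanceAs (IsIso (DerivedCategory.Q.map (((DCoh.tensorCx (X := X)).map g).app E)))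
  refine hasLeftDerived_of_res DerivedCategory.Q W _ (resP X) (resψ X) (fun K => quasiIso_resψ K)
    (fun K => hiso _ (good_resP _) (good_resP _) (quasiIso_resψ _)) fun K L f (hf : QuasiIso f) =>
    hiso _ (good_resP K) (good_resP L) ?_
  have := quasiIso_resψ K
  have := quasiIso_resψ L
  have : QuasiIso ((resP X).map f ≫ (resψ X).app L) := by
    rw [(resψ X).naturality f]
    change QuasiIso ((resψ X).app K ≫ f)
    exact quasiIso_comp _ _
  exact quasiIso_of_comp_right ((resP X).map f) ((resψ X).app L)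

/-- `Lf^*` of a K-flat complex. -/
noncomputable def lpullObjIso {Y : Scheme.{u}} (f : X ⟶ Y) [DCoh.HasLpull f]
    (K : CochainComplex Y.Modules ℤ) (hK : DCoh.IsKFlat K) :
    (DCoh.Lpull f).obj (DCoh.toD Y K) ≅ DCoh.toD X ((pullCx f).obj K) :=
  leftDerivedObjIso (preservesKFlatQis_pull f) K hK

/-- `- ⊗^L M` of a K-flat complex. -/
noncomputable def lTensorModObjIso (M : X.Modules) [DCoh.HasLTensorMod M]
    (K : CochainComplex X.Modules ℤ) (hK : DCoh.IsKFlat K) :
    (DCoh.LTensorMod M).obj (DCoh.toD X K) ≅ DCoh.toD X ((tensorModCx M).obj K) :=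
  leftDerivedObjIso (preservesKFlatQis_tensorMod M) K hK

theorem isIso_tensorCxQ_map (E : CochainComplex X.Modules ℤ) {P Q : CochainComplex X.Modules ℤ}
    (g : P ⟶ Q) (hP : DCoh.IsKFlat P) (hQ : DCoh.IsKFlat Q) (hg : QuasiIso g) :
    IsIso ((DCoh.tensorCxQ E).map g) :=
  have := quasiIso_tensorCx_fixedRight hP hQ g E
  inferInstanceAs (IsIso (DerivedCategory.Q.map (((DCoh.tensorCx (X := X)).map g).app E)))

/-- `- ⊗^L E` of a K-flat complex. -/
theorem exists_lTensorCxObjIso (E : CochainComplex X.Modules ℤ) [DCoh.HasLTensorCx E]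
    (K : CochainComplex X.Modules ℤ) (hK : DCoh.IsKFlat K) :
    Nonempty ((DCoh.LTensorCx E).obj (DCoh.toD X K) ≅
      DCoh.toD X (((DCoh.tensorCx (X := X)).obj K).obj E)) := by
  let W := HomologicalComplex.quasiIso X.Modules (ComplexShape.up ℤ)
  have hR : W.IsInvertedBy (resP X ⋙ DCoh.tensorCxQ E) := fun K L f (hf : QuasiIso f) => by
    refine isIso_tensorCxQ_map E _ (good_resP K).1 (good_resP L).1 ?_
    have := quasiIso_resψ K
    have := quasiIso_resψ L
    have : QuasiIso ((resP X).map f ≫ (resψ X).app L) := by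
      rw [(resψ X).naturality f]
      change QuasiIso ((resψ X).app K ≫ f)
      exact quasiIso_comp _ _
    exact quasiIso_of_comp_right ((resP X).map f) ((resψ X).app L)
  have h := isRightKanExtension_derivedOfRes DerivedCategory.Q W (DCoh.tensorCxQ E) (resP X)
    (resψ X) (fun K => quasiIso_resψ K)
    (fun K => isIso_tensorCxQ_map E _ (good_resP _).1 (good_resP _).1 (quasiIso_resψ _)) hR
  have h' : (DCoh.LTensorCx E).IsRightKanExtension
      ((DCoh.tensorCxQ E).totalLeftDerivedCounit DerivedCategory.Q W) :=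
    Functor.IsLeftDerivedFunctor.isRightKanExtension _ _ W
  have : IsIso ((derivedOfResα DerivedCategory.Q W (DCoh.tensorCxQ E) (resP X) (resψ X) hR).app K) := by
    rw [derivedOfResα_app]
    exact @IsIso.comp_isIso _ _ _ _ _ _ _
      (inferInstanceAs (IsIso ((Localization.fac _ hR DerivedCategory.Q).app K).hom))
      (isIso_tensorCxQ_map E _ (good_resP K).1 hK (quasiIso_resψ K))
  exact ⟨@asIso _ _ _ _ _ (isIso_app_of_isRightKanExtension _ _
    ((DCoh.tensorCxQ E).totalLeftDerivedCounit DerivedCategory.Q W)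
    (derivedOfResα DerivedCategory.Q W (DCoh.tensorCxQ E) (resP X) (resψ X) hR) K)⟩

end KFlatLib
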