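import Mathlib.Algebra.Category.ModuleCat.Presheaf.Monoidal
import Mathlib.Algebra.Category.ModuleCat.Stalk

/-!
# The stalk of a tensor product of presheaves of modules

`(P ⊗ Q)_x ≅ P_x ⊗_{R_x} Q_x`, as an additive bijection compatible with germs.
-/

set_option autoImplicit false

universe u

open CategoryTheory MonoidalCategory Opposite TopologicalSpace Limits TensorProduct

namespace KFlatLib

variable {X : TopCat.{u}} {R : X.Presheaf CommRingCat.{u}}

/-- Presheaves of modules on a space. -/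
abbrev PM (R : X.Presheaf CommRingCat.{u}) : Type (u + 1) :=
  PresheafOfModules.{u} (R ⋙ forget₂ CommRingCat.{u} RingCat.{u})

variable (P Q : PM R) (x : X)

/-- The stalk, with its module structure. -/
abbrev st : Type u := ↑(TopCat.Presheaf.stalk P.presheaf x)

/-- Germs, as plain functions. -/
noncomputable def gm {U : Opens X} (hx : x ∈ U) (m : P.obj (op U)) : st P x :=
  TopCat.Presheaf.germ P.presheaf U x hx m

/-- Restriction, as plain functions. -/
noncomputable def rst {V U : Opens X} (h : V ≤ U) (m : P.obj (op U)) : P.obj (op V) :=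
  P.map (homOfLE h).op m

variable {P Q x}

theorem gm_add {U : Opens X} (hx : x ∈ U) (m m' : P.obj (op U)) :
    gm P x hx (m + m') = gm P x hx m + gm P x hx m' :=
  map_add (TopCat.Presheaf.germ P.presheaf U x hx).hom m m'

theorem gm_zero {U : Opens X} (hx : x ∈ U) : gm P x hx (0 : P.obj (op U)) = 0 :=
  map_zero (TopCat.Presheaf.germ P.presheaf U x hx).hom

theorem gm_smul {U : Opens X} (hx : x ∈ U) (r : R.obj (op U)) (m : P.obj (op U)) :
    gm P x hx (r • m) = R.germ U x hx r • gm P x hx m :=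
  PresheafOfModules.germ_smul P x U hx r m

theorem gm_rst {V U : Opens X} (h : V ≤ U) (hx : x ∈ V) (m : P.obj (op U)) :
    gm P x hx (rst P h m) = gm P x (h hx) m :=
  TopCat.Presheaf.germ_res_apply P.presheaf (homOfLE h) x hx m

theorem gm_surjective (a : st P x) :
    ∃ (U : Opens X) (hx : x ∈ U) (m : P.obj (op U)), gm P x hx m = a := by
  obtain ⟨U, hx, m, h⟩ := TopCat.Presheaf.exists_germ_eq P.presheaf (x := x) a
  exact ⟨U, hx, m, h⟩

theorem gm_eq {U U' : Opens X} (hx : x ∈ U) (hx' : x ∈ U') (m : P.obj (op U))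
    (m' : P.obj (op U')) (h : gm P x hx m = gm P x hx' m') :
    ∃ (W : Opens X) (_ : x ∈ W) (h₁ : W ≤ U) (h₂ : W ≤ U'), rst P h₁ m = rst P h₂ m' := by
  obtain ⟨W, hW, i, i', e⟩ := TopCat.Presheaf.germ_eq P.presheaf x hx hx' m m' h
  exact ⟨W, hW, i.le, i'.le, e⟩

theorem rst_comp {W V U : Opens X} (h : W ≤ V) (h' : V ≤ U) (m : P.obj (op U)) :
    rst P h (rst P h' m) = rst P (h.trans h') m :=
  (PresheafOfModules.map_comp_apply P (homOfLE h').op (homOfLE h).op m).symm

variable (P Q) in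
/-- A pure tensor of sections. -/
noncomputable def tm {U : Opens X} (m : P.obj (op U)) (n : Q.obj (op U)) :
    (P ⊗ Q).obj (op U) :=
  TensorProduct.tmul (R.obj (op U)) m n

theorem rst_tm {V U : Opens X} (h : V ≤ U) (m : P.obj (op U)) (n : Q.obj (op U)) :
    rst (P ⊗ Q) h (tm P Q m n) = tm P Q (rst P h m) (rst Q h n) :=
  PresheafOfModules.Monoidal.tensorObj_map_tmul (homOfLE h).op m n

theorem gm_tm_rst {V U : Opens X} (h : V ≤ U) (hx : x ∈ V) (m : P.obj (op U))
    (n : Q.obj (op U)) :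
    gm (P ⊗ Q) x hx (tm P Q (rst P h m) (rst Q h n)) = gm (P ⊗ Q) x (h hx) (tm P Q m n) := by
  rw [← rst_tm, gm_rst]

theorem tm_induction {U : Opens X} {motive : (P ⊗ Q).obj (op U) → Prop}
    (zero : motive 0) (tmul : ∀ m n, motive (tm P Q m n))
    (add : ∀ s t, motive s → motive t → motive (s + t)) (z : (P ⊗ Q).obj (op U)) : motive z := by
  refine TensorProduct.induction_on (motive := motive) z zero tmul add

theorem gm_tm_congr {U U' : Opens X} (hx : x ∈ U) (hx' : x ∈ U') {m : P.obj (op U)}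
    {n : Q.obj (op U)} {m' : P.obj (op U')} {n' : Q.obj (op U')}
    (hm : gm P x hx m = gm P x hx' m') (hn : gm Q x hx n = gm Q x hx' n') :
    gm (P ⊗ Q) x hx (tm P Q m n) = gm (P ⊗ Q) x hx' (tm P Q m' n') := by
  obtain ⟨W, hW, a, a', ha⟩ := gm_eq hx hx' m m' hm
  obtain ⟨W', hW', b, b', hb⟩ := gm_eq hx hx' n n' hn
  have hV : x ∈ W ⊓ W' := ⟨hW, hW'⟩
  have h₁ : W ⊓ W' ≤ W := inf_le_left
  have h₂ : W ⊓ W' ≤ W' := inf_le_right
  rw [← gm_tm_rst (h₁.trans a) hV, ← gm_tm_rst (h₁.trans a') hV]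
  have e₁ : rst P (h₁.trans a) m = rst P (h₁.trans a') m' := by
    rw [← rst_comp h₁ a, ← rst_comp h₁ a', ha]
  have e₂ : rst Q (h₁.trans a) n = rst Q (h₁.trans a') n' := by
    change rst Q (h₂.trans b) n = rst Q (h₂.trans b') n'
    rw [← rst_comp h₂ b, ← rst_comp h₂ b', hb]
  rw [e₁, e₂]

theorem exists_gm₂ (a : st P x) (b : st Q x) :
    ∃ (U : Opens X) (hx : x ∈ U) (m : P.obj (op U)) (n : Q.obj (op U)),
      gm P x hx m = a ∧ gm Q x hx n = b := by
  obtain ⟨U, hU, m, rfl⟩ := gm_surjective a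
  obtain ⟨V, hV, n, rfl⟩ := gm_surjective b
  exact ⟨U ⊓ V, ⟨hU, hV⟩, rst P inf_le_left m, rst Q inf_le_right n, gm_rst _ _ _, gm_rst _ _ _⟩

variable (P Q x) in
/-- The bilinear map to the stalk of the tensor product. -/
noncomputable def pairFun (a : st P x) (b : st Q x) : st (P ⊗ Q) x :=
  gm (P ⊗ Q) x (exists_gm₂ a b).choose_spec.choose
    (tm P Q (exists_gm₂ a b).choose_spec.choose_spec.choose
      (exists_gm₂ a b).choose_spec.choose_spec.choose_spec.choose)

theorem pairFun_gm {U : Opens X} (hx : x ∈ U) (m : P.obj (op U)) (n : Q.obj (op U)) :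
    pairFun P Q x (gm P x hx m) (gm Q x hx n) = gm (P ⊗ Q) x hx (tm P Q m n) := by
  refine gm_tm_congr _ _ ?_ ?_
  · exact (exists_gm₂ (gm P x hx m) (gm Q x hx n)).choose_spec.choose_spec.choose_spec.choose_spec.1
  · exact (exists_gm₂ (gm P x hx m) (gm Q x hx n)).choose_spec.choose_spec.choose_spec.choose_spec.2

theorem pairFun_add_left (a a' : st P x) (b : st Q x) :
    pairFun P Q x (a + a') b = pairFun P Q x a b + pairFun P Q x a' b := by
  obtain ⟨U, hU, m, n, rfl, rfl⟩ := exists_gm₂ a b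
  obtain ⟨V, hV, m', rfl⟩ := gm_surjective a'
  have hW : x ∈ U ⊓ V := ⟨hU, hV⟩
  rw [← gm_rst (inf_le_left : U ⊓ V ≤ U) hW m, ← gm_rst (inf_le_left : U ⊓ V ≤ U) hW n,
    ← gm_rst (inf_le_right : U ⊓ V ≤ V) hW m', ← gm_add, pairFun_gm, pairFun_gm, pairFun_gm,
    ← gm_add]
  exact congrArg _ (TensorProduct.add_tmul _ _ _)

theorem pairFun_add_right (a : st P x) (b b' : st Q x) :
    pairFun P Q x a (b + b') = pairFun P Q x a b + pairFun P Q x a b' := by
  obtain ⟨U, hU, m, n, rfl, rfl⟩ := exists_gm₂ a b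
  obtain ⟨V, hV, n', rfl⟩ := gm_surjective b'
  have hW : x ∈ U ⊓ V := ⟨hU, hV⟩
  rw [← gm_rst (inf_le_left : U ⊓ V ≤ U) hW m, ← gm_rst (inf_le_left : U ⊓ V ≤ U) hW n,
    ← gm_rst (inf_le_right : U ⊓ V ≤ V) hW n', ← gm_add, pairFun_gm, pairFun_gm, pairFun_gm,
    ← gm_add]
  exact congrArg _ (TensorProduct.tmul_add _ _ _)

theorem pairFun_smul (c : R.stalk x) (a : st P x) (b : st Q x) :
    pairFun P Q x (c • a) b = pairFun P Q x a (c • b) := by
  obtain ⟨U, hU, m, n, rfl, rfl⟩ := exists_gm₂ a b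
  obtain ⟨V, hV, r, rfl⟩ := R.exists_germ_eq (x := x) c
  have hW : x ∈ U ⊓ V := ⟨hU, hV⟩
  rw [← gm_rst (inf_le_left : U ⊓ V ≤ U) hW m, ← gm_rst (inf_le_left : U ⊓ V ≤ U) hW n,
    ← TopCat.Presheaf.germ_res_apply R (homOfLE (inf_le_right : U ⊓ V ≤ V)) x hW r,
    ← gm_smul, ← gm_smul, pairFun_gm, pairFun_gm]
  exact congrArg _ (TensorProduct.smul_tmul _ _ _)

variable (P Q x) in
/-- The comparison map on stalks. -/
noncomputable def stalkTensorHom :
    TensorProduct (R.stalk x) (st P x) (st Q x) →+ st (P ⊗ Q) x :=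
  TensorProduct.liftAddHom
    (AddMonoidHom.mk' (fun a => AddMonoidHom.mk' (pairFun P Q x a) (pairFun_add_right a))
      (fun a a' => AddMonoidHom.ext fun b => pairFun_add_left a a' b))
    (fun c a b => pairFun_smul c a b)

theorem stalkTensorHom_tmul (a : st P x) (b : st Q x) :
    stalkTensorHom P Q x (a ⊗ₜ b) = pairFun P Q x a b := rfl

theorem stalkTensorHom_gm {U : Opens X} (hx : x ∈ U) (m : P.obj (op U)) (n : Q.obj (op U)) :
    stalkTensorHom P Q x (gm P x hx m ⊗ₜ gm Q x hx n) = gm (P ⊗ Q) x hx (tm P Q m n) :=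
  pairFun_gm hx m n

theorem stalkTensorHom_smul (c : R.stalk x) (z : TensorProduct (R.stalk x) (st P x) (st Q x)) :
    stalkTensorHom P Q x (c • z) = c • stalkTensorHom P Q x z := by
  induction z using TensorProduct.induction_on with
  | zero => rw [smul_zero, map_zero, smul_zero]
  | add s t hs ht => rw [smul_add, map_add, map_add, hs, ht, smul_add]
  | tmul a b =>
    obtain ⟨U, hU, m, n, rfl, rfl⟩ := exists_gm₂ a b
    obtain ⟨V, hV, r, rfl⟩ := R.exists_germ_eq (x := x) c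
    have hW : x ∈ U ⊓ V := ⟨hU, hV⟩
    rw [← gm_rst (inf_le_left : U ⊓ V ≤ U) hW m, ← gm_rst (inf_le_left : U ⊓ V ≤ U) hW n,
      ← TopCat.Presheaf.germ_res_apply R (homOfLE (inf_le_right : U ⊓ V ≤ V)) x hW r,
      TensorProduct.smul_tmul', ← gm_smul, stalkTensorHom_gm, stalkTensorHom_gm, ← gm_smul]
    exact congrArg _ (TensorProduct.smul_tmul' _ _ _).symm

/-- The comparison map on a section of the tensor product presheaf. -/
noncomputable def toStTensor {U : Opens X} (hx : x ∈ U) :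
    (P ⊗ Q).obj (op U) →+ TensorProduct (R.stalk x) (st P x) (st Q x) :=
  TensorProduct.liftAddHom (R := R.obj (op U))
    (AddMonoidHom.mk'
      (fun m : P.obj (op U) => AddMonoidHom.mk'
        (fun n : Q.obj (op U) => gm P x hx m ⊗ₜ[R.stalk x] gm Q x hx n)
        (fun n n' => by rw [gm_add, TensorProduct.tmul_add]))
      (fun m m' => AddMonoidHom.ext fun n => by
        simp only [AddMonoidHom.mk'_apply, AddMonoidHom.add_apply]
        rw [gm_add, TensorProduct.add_tmul]))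
    (fun r m n => by
      simp only [AddMonoidHom.mk'_apply]
      rw [gm_smul, gm_smul, TensorProduct.smul_tmul])

theorem toStTensor_tm {U : Opens X} (hx : x ∈ U) (m : P.obj (op U)) (n : Q.obj (op U)) :
    toStTensor hx (tm P Q m n) = gm P x hx m ⊗ₜ[R.stalk x] gm Q x hx n := rfl

theorem toStTensor_rst {V U : Opens X} (h : V ≤ U) (hx : x ∈ V) (z : (P ⊗ Q).obj (op U)) :
    toStTensor hx (rst (P ⊗ Q) h z) = toStTensor (h hx) z := by
  induction z using tm_induction with
  | zero => rw [map_zero, show rst (P ⊗ Q) h 0 = 0 from map_zero ((P ⊗ Q).map (homOfLE h).op).hom,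
      map_zero]
  | tmul m n => rw [rst_tm, toStTensor_tm, toStTensor_tm, gm_rst, gm_rst]
  | add s t hs ht => rw [show rst (P ⊗ Q) h (s + t) = rst (P ⊗ Q) h s + rst (P ⊗ Q) h t from
      map_add ((P ⊗ Q).map (homOfLE h).op).hom s t, map_add, map_add, hs, ht]

theorem exists_toStTensor (z : TensorProduct (R.stalk x) (st P x) (st Q x)) :
    ∃ (U : Opens X) (hx : x ∈ U) (s : (P ⊗ Q).obj (op U)),
      toStTensor hx s = z ∧ gm (P ⊗ Q) x hx s = stalkTensorHom P Q x z := by
  induction z using TensorProduct.induction_on with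
  | zero => exact ⟨⊤, trivial, 0, map_zero _, by rw [gm_zero, map_zero]⟩
  | tmul a b =>
    obtain ⟨U, hU, m, n, rfl, rfl⟩ := exists_gm₂ a b
    exact ⟨U, hU, tm P Q m n, rfl, (stalkTensorHom_gm hU m n).symm⟩
  | add s t hs ht =>
    obtain ⟨U, hU, s', hs₁, hs₂⟩ := hs
    obtain ⟨V, hV, t', ht₁, ht₂⟩ := ht
    have hW : x ∈ U ⊓ V := ⟨hU, hV⟩
    exact ⟨U ⊓ V, hW, rst _ inf_le_left s' + rst _ inf_le_right t',
      by rw [map_add, toStTensor_rst, toStTensor_rst, hs₁, ht₁],
      by rw [gm_add, gm_rst, gm_rst, map_add, hs₂, ht₂]⟩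

theorem stalkTensorHom_bijective : Function.Bijective (stalkTensorHom P Q x) := by
  constructor
  · rw [injective_iff_map_eq_zero]
    intro z hz
    obtain ⟨U, hU, s, h₁, h₂⟩ := exists_toStTensor z
    rw [hz, ← gm_zero hU] at h₂
    obtain ⟨W, hW, a, a', e⟩ := gm_eq hU hU s 0 h₂
    rw [← h₁, ← toStTensor_rst a hW, e, toStTensor_rst a' hW, map_zero]
  · intro z
    obtain ⟨U, hU, s, rfl⟩ := gm_surjective z
    induction s using tm_induction with
    | zero => exact ⟨0, by rw [gm_zero, map_zero]⟩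
    | tmul m n => exact ⟨_, stalkTensorHom_gm hU m n⟩
    | add s t hs ht =>
      obtain ⟨a, ha⟩ := hs
      obtain ⟨b, hb⟩ := ht
      exact ⟨a + b, by rw [map_add, ha, hb, gm_add]⟩

end KFlatLib
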