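import Groth.Prelude.Def_DCoh4
import Groth.Agent.KFlatLib.Stalk
import Groth.Agent.KFlatLib.PreTensor
import Mathlib.Topology.Sheaves.Sheafify
import Mathlib.Algebra.Category.ModuleCat.Monoidal.Basic

/-!
# The stalk of a tensor product of `O_X`-modules

`(M ⊗ N)_x ≅ M_x ⊗_{O_{X,x}} N_x`, natural in both variables.
-/

set_option autoImplicit false

universe u

open CategoryTheory CategoryTheory.Limits AlgebraicGeometry TopologicalSpace Opposite
  MonoidalCategory TensorProduct

namespace KFlatLib

variable {X : Scheme.{u}}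

/-- The tensor product of sheaves of modules, as used by `DCoh.tensorBi`. -/
noncomputable abbrev tens (M N : X.Modules) : X.Modules := ((DCoh.tensorBi (X := X)).obj M).obj N

/-- The presheaf tensor product. -/
noncomputable abbrev pT (M N : X.Modules) : PM (R := X.presheaf) :=
  (DCoh.toP.obj M : PM X.presheaf) ⊗ (DCoh.toP.obj N : PM X.presheaf)

/-- The sheafification map on sections. -/
noncomputable def shApp (M N : X.Modules) (U : X.Opens) (s : (pT M N).obj (op U)) :
    Γ(tens M N, U) :=
  ((PresheafOfModules.sheafificationAdjunction.{u} (R := X.ringCatSheaf) (𝟙 X.ringCatSheaf.obj)).unit.app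
    (pT M N : X.PresheafOfModules)).app (op U) s

theorem shApp_add (M N : X.Modules) (U : X.Opens) (s t : (pT M N).obj (op U)) :
    shApp M N U (s + t) = shApp M N U s + shApp M N U t :=
  map_add (((PresheafOfModules.sheafificationAdjunction.{u} (R := X.ringCatSheaf)
    (𝟙 X.ringCatSheaf.obj)).unit.app (pT M N : X.PresheafOfModules)).app (op U)).hom s t

theorem shApp_smul (M N : X.Modules) (U : X.Opens) (r : Γ(X, U)) (s : (pT M N).obj (op U)) :
    shApp M N U (r • s) = r • shApp M N U s :=
  map_smul (((PresheafOfModules.sheafificationAdjunction.{u} (R := X.ringCatSheaf)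
    (𝟙 X.ringCatSheaf.obj)).unit.app (pT M N : X.PresheafOfModules)).app (op U)).hom r s

/-- The map on stalks induced by sheafification. -/
noncomputable def shStalk (M N : X.Modules) (x : X) :
    TopCat.Presheaf.stalk (pT M N).presheaf x ⟶ (tens M N).presheaf.stalk x :=
  (TopCat.Presheaf.stalkFunctor AddCommGrpCat.{u} x).map
    ((PresheafOfModules.toPresheaf _).map
      ((PresheafOfModules.sheafificationAdjunction.{u} (R := X.ringCatSheaf)
        (𝟙 X.ringCatSheaf.obj)).unit.app (pT M N : X.PresheafOfModules)))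

theorem shStalk_germ (M N : X.Modules) {x : X} {U : X.Opens} (hx : x ∈ U)
    (s : (pT M N).obj (op U)) :
    shStalk M N x (gm (pT M N) x hx s) = (tens M N).presheaf.germ U x hx (shApp M N U s) :=
  TopCat.Presheaf.stalkFunctor_map_germ_apply (X := X.toTopCat) (C := AddCommGrpCat.{u})
    (F := (pT M N).presheaf) (G := (tens M N).presheaf) U x hx _ s

instance isIso_shStalk (M N : X.Modules) (x : X) : IsIso (shStalk M N x) :=
  TopCat.Presheaf.stalkFunctor_map_unit_toSheafify_isIso (X := X.toTopCat) x AddCommGrpCat.{u} _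

variable (M N : X.Modules) (x : X)

/-- The germ of a pure tensor. -/
noncomputable def tmGerm {U : X.Opens} (hx : x ∈ U) (m : Γ(M, U)) (n : Γ(N, U)) :
    (tens M N).presheaf.stalk x :=
  (tens M N).presheaf.germ U x hx
    (shApp M N U (tm (DCoh.toP.obj M : PM X.presheaf) (DCoh.toP.obj N : PM X.presheaf) m n))

theorem shStalk_smul (c : X.presheaf.stalk x) (w : st (pT M N) x) :
    shStalk M N x (c • w) = c • (show (tens M N).presheaf.stalk x from shStalk M N x w) := by
  obtain ⟨U, hU, s, rfl⟩ := gm_surjective w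
  obtain ⟨V, hV, r, rfl⟩ := X.presheaf.exists_germ_eq (x := x) c
  have hW : x ∈ U ⊓ V := ⟨hU, hV⟩
  rw [← gm_rst (inf_le_left : U ⊓ V ≤ U) hW s,
    ← TopCat.Presheaf.germ_res_apply X.presheaf (homOfLE (inf_le_right : U ⊓ V ≤ V)) x hW r]
  erw [← gm_smul, shStalk_germ, shStalk_germ, shApp_smul]
  exact PresheafOfModules.germ_smul (show PM X.presheaf from (tens M N).val) x (U ⊓ V) hW _ _

/-- `M_x ⊗ N_x → (M ⊗ N)_x` as a linear map. -/
noncomputable def stalkTensorLin :
    TensorProduct (X.presheaf.stalk x) (M.presheaf.stalk x) (N.presheaf.stalk x)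
      →ₗ[X.presheaf.stalk x] (tens M N).presheaf.stalk x where
  toFun z := shStalk M N x
    (stalkTensorHom (DCoh.toP.obj M : PM X.presheaf) (DCoh.toP.obj N : PM X.presheaf) x z)
  map_add' a b := by
    exact (congrArg _ (map_add _ a b)).trans (map_add (shStalk M N x).hom _ _)
  map_smul' c z := by
    exact (congrArg _ (stalkTensorHom_smul c z)).trans (shStalk_smul M N x c _)

theorem stalkTensorLin_germ {U : X.Opens} (hx : x ∈ U) (m : Γ(M, U)) (n : Γ(N, U)) :
    stalkTensorLin M N x (M.presheaf.germ U x hx m ⊗ₜ N.presheaf.germ U x hx n) =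
      tmGerm M N x hx m n := by
  change shStalk M N x (stalkTensorHom (DCoh.toP.obj M : PM X.presheaf)
    (DCoh.toP.obj N : PM X.presheaf) x (gm (DCoh.toP.obj M : PM X.presheaf) x hx m ⊗ₜ
      gm (DCoh.toP.obj N : PM X.presheaf) x hx n)) = _
  exact (congrArg (fun w => shStalk M N x w)
    (stalkTensorHom_gm (P := (DCoh.toP.obj M : PM X.presheaf))
      (Q := (DCoh.toP.obj N : PM X.presheaf)) hx m n)).trans (shStalk_germ M N hx _)

theorem stalkTensorLin_bijective : Function.Bijective (stalkTensorLin M N x) :=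
  (ConcreteCategory.bijective_of_isIso (shStalk M N x)).comp stalkTensorHom_bijective

/-- `M_x ⊗ N_x ≅ (M ⊗ N)_x`. -/
noncomputable def stalkTensorIso :
    (DerSch.stalkFunctor X x).obj M ⊗ (DerSch.stalkFunctor X x).obj N ≅
      (DerSch.stalkFunctor X x).obj (tens M N) :=
  (LinearEquiv.ofBijective (stalkTensorLin M N x) (stalkTensorLin_bijective M N x)).toModuleIso

theorem stalkTensorIso_hom_tmul {U : X.Opens} (hx : x ∈ U) (m : Γ(M, U)) (n : Γ(N, U)) :
    (stalkTensorIso M N x).hom.hom (M.presheaf.germ U x hx m ⊗ₜ N.presheaf.germ U x hx n) =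
      tmGerm M N x hx m n :=
  stalkTensorLin_germ M N x hx m n

variable {M N}

theorem exists_germ₂ (a : M.presheaf.stalk x) (b : N.presheaf.stalk x) :
    ∃ (U : X.Opens) (hx : x ∈ U) (m : Γ(M, U)) (n : Γ(N, U)),
      M.presheaf.germ U x hx m = a ∧ N.presheaf.germ U x hx n = b :=
  exists_gm₂ (P := (DCoh.toP.obj M : PM X.presheaf)) (Q := (DCoh.toP.obj N : PM X.presheaf)) a b

theorem shApp_map {M' N' : X.Modules} (h : pT M N ⟶ pT M' N') (U : X.Opens)
    (s : (pT M N).obj (op U)) :
    (show tens M N ⟶ tens M' N' from DCoh.shP.map h).app U (shApp M N U s) =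
      shApp M' N' U (h.app (op U) s) :=
  (congr($((PresheafOfModules.sheafificationAdjunction.{u} (R := X.ringCatSheaf)
    (𝟙 X.ringCatSheaf.obj)).unit.naturality (show (pT M N : X.PresheafOfModules) ⟶ pT M' N'
      from h)).app (op U) s)).symm

/-- Naturality in the first variable. -/
theorem stalkTensorIso_natural_left {M' : X.Modules} (f : M ⟶ M') :
    (DerSch.stalkFunctor X x).map f ▷ (DerSch.stalkFunctor X x).obj N ≫
        (stalkTensorIso M' N x).hom =
      (stalkTensorIso M N x).hom ≫
        (DerSch.stalkFunctor X x).map (((DCoh.tensorBi (X := X)).map f).app N) := by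
  refine ModuleCat.MonoidalCategory.tensor_ext fun a b => ?_
  obtain ⟨U, hU, m, n, rfl, rfl⟩ := exists_germ₂ x a b
  refine Eq.trans (b := tmGerm M' N x hU (f.app U m) n) ?_ ?_
  · exact (congrArg (fun w => (stalkTensorIso M' N x).hom.hom (w ⊗ₜ N.presheaf.germ U x hU n))
      (DerSch.stalkFunctor_map_germ x f U hU m)).trans (stalkTensorIso_hom_tmul M' N x hU _ n)
  · refine Eq.trans ?_ (congrArg ((DerSch.stalkFunctor X x).map
      (((DCoh.tensorBi (X := X)).map f).app N)) (stalkTensorIso_hom_tmul M N x hU m n)).symm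
    refine Eq.trans ?_ (DerSch.stalkFunctor_map_germ x _ U hU _).symm
    exact congrArg _ (shApp_map (M := M) (N := N) (DCoh.toP.map f ▷ DCoh.toP.obj N) U
      (tm (DCoh.toP.obj M : PM X.presheaf) (DCoh.toP.obj N : PM X.presheaf) m n)).symm

/-- Naturality in the second variable. -/
theorem stalkTensorIso_natural_right {N' : X.Modules} (g : N ⟶ N') :
    (DerSch.stalkFunctor X x).obj M ◁ (DerSch.stalkFunctor X x).map g ≫
        (stalkTensorIso M N' x).hom =
      (stalkTensorIso M N x).hom ≫
        (DerSch.stalkFunctor X x).map (((DCoh.tensorBi (X := X)).obj M).map g) := by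
  refine ModuleCat.MonoidalCategory.tensor_ext fun a b => ?_
  obtain ⟨U, hU, m, n, rfl, rfl⟩ := exists_germ₂ x a b
  refine Eq.trans (b := tmGerm M N' x hU m (g.app U n)) ?_ ?_
  · exact (congrArg (fun w => (stalkTensorIso M N' x).hom.hom (M.presheaf.germ U x hU m ⊗ₜ w))
      (DerSch.stalkFunctor_map_germ x g U hU n)).trans (stalkTensorIso_hom_tmul M N' x hU m _)
  · refine Eq.trans ?_ (congrArg ((DerSch.stalkFunctor X x).map
      (((DCoh.tensorBi (X := X)).obj M).map g)) (stalkTensorIso_hom_tmul M N x hU m n)).symm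
    refine Eq.trans ?_ (DerSch.stalkFunctor_map_germ x _ U hU _).symm
    exact congrArg _ (shApp_map (M := M) (N := N) (DCoh.toP.obj M ◁ DCoh.toP.map g) U
      (tm (DCoh.toP.obj M : PM X.presheaf) (DCoh.toP.obj N : PM X.presheaf) m n)).symm

end KFlatLib
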