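import Groth.Agent.KFlatLib.Alg
import Groth.Agent.KFlatLib.Generic
import Mathlib.CategoryTheory.Abelian.Projective.Extend
import Mathlib.Algebra.Category.ModuleCat.EnoughInjectives
import Mathlib.Algebra.Category.ModuleCat.Projective
import Mathlib.RingTheory.Flat.Equalizer

/-!
# Tensoring complexes of modules with K-flat complexes
-/

set_option autoImplicit false

universe u

open CategoryTheory CategoryTheory.Limits MonoidalCategory HomologicalComplex

namespace KFlatLib

variable {R : Type u} [CommRing R]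

/-- Tensor product of complexes of modules, on morphisms. -/
noncomputable abbrev tMap {L L' K K' : CochainComplex (ModuleCat.{u} R) ℤ} (f : L ⟶ L')
    (g : K ⟶ K') : tT L K ⟶ tT L' K' :=
  mapBifunctorMap f g (curriedTensor (ModuleCat.{u} R)) (ComplexShape.up ℤ)

theorem quasiIso_tMap_right {K : CochainComplex (ModuleCat.{u} R) ℤ} (hK : DRing.IsKFlat R K)
    {F G : CochainComplex (ModuleCat.{u} R) ℤ} (g : F ⟶ G) [QuasiIso g] :
    QuasiIso (tMap g (𝟙 K)) :=
  quasiIso_bimap₁ (curriedTensor (ModuleCat.{u} R)) K hK g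

theorem tensorFlipIso_natural {K K' L L' : CochainComplex (ModuleCat.{u} R) ℤ} (f : K ⟶ K')
    (g : L ⟶ L') :
    tMap g f ≫ (tensorFlipIso K' L').hom = (tensorFlipIso K L).hom ≫ tMap f g := by
  dsimp only [tensorFlipIso, Iso.trans_hom]
  have h₁ := totalMapIso_natural (curriedTensor (ModuleCat.{u} R)).flip
    (curriedTensor (ModuleCat.{u} R)) (𝟭 _) (𝟭 _) (𝟭 _) (fun a b => β_ a b)
    (fun f b => BraidedCategory.braiding_naturality_left f b)
    (fun a _ _ g => BraidedCategory.braiding_naturality_right a g) g f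
  refine ((Category.assoc _ _ _).symm.trans (congrArg
    (· ≫ (mapBifunctorFlipIso K' L' (curriedTensor (ModuleCat.{u} R)) (ComplexShape.up ℤ)).hom)
    h₁)).trans ?_
  refine (Category.assoc _ _ _).trans ?_
  refine Eq.trans ?_ (Category.assoc _ _ _).symm
  congr 1
  exact mapBifunctorFlipIso_hom_naturality _ _ _ _

theorem quasiIso_tMap_left {K : CochainComplex (ModuleCat.{u} R) ℤ} (hK : DRing.IsKFlat R K)
    {F G : CochainComplex (ModuleCat.{u} R) ℤ} (g : F ⟶ G) [QuasiIso g] :
    QuasiIso (tMap (𝟙 K) g) := by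
  have := quasiIso_tMap_right hK g
  have h := tensorFlipIso_natural (𝟙 K) g
  have : QuasiIso ((tensorFlipIso K F).hom ≫ tMap (𝟙 K) g) := by rw [← h]; infer_instance
  exact quasiIso_of_comp_left (tensorFlipIso K F).hom _

/-- If `K` is acyclic and K-flat then so is `N ⊗ K` acyclic for every module `N`. -/
theorem acyclic_tensorLeft {K : CochainComplex (ModuleCat.{u} R) ℤ} (hK : DRing.IsKFlat R K)
    (hK0 : Acyclic' K) (N : ModuleCat.{u} R) :
    Acyclic' (((tensorLeft N).mapHomologicalComplex (ComplexShape.up ℤ)).obj K) := by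
  let P := projectiveResolution N
  let Q := P.cochainComplex
  let N₀ := (CochainComplex.singleFunctor (ModuleCat.{u} R) 0).obj N
  have hQ : DRing.IsKFlat R Q := isKFlat_of_bounded_flat Q 0
    (fun i hi => CochainComplex.isZero_of_isStrictlyLE Q 0 i hi)
    (fun i => by
      have : Projective (Q.X i) := inferInstanceAs (Projective (P.cochainComplex.X i))
      have : Module.Projective R (Q.X i) :=
        (IsProjective.iff_projective (R := R) (P := Q.X i)).mpr this
      infer_instance)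
  have hQK : Acyclic' (Q ⊗ K) := acyclic_tensor_symm (hQ K hK0)
  have := quasiIso_tMap_right hK P.π'
  have hNK : Acyclic' (tT N₀ K) := fun i => by
    have : IsIso (homologyMap (tMap P.π' (𝟙 K)) i) :=
      (quasiIsoAt_iff_isIso_homologyMap _ _).mp inferInstance
    exact (hQK i).of_iso (asIso (homologyMap (tMap P.π' (𝟙 K)) i)).symm
  intro i
  have hz : ∀ p : ℤ, p ≠ 0 → IsZero (N₀.X p) := fun p hp =>
    isZero_single_obj_X (ComplexShape.up ℤ) 0 N p hp
  -- the inclusion of the only non-zero summand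
  let j : ∀ n : ℤ, N₀.X 0 ⊗ K.X n ⟶ (tT N₀ K).X n := fun n => ιT N₀ K 0 n n (zero_add n)
  have hj : ∀ n : ℤ, Function.Bijective (j n).hom := by
    intro n
    have h₁ : j n ≫ proj 0 n n (zero_add n) = 𝟙 _ := ιT_proj _ _ _ _
    have h₂ : proj 0 n n (zero_add n) ≫ j n = 𝟙 _ := by
      refine mapBifunctor.hom_ext fun p q h => ?_
      by_cases hp : p = 0
      · subst hp
        obtain rfl : q = n := by
          have : (0 : ℤ) + q = n := h
          omega
        rw [← Category.assoc]
        exact (congrArg (· ≫ j q) (ιT_proj _ _ _ _)).trans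
          ((Category.id_comp _).trans (Category.comp_id _).symm)
      · exact ((tensorRight (K.X q)).map_isZero (hz p hp)).eq_of_src _ _
    have : IsIso (j n) := ⟨proj 0 n n (zero_add n), h₁, h₂⟩
    exact ConcreteCategory.bijective_of_isIso (C := ModuleCat.{u} R) (j n)
  have hcomm : ∀ n n' : ℤ, n + 1 = n' →
      j n ≫ (tT N₀ K).d n n' = N₀.X 0 ◁ K.d n n' ≫ j n' := by
    rintro n n' rfl
    refine (ιT_d N₀ K 0 n n (n + 1) (zero_add n) rfl).trans ?_
    have : N₀.d 0 (0 + 1) = 0 := (hz _ (by omega)).eq_of_tgt _ _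
    rw [this, MonoidalPreadditive.zero_whiskerRight, zero_comp, zero_add, Int.negOnePow_zero,
      one_smul]
  let e : N₀.X 0 ≅ N := singleObjXSelf (ComplexShape.up ℤ) 0 N
  rw [isZero_homology_iff_exists _ (i - 1) i (i + 1) (by omega) rfl]
  intro z hz'
  change ↥(N ⊗ K.X i) at z
  change (N ◁ K.d i (i + 1)).hom z = 0 at hz'
  let z' := (e.inv ▷ K.X i).hom z
  have hz'' : (N₀.X 0 ◁ K.d i (i + 1)).hom z' = 0 := by
    have := congr($(whisker_exchange e.inv (K.d i (i + 1))).hom z)
    refine this.symm.trans ?_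
    change (e.inv ▷ _).hom ((N ◁ K.d i (i + 1)).hom z) = 0
    rw [hz', map_zero]
  obtain ⟨y, hy⟩ := (isZero_homology_iff_exists (tT N₀ K) (i - 1) i (i + 1) (by omega) rfl).mp
    (hNK i) ((j i).hom z') (by
      refine (congr($(hcomm i (i + 1) rfl).hom z')).trans ?_
      change (j (i + 1)).hom ((N₀.X 0 ◁ K.d i (i + 1)).hom z') = 0
      rw [hz'', map_zero])
  obtain ⟨y, rfl⟩ := (hj (i - 1)).2 y
  refine ⟨(e.hom ▷ K.X (i - 1)).hom y, ?_⟩
  have h1 : (N₀.X 0 ◁ K.d (i - 1) i).hom y = z' :=
    (hj i).1 ((congr($(hcomm (i - 1) i (by omega)).hom y)).symm.trans hy)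
  change (N ◁ K.d (i - 1) i).hom ((e.hom ▷ K.X (i - 1)).hom y) = z
  refine (congr($(whisker_exchange e.hom (K.d (i - 1) i)).hom y)).symm.trans ?_
  change (e.hom ▷ K.X i).hom ((N₀.X 0 ◁ K.d (i - 1) i).hom y) = z
  rw [h1]
  exact congr($(inv_hom_whiskerRight e (K.X i)).hom z)

/-- Every element is the sum of finitely many of its components. -/
theorem exists_sum_proj (L K : CochainComplex (ModuleCat.{u} R) ℤ) {n : ℤ} (z : (tT L K).X n) :
    ∃ s : Finset ℤ, ∀ t : Finset ℤ, s ⊆ t →
      ∑ q ∈ t, (ιT L K (n - q) q n (sub_add_cancel n q)).hom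
        ((proj (n - q) q n (sub_add_cancel n q)).hom z) = z := by
  obtain ⟨m, hm⟩ := exists_mem_fil z
  let S : Submodule R ((tT L K).X n) :=
  { carrier := {z | ∃ s : Finset ℤ, ∀ t : Finset ℤ, s ⊆ t →
      ∑ q ∈ t, (ιT L K (n - q) q n (sub_add_cancel n q)).hom
        ((proj (n - q) q n (sub_add_cancel n q)).hom z) = z}
    add_mem' := fun {a b} ⟨s, hs⟩ ⟨s', hs'⟩ => ⟨s ∪ s', fun t ht => by
      simp only [map_add, Finset.sum_add_distrib]
      rw [hs t ((Finset.union_subset_left ht)), hs' t ((Finset.union_subset_right ht))]⟩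
    zero_mem' := ⟨∅, fun t _ => by simp⟩
    smul_mem' := fun c a ⟨s, hs⟩ => ⟨s, fun t ht => by
      simp only [map_smul, ← Finset.smul_sum]
      rw [hs t ht]⟩ }
  refine (fil_le_iff (S := S)).mpr (fun p q h _ a => ⟨{q}, fun t ht => ?_⟩) hm
  rw [Finset.sum_eq_single_of_mem q (Finset.singleton_subset_iff.mp ht) fun r _ hr => ?_]
  · obtain rfl : p = n - q := by omega
    exact congrArg _ (congr($(ιT_proj (n - q) q n h).hom a))
  · rw [show (proj (n - r) r n (sub_add_cancel n r)).hom ((ιT L K p q n h).hom a) = 0 from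
      congr($(ιT_proj_ne (sub_add_cancel n r) h hr.symm).hom a), map_zero]

theorem ιT_tMap {L L' K K' : CochainComplex (ModuleCat.{u} R) ℤ} (f : L ⟶ L') (g : K ⟶ K')
    (p q n : ℤ) (h : p + q = n) :
    ιT L K p q n h ≫ (tMap f g).f n = (f.f p ⊗ₘ g.f q) ≫ ιT L' K' p q n h :=
  (ι_mapBifunctorMap f g _ _ p q n h).trans
    ((Category.assoc _ _ _).symm.trans (congrArg (· ≫ _) (tensorHom_def _ _).symm))

theorem tMap_proj {L L' K K' : CochainComplex (ModuleCat.{u} R) ℤ} (f : L ⟶ L') (g : K ⟶ K')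
    (p q n : ℤ) (h : p + q = n) :
    (tMap f g).f n ≫ proj p q n h = proj p q n h ≫ (f.f p ⊗ₘ g.f q) := by
  refine mapBifunctor.hom_ext fun p' q' h' => ?_
  have h'' : p' + q' = n := h'
  refine ((Category.assoc _ _ _).symm.trans
    (congrArg (· ≫ proj p q n h) (ιT_tMap f g p' q' n h'))).trans ?_
  refine Eq.trans (Category.assoc _ _ _) ?_
  by_cases hq : q' = q
  · subst hq
    obtain rfl : p' = p := by omega
    refine (congrArg (_ ≫ ·) (ιT_proj _ _ _ _)).trans ((Category.comp_id _).trans ?_)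
    exact ((Category.id_comp _).symm.trans
      (congrArg (· ≫ (f.f p' ⊗ₘ g.f q')) (ιT_proj _ _ _ _).symm)).trans (Category.assoc _ _ _)
  · refine (congrArg (_ ≫ ·) (ιT_proj_ne h h' hq)).trans (comp_zero.trans ?_)
    exact (zero_comp.symm.trans
      (congrArg (· ≫ (f.f p ⊗ₘ g.f q)) (ιT_proj_ne h h' hq).symm)).trans (Category.assoc _ _ _)

/-- Tensoring a short exact sequence of complexes with flat quotient terms keeps it short exact. -/
theorem shortExact_tMap (L : CochainComplex (ModuleCat.{u} R) ℤ)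
    {S : ShortComplex (CochainComplex (ModuleCat.{u} R) ℤ)} (hS : S.ShortExact)
    (h₃ : ∀ i, Module.Flat R (S.X₃.X i)) :
    (ShortComplex.mk (tMap (𝟙 L) S.f) (tMap (𝟙 L) S.g) (by
      ext n : 1
      refine mapBifunctor.hom_ext fun p q h => ?_
      rw [comp_f, zero_f, comp_zero]
      refine ((Category.assoc _ _ _).symm.trans
        (congrArg (· ≫ _) (ιT_tMap (𝟙 L) S.f p q n h))).trans ?_
      refine (Category.assoc _ _ _).trans ((congrArg (_ ≫ ·) (ιT_tMap (𝟙 L) S.g p q n h)).trans ?_)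
      rw [← Category.assoc, id_f, tensorHom_comp_tensorHom, ← comp_f, S.zero, zero_f,
        MonoidalPreadditive.tensor_zero, zero_comp])).ShortExact := by
  have hd : ∀ q, Function.Injective (S.f.f q).hom ∧
      Function.Exact (S.f.f q).hom (S.g.f q).hom ∧ Function.Surjective (S.g.f q).hom := fun q => by
    have h := (HomologicalComplex.shortExact_iff_degreewise_shortExact S).mp hS q
    exact ⟨(ModuleCat.mono_iff_injective _).mp h.mono_f,
      (ShortComplex.ShortExact.moduleCat_exact_iff_function_exact _).mp h.exact,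
      (ModuleCat.epi_iff_surjective _).mp h.epi_g⟩
  have hl : ∀ {K K' : CochainComplex (ModuleCat.{u} R) ℤ} (φ : K ⟶ K') (p q : ℤ),
      ((𝟙 L : L ⟶ L).f p ⊗ₘ φ.f q).hom = (φ.f q).hom.lTensor (L.X p) := fun φ p q => rfl
  refine HomologicalComplex.shortExact_of_degreewise_shortExact _ fun n => ?_
  refine
    { exact := (ShortComplex.moduleCat_exact_iff _).mpr fun z hz => ?_
      mono_f := (ModuleCat.mono_iff_injective _).mpr ?_
      epi_g := (ModuleCat.epi_iff_surjective _).mpr ?_ }
  · change ↥((tT L S.X₂).X n) at z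
    change ((tMap (𝟙 L) S.g).f n).hom z = 0 at hz
    obtain ⟨s, hs⟩ := exists_sum_proj L S.X₂ z
    have : ∀ q, ∃ y, ((𝟙 L : L ⟶ L).f (n - q) ⊗ₘ S.f.f q).hom y =
        (proj (n - q) q n (sub_add_cancel n q)).hom z := by
      intro q
      rw [hl]
      refine (lTensor_exact (L.X (n - q)) (hd q).2.1 (hd q).2.2 _).mp ?_
      rw [← hl]
      refine (congr($(tMap_proj (𝟙 L) S.g (n - q) q n (sub_add_cancel n q)).hom z)).symm.trans ?_
      change (proj _ _ _ _).hom (((tMap (𝟙 L) S.g).f n).hom z) = 0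
      rw [hz, map_zero]
    choose y hy using this
    refine ⟨∑ q ∈ s, (ιT L S.X₁ (n - q) q n (sub_add_cancel n q)).hom (y q), ?_⟩
    change ((tMap (𝟙 L) S.f).f n).hom _ = z
    refine (map_sum _ _ _).trans ?_
    refine Eq.trans (Finset.sum_congr rfl fun q _ => ?_) (hs s (subset_refl s))
    refine (congr($(ιT_tMap (𝟙 L) S.f (n - q) q n (sub_add_cancel n q)).hom (y q))).trans ?_
    exact congrArg _ (hy q)
  · rw [injective_iff_map_eq_zero]
    intro z hz
    change ↥((tT L S.X₁).X n) at z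
    change ((tMap (𝟙 L) S.f).f n).hom z = 0 at hz
    obtain ⟨s, hs⟩ := exists_sum_proj L S.X₁ z
    refine (hs s (subset_refl s)).symm.trans (Finset.sum_eq_zero fun q _ => ?_)
    have : Module.Flat R (S.X₃.X q) := h₃ q
    have hinj := LinearMap.lTensor_injective_of_exact_of_flat (S.g.f q).hom (hd q).2.2
      (S.f.f q).hom (hd q).1 (hd q).2.1 (L.X (n - q))
    have e : (proj (n - q) q n (sub_add_cancel n q)).hom z = 0 := by
      refine hinj (Eq.trans ?_ (map_zero _).symm)
      refine (congr($(tMap_proj (𝟙 L) S.f (n - q) q n (sub_add_cancel n q)).hom z)).symm.trans ?_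
      change (proj _ _ _ _).hom (((tMap (𝟙 L) S.f).f n).hom z) = _
      rw [hz, map_zero]
    rw [e, map_zero]
  · intro z
    change ↥((tT L S.X₃).X n) at z
    obtain ⟨s, hs⟩ := exists_sum_proj L S.X₃ z
    have := fun q => LinearMap.lTensor_surjective (L.X (n - q)) (hd q).2.2
      ((proj (n - q) q n (sub_add_cancel n q)).hom z)
    choose y hy using this
    refine ⟨∑ q ∈ s, (ιT L S.X₂ (n - q) q n (sub_add_cancel n q)).hom (y q), ?_⟩
    change ((tMap (𝟙 L) S.g).f n).hom _ = z
    refine (map_sum _ _ _).trans ?_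
    refine Eq.trans (Finset.sum_congr rfl fun q _ => ?_) (hs s (subset_refl s))
    refine (congr($(ιT_tMap (𝟙 L) S.g (n - q) q n (sub_add_cancel n q)).hom (y q))).trans ?_
    exact congrArg _ (hy q)

end KFlatLib
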