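import Groth.Agent.KFlatLib.StalkCx
import Groth.Agent.KFlatLib.AlgMore
import Groth.Agent.KFlatLib.Sky

/-!
# K-flat complexes of `O_X`-modules: stalk criterion and short exact sequences
-/

set_option autoImplicit false

universe u

open CategoryTheory CategoryTheory.Limits AlgebraicGeometry MonoidalCategory HomologicalComplex

namespace KFlatLib

variable {X : Scheme.{u}}

/-- The complex of skyscraper modules has the given complex as stalk. -/
noncomputable def stalkCxSkyIso (x : X) (L : CochainComplex (ModuleCat.{u} (X.presheaf.stalk x)) ℤ) :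
    (stalkCx X x).obj (((skyMod x).mapHomologicalComplex (ComplexShape.up ℤ)).obj L) ≅ L :=
  Hom.isoOfComponents (fun n => skyCounit x (L.X n))
    (fun i j _ => ((skyCounitNatIso x).hom.naturality (L.d i j)).symm)

theorem acyclic_map {A B : Type*} [Category* A] [Category* B] [Abelian A] [Abelian B] (G : A ⥤ B)
    [G.Additive] [G.PreservesHomology] {L : CochainComplex A ℤ} (hL : Acyclic' L) :
    Acyclic' ((G.mapHomologicalComplex (ComplexShape.up ℤ)).obj L) :=
  fun i => (G.map_isZero (hL i)).of_iso ((L.sc i).mapHomologyIso G)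

theorem acyclic_of_iso {A : Type*} [Category* A] [Abelian A] {K L : CochainComplex A ℤ} (e : K ≅ L)
    (hK : Acyclic' K) : Acyclic' L :=
  fun i => (hK i).of_iso ((homologyFunctor _ _ i).mapIso e).symm

theorem stalks_isKFlat {E : CochainComplex X.Modules ℤ} (hE : DCoh.IsKFlat E) (x : X) :
    DRing.IsKFlat (X.presheaf.stalk x) ((stalkCx X x).obj E) := by
  intro L hL
  exact acyclic_of_iso (MonoidalCategory.whiskerRightIso (stalkCxSkyIso x L) _)
    ((tensor_acyclic_iff _ E).mp (hE _ (acyclic_map (skyMod x) hL)) x)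

theorem isKFlat_iff_stalks (E : CochainComplex X.Modules ℤ) :
    DCoh.IsKFlat E ↔ ∀ x : X, DRing.IsKFlat (X.presheaf.stalk x) ((stalkCx X x).obj E) :=
  ⟨stalks_isKFlat, isKFlat_of_stalks E⟩

theorem quasiIso_comp_iff_left {A : Type*} [Category* A] [Abelian A] {K L M : CochainComplex A ℤ}
    (e : K ≅ L) (f : L ⟶ M) : QuasiIso (e.hom ≫ f) ↔ QuasiIso f :=
  ⟨fun _ => quasiIso_of_comp_left e.hom f, fun _ => inferInstance⟩

/-- Whether a map of tensor products is a quasi-isomorphism can be checked on stalks. -/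
theorem quasiIso_mapBifunctorMap_iff {L L' E E' : CochainComplex X.Modules ℤ} (f : L ⟶ L')
    (g : E ⟶ E') :
    QuasiIso (mapBifunctorMap f g (DCoh.tensorBi (X := X)) (ComplexShape.up ℤ)) ↔
      ∀ x : X, QuasiIso (tMap ((stalkCx X x).map f) ((stalkCx X x).map g)) := by
  rw [quasiIso_iff_stalks]
  refine forall_congr' fun x => ?_
  have h : tMap ((stalkCx X x).map f) ((stalkCx X x).map g) ≫ (stalkTensorCxIso x L' E').hom =
      (stalkTensorCxIso x L E).hom ≫
        (stalkCx X x).map (mapBifunctorMap f g (DCoh.tensorBi (X := X)) (ComplexShape.up ℤ)) :=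
    stalkTensorCxIso_natural x f g
  refine (quasiIso_comp_iff_left (stalkTensorCxIso x L E) _).symm.trans ?_
  exact ⟨fun hq => by
      have : QuasiIso (tMap ((stalkCx X x).map f) ((stalkCx X x).map g) ≫
          (stalkTensorCxIso x L' E').hom) := h.symm ▸ hq
      exact quasiIso_of_comp_right _ (stalkTensorCxIso x L' E').hom,
    fun hq => h ▸ (inferInstance : QuasiIso (tMap ((stalkCx X x).map f) ((stalkCx X x).map g) ≫
          (stalkTensorCxIso x L' E').hom))⟩

/-- Two out of three for K-flatness, with flat quotient. -/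
theorem kFlat_two_out_of_three (S : ShortComplex (CochainComplex X.Modules ℤ)) (hS : S.ShortExact)
    (h3 : ∀ n : ℤ, FlatMod.IsFlat (S.X₃.X n)) (x : X)
    {L : CochainComplex (ModuleCat.{u} (X.presheaf.stalk x)) ℤ} :
    (Acyclic' (L ⊗ (stalkCx X x).obj S.X₁) → Acyclic' (L ⊗ (stalkCx X x).obj S.X₂) →
        Acyclic' (L ⊗ (stalkCx X x).obj S.X₃)) ∧
      (Acyclic' (L ⊗ (stalkCx X x).obj S.X₁) → Acyclic' (L ⊗ (stalkCx X x).obj S.X₃) →
        Acyclic' (L ⊗ (stalkCx X x).obj S.X₂)) ∧
      (Acyclic' (L ⊗ (stalkCx X x).obj S.X₂) → Acyclic' (L ⊗ (stalkCx X x).obj S.X₃) →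
        Acyclic' (L ⊗ (stalkCx X x).obj S.X₁)) := by
  let S' := S.map (stalkCx X x)
  have hS' : S'.ShortExact := shortExact_of_degreewise_shortExact _ fun n =>
    ((shortExact_iff_degreewise_shortExact S).mp hS n).map_of_exact (DerSch.stalkFunctor X x)
  have hT := shortExact_tMap L (S := S') hS' (fun i => h3 i x)
  refine ⟨fun h₁ h₂ i => ?_, fun h₁ h₃ i => ?_, fun h₂ h₃ i => ?_⟩
  · exact (hT.homology_exact₃ i (i + 1) (by simp)).isZero_X₂ ((h₂ i).eq_of_src _ _)
      ((h₁ (i + 1)).eq_of_tgt _ _)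
  · exact (hT.homology_exact₂ i).isZero_X₂ ((h₁ i).eq_of_src _ _) ((h₃ i).eq_of_tgt _ _)
  · exact (hT.homology_exact₁ (i - 1) i (by simp)).isZero_X₂ ((h₃ (i - 1)).eq_of_src _ _)
      ((h₂ i).eq_of_tgt _ _)

end KFlatLib
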