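import Groth.Agent.KFlatLib.Resol

/-!
# Properties of the functorial K-flat resolution
-/

set_option autoImplicit false

universe u

open CategoryTheory CategoryTheory.Limits AlgebraicGeometry TopologicalSpace HomologicalComplex
open MonoidalCategory (tensorLeft)
open CochainComplex (mappingCone)

namespace KFlatLib

/-- A degreewise surjection whose kernel is acyclic is a quasi-isomorphism. -/
theorem quasiIso_of_surjective {R : Type u} [CommRing R]
    {E F : CochainComplex (ModuleCat.{u} R) ℤ} (f : E ⟶ F) [∀ n, Epi (f.f n)]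
    (h : ∀ (n : ℤ) (z : E.X n), (E.d n (n + 1)).hom z = 0 → (f.f n).hom z = 0 →
      ∃ c : E.X (n - 1), (E.d (n - 1) n).hom c = z ∧ (f.f (n - 1)).hom c = 0) : QuasiIso f := by
  let S : ShortComplex (CochainComplex (ModuleCat.{u} R) ℤ) :=
    ShortComplex.mk (kernel.ι f) f (kernel.condition f)
  have hf : Epi f := epi_of_epi_f f inferInstance
  have hS : S.ShortExact :=
    { exact := ShortComplex.exact_of_f_is_kernel _ (kernelIsKernel f) }
  refine quasiIso_g_of_acyclic (S := S) hS fun n => ?_
  have hd : ∀ m, Function.Injective ((kernel.ι f).f m).hom ∧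
      Function.Exact ((kernel.ι f).f m).hom (f.f m).hom := fun m => by
    have := (shortExact_iff_degreewise_shortExact S).mp hS m
    exact ⟨(ModuleCat.mono_iff_injective _).mp this.mono_f,
      (ShortComplex.ShortExact.moduleCat_exact_iff_function_exact _).mp this.exact⟩
  rw [isZero_homology_iff_exists _ (n - 1) n (n + 1) (by omega) rfl]
  intro z hz
  obtain ⟨c, hc₁, hc₂⟩ := h n (((kernel.ι f).f n).hom z)
    ((congr($((kernel.ι f).comm n (n + 1)).hom z)).trans
      ((congrArg ((kernel.ι f).f (n + 1)).hom hz).trans (map_zero _)))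
    (((hd n).2 _).mpr ⟨z, rfl⟩)
  obtain ⟨y, hy⟩ := ((hd (n - 1)).2 c).mp hc₂
  refine ⟨y, (hd n).1 ?_⟩
  refine (congr($((kernel.ι f).comm (n - 1) n).hom y)).symm.trans ?_
  change (E.d (n - 1) n).hom (((kernel.ι f).f (n - 1)).hom y) = _
  rw [hy]
  exact hc₁

theorem flat_prod {R : Type u} [CommRing R] {M N : Type u} [AddCommGroup M] [AddCommGroup N]
    [Module R M] [Module R N] [Module.Flat R M] [Module.Flat R N] : Module.Flat R (M × N) := by
  rw [Module.Flat.iff_lTensor_injectiveₛ]
  intro P _ _ Q
  let e := TensorProduct.prodLeft R R M N Q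
  let e' := TensorProduct.prodLeft R R M N P
  have h : ∀ z, e' (Q.subtype.lTensor (M × N) z) =
      Prod.map (Q.subtype.lTensor M) (Q.subtype.lTensor N) (e z) := by
    intro z
    induction z using TensorProduct.induction_on with
    | zero => simp [Prod.map, Prod.ext_iff]
    | tmul m q => obtain ⟨a, b⟩ := m; simp [e, e']
    | add a b ha hb => simp [map_add, ha, hb, Prod.map]
  intro a b hab
  refine e.injective ?_
  have := congr_arg e' hab
  rw [h, h] at this
  exact (Function.Injective.prodMap (Module.Flat.lTensor_preserves_injective_linearMap _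
    Q.subtype_injective) (Module.Flat.lTensor_preserves_injective_linearMap _
      Q.subtype_injective)) this

theorem flat_of_splitting {R : Type u} [CommRing R] {S : ShortComplex (ModuleCat.{u} R)}
    (s : S.Splitting) [Module.Flat R S.X₁] [Module.Flat R S.X₃] : Module.Flat R S.X₂ :=
  haveI : Module.Flat R (S.X₁ × S.X₃) := flat_prod
  Module.Flat.of_linearEquiv
    ({ toFun := fun m => (s.r.hom m, S.g.hom m)
       invFun := fun p => S.f.hom p.1 + s.s.hom p.2
       map_add' := fun a b => by simp
       map_smul' := fun c a => by simp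
       left_inv := fun m => congr($(s.id).hom m)
       right_inv := fun p => by
        have h₁ : S.g.hom (S.f.hom p.1) = 0 := congr($(S.zero).hom p.1)
        have h₂ : s.r.hom (S.f.hom p.1) = p.1 := congr($(s.f_r).hom p.1)
        have h₃ : S.g.hom (s.s.hom p.2) = p.2 := congr($(s.s_g).hom p.2)
        have h₄ : s.r.hom (s.s.hom p.2) = 0 := congr($(s.s_r).hom p.2)
        simp [h₁, h₂, h₃, h₄] } : S.X₂ ≃ₗ[R] S.X₁ × S.X₃)

variable {X : Scheme.{u}}

/-- K-flat with flat terms. -/
abbrev Good (K : CochainComplex X.Modules ℤ) : Prop :=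
  DCoh.IsKFlat K ∧ ∀ n, FlatMod.IsFlat (K.X n)

theorem good_zeroCx {A : ℤ → X.Modules} (h : ∀ n, FlatMod.IsFlat (A n)) : Good (zeroCx A) :=
  ⟨isKFlat_of_stalks _ fun x => isKFlat_of_d_eq_zero _
    (fun i j => (DerSch.stalkFunctor X x).map_zero _ _) (fun n => h n x), h⟩

theorem good_shift_zeroCx {A : ℤ → X.Modules} (h : ∀ n, FlatMod.IsFlat (A n)) :
    Good ((zeroCx A)⟦(1 : ℤ)⟧) :=
  ⟨isKFlat_of_stalks _ fun x => isKFlat_of_d_eq_zero _
    (fun i j => by
      change (DerSch.stalkFunctor X x).map ((1 : ℤ).negOnePow • (0 : A _ ⟶ A _)) = 0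
      rw [smul_zero, Functor.map_zero])
    (fun n => h (n + 1) x), fun n => h (n + 1)⟩

theorem good_cone {A : ℤ → X.Modules} (hA : ∀ n, FlatMod.IsFlat (A n))
    {K : CochainComplex X.Modules ℤ} (hK : Good K) (φ : zeroCx A ⟶ K) : Good (mappingCone φ) := by
  let S := CochainComplex.mappingCone.triangleRotateShortComplex φ
  have hsplit : DegSplit S := CochainComplex.mappingCone.triangleRotateShortComplexSplitting φ
  have h₃ : Good S.X₃ := good_shift_zeroCx hA
  refine ⟨isKFlat_of_stalks _ fun x L hL =>
    (kFlat_two_out_of_three S (shortExact_of_degSplit hsplit) h₃.2 x (L := L)).2.1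
      (stalks_isKFlat hK.1 x L hL) (stalks_isKFlat h₃.1 x L hL), fun n x => ?_⟩
  have : Module.Flat (X.presheaf.stalk x) ((DerSch.stalkFunctor X x).obj (S.X₁.X n)) := hK.2 n x
  have : Module.Flat (X.presheaf.stalk x) ((DerSch.stalkFunctor X x).obj (S.X₃.X n)) := h₃.2 n x
  have := @flat_of_splitting _ _ _ ((hsplit n).map (DerSch.stalkFunctor X x))
    ‹Module.Flat (X.presheaf.stalk x) ((DerSch.stalkFunctor X x).obj (S.X₁.X n))› ‹_›
  exact this

theorem good_stg (G : CochainComplex X.Modules ℤ) : ∀ k, Good ((stg k).P.obj G) := by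
  intro k
  induction k with
  | zero => exact good_cone (fun _ => cover_flat _) (good_zeroCx fun _ => cover_flat _) _
  | succ k ih => exact good_cone (fun _ => cover_flat _) ih _

/-- The tower evaluated at `G`. -/
noncomputable abbrev towerAt (G : CochainComplex X.Modules ℤ) : ℕ ⥤ CochainComplex X.Modules ℤ :=
  tower ⋙ (evaluation _ _).obj G

/-- The colimit cocone of the tower at `G`. -/
noncomputable abbrev resCocone (G : CochainComplex X.Modules ℤ) : Cocone (towerAt G) :=
  ((evaluation _ _).obj G).mapCocone (colimit.cocone (tower (X := X)))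

/-- The tower of stalks. -/
noncomputable def stalkTower (G : CochainComplex X.Modules ℤ) (x : X) :
    ℕ ⥤ CochainComplex (ModuleCat.{u} (X.presheaf.stalk x)) ℤ :=
  towerAt G ⋙ stalkCx X x

/-- The colimit cocone of stalks. -/
noncomputable def stalkCocone (G : CochainComplex X.Modules ℤ) (x : X) :
    Cocone (stalkTower G x) where
  pt := (stalkCx X x).obj ((resP X).obj G)
  ι :=
    { app := fun k => (stalkCx X x).map ((colimit.ι (tower (X := X)) k).app G)
      naturality := fun i j f => by
        refine ((stalkCx X x).map_comp _ _).symm.trans (Eq.trans ?_ (Category.comp_id _).symm)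
        exact congrArg (stalkCx X x).map (congr($(colimit.w (tower (X := X)) f).app G)) }

theorem stalkCocone_app (G : CochainComplex X.Modules ℤ) (x : X) (k : ℕ) :
    (stalkCocone G x).ι.app k = (stalkCx X x).map ((colimit.ι (tower (X := X)) k).app G) := rfl

/-- The cocone of stalks is a colimit in each degree. -/
noncomputable def isColimitStalk (G : CochainComplex X.Modules ℤ) (x : X) (q : ℤ) :
    IsColimit ((eval _ (ComplexShape.up ℤ) q).mapCocone (stalkCocone G x)) :=
  haveI : PreservesColimitsOfSize.{0, 0} (DerSch.stalkFunctor X x) := inferInstance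
  IsColimit.ofIsoColimit
    (isColimitOfPreserves (eval X.Modules (ComplexShape.up ℤ) q ⋙ DerSch.stalkFunctor X x)
      (isColimitOfPreserves ((evaluation _ _).obj G) (colimit.isColimit (tower (X := X)))))
    (Cocone.ext (Iso.refl _) (fun _ => Category.comp_id _))

theorem good_resP (G : CochainComplex X.Modules ℤ) : Good ((resP X).obj G) :=
  ⟨isKFlat_of_stalks _ fun x => isKFlat_colim (stalkTower G x) (stalkCocone G x)
      (isColimitStalk G x) fun k => stalks_isKFlat (good_stg G k).1 x,
    fun n x => flat_colim (stalkTower G x) (stalkCocone G x) (isColimitStalk G x) n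
      fun k => (good_stg G k).2 n x⟩

theorem ι_resψ (G : CochainComplex X.Modules ℤ) (k : ℕ) :
    (colimit.ι (tower (X := X)) k).app G ≫ (resψ X).app G = (stg k).π.app G :=
  congr($(colimit.ι_desc (towerCocone (X := X)) k).app G)

theorem epi_resψ (G : CochainComplex X.Modules ℤ) (n : ℤ) : Epi (((resψ X).app G).f n) := by
  have h := congr($(ι_resψ G 0).f n)
  have h' : (CochainComplex.mappingCone.inl (𝟙 (baseObj G))).v (n + 1) n (by omega) ≫
      (baseπ G).f n = (baseα G).v (n + 1) n (by omega) := by
    rw [baseπ, CochainComplex.mappingCone.inl_v_desc_f]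
  have : Epi ((baseα G).v (n + 1) n (by omega)) := by
    rw [baseα, CochainComplex.HomComplex.Cochain.mk_v]
    exact @epi_comp _ _ _ _ _ _ (epi_coverπ _) _ inferInstance
  have h0 : Epi (((stg (X := X) 0).π.app G).f n) :=
    epi_of_epi_fac (f := (CochainComplex.mappingCone.inl (𝟙 (baseObj G))).v (n + 1) n (by omega))
      h'
  exact @epi_of_epi_fac _ _ _ _ _ _ _ _ h0 h

theorem tower_succ (G : CochainComplex X.Modules ℤ) (k : ℕ) :
    (CochainComplex.mappingCone.inr (stepφ (stg k) G)) ≫ (colimit.ι (tower (X := X)) (k + 1)).app G =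
      (colimit.ι (tower (X := X)) k).app G := by
  have h : (tower (X := X)).map (homOfLE (Nat.le_add_right k 1)) = nextι (stg k) :=
    Functor.ofSequence_map_homOfLE_succ _ k
  have := congr($(colimit.w (tower (X := X)) (homOfLE (Nat.le_add_right k 1))).app G)
  rw [h] at this
  exact this

theorem quasiIso_resψ (G : CochainComplex X.Modules ℤ) : QuasiIso ((resψ X).app G) := by
  rw [quasiIso_iff_stalks]
  intro x
  have : ∀ n, Epi (((stalkCx X x).map ((resψ X).app G)).f n) := fun n => by
    have := epi_resψ G n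
    exact inferInstanceAs (Epi ((DerSch.stalkFunctor X x).map (((resψ X).app G).f n)))
  refine quasiIso_of_surjective _ fun n z hz hz' => ?_
  let S' := stalkTower G x
  let c := stalkCocone G x
  have : PreservesFilteredColimitsOfSize.{0, 0}
      (CategoryTheory.forget (ModuleCat.{u} (X.presheaf.stalk x))) :=
    preservesFilteredColimitsOfSize_shrink.{0, u, 0, u} _
  obtain ⟨j, w, rfl⟩ := Concrete.isColimit_exists_rep _ (isColimitStalk G x n) z
  change ↥((S'.obj j).X n) at w
  have hdw : ((c.ι.app j).f (n + 1)).hom (((S'.obj j).d n (n + 1)).hom w) = 0 :=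
    (congr($((c.ι.app j).comm n (n + 1)).hom w)).symm.trans hz
  obtain ⟨k, f, g, hk⟩ := (Concrete.isColimit_rep_eq_iff_exists _ (isColimitStalk G x (n + 1))
    (i := j) (j := j) (((S'.obj j).d n (n + 1)).hom w) 0).mp (hdw.trans (map_zero _).symm)
  let v : (S'.obj k).X n := ((S'.map f).f n).hom w
  have hv : ((c.ι.app k).f n).hom v = ((c.ι.app j).f n).hom w := by
    have := congr($(congr_arg (fun t => Hom.f t n) (c.w f)).hom w)
    exact this
  have hdv : ((S'.obj k).d n (n + 1)).hom v = 0 :=
    (congr($((S'.map f).comm n (n + 1)).hom w)).trans (hk.trans (map_zero _))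
  let P := (stg k).P.obj G
  let π : P ⟶ G := (stg k).π.app G
  change ↥((DerSch.stalkFunctor X x).obj (P.X n)) at v
  have hπv : ((DerSch.stalkFunctor X x).map (π.f n)).hom v = 0 := by
    refine Eq.trans ?_ hz'
    change _ = ((DerSch.stalkFunctor X x).map (((resψ X).app G).f n)).hom _
    refine Eq.trans ?_ (congrArg _ hv)
    exact congr($(congr_arg (fun t => (DerSch.stalkFunctor X x).map (Hom.f t n))
      (ι_resψ G k)).hom v).symm.trans
        (congr($((DerSch.stalkFunctor X x).map_comp
          (((colimit.ι (tower (X := X)) k).app G).f n) (((resψ X).app G).f n)).hom v))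
  -- lift to the kernel, then to a generator
  let lf := biprod.lift (P.d n (n + 1)) (π.f n)
  let K₀ := ShortComplex.mk (kernel.ι lf) lf (kernel.condition lf)
  have hK₀ : (K₀.map (DerSch.stalkFunctor X x)).Exact :=
    (ShortComplex.exact_of_f_is_kernel K₀ (kernelIsKernel lf)).map _
  have hlf : ((DerSch.stalkFunctor X x).map lf).hom v = 0 := by
    have e : lf = P.d n (n + 1) ≫ biprod.inl + π.f n ≫ biprod.inr := biprod.lift_eq
    rw [e, Functor.map_add, Functor.map_comp, Functor.map_comp]
    change ((DerSch.stalkFunctor X x).map biprod.inl).hom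
        (((DerSch.stalkFunctor X x).map (P.d n (n + 1))).hom v) +
      ((DerSch.stalkFunctor X x).map biprod.inr).hom (((DerSch.stalkFunctor X x).map (π.f n)).hom v) = 0
    have hdv' : ((DerSch.stalkFunctor X x).map (P.d n (n + 1))).hom v = 0 := hdv
    rw [hdv', hπv, map_zero, map_zero, add_zero]
  obtain ⟨a, ha⟩ := (ShortComplex.ShortExact.moduleCat_exact_iff_function_exact _).mp hK₀ v |>.mp hlf
  obtain ⟨b, hb⟩ := (ModuleCat.epi_iff_surjective
    ((DerSch.stalkFunctor X x).map ((coverπ (X := X)).app (zq (stg k) G n)))).mp inferInstance a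
  let φ := stepφ (stg k) G
  have hφb : ((DerSch.stalkFunctor X x).map (φ.f n)).hom b = v := by
    refine (congr($((DerSch.stalkFunctor X x).map_comp ((coverπ (X := X)).app (zq (stg k) G n))
      (kernel.ι lf)).hom b)).trans ?_
    exact (congrArg _ hb).trans ha
  let il := (CochainComplex.mappingCone.inl φ).v n (n - 1) (by omega)
  let j' := ((colimit.ι (tower (X := X)) (k + 1)).app G)
  have hild : il ≫ (mappingCone φ).d (n - 1) n = φ.f n ≫ (CochainComplex.mappingCone.inr φ).f n := by
    rw [CochainComplex.mappingCone.inl_v_d φ n (n - 1) (n + 1) (by omega) (by omega)]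
    have : (stepObj (stg k) G).d n (n + 1) = 0 := rfl
    rw [this, zero_comp, sub_zero]
  have hilπ : il ≫ (stepπ (stg k) G).f (n - 1) = 0 := by
    rw [stepπ, CochainComplex.mappingCone.inl_v_desc_f, CochainComplex.HomComplex.Cochain.zero_v]
  refine ⟨((DerSch.stalkFunctor X x).map (il ≫ j'.f (n - 1))).hom b, ?_, ?_⟩
  · refine Eq.trans ?_ hv
    have e : (il ≫ j'.f (n - 1)) ≫ ((resP X).obj G).d (n - 1) n =
        φ.f n ≫ ((colimit.ι (tower (X := X)) k).app G).f n := by
      refine (Category.assoc _ _ _).trans ((congrArg (il ≫ ·) (j'.comm (n - 1) n)).trans ?_)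
      refine (Category.assoc _ _ _).symm.trans ((congrArg (· ≫ j'.f n) hild).trans ?_)
      refine (Category.assoc _ _ _).trans (congrArg (φ.f n ≫ ·) ?_)
      exact congr($(tower_succ G k).f n)
    refine (congr($((DerSch.stalkFunctor X x).map_comp (il ≫ j'.f (n - 1))
      (((resP X).obj G).d (n - 1) n)).hom b)).symm.trans ?_
    refine (congr($(congr_arg (fun t => (DerSch.stalkFunctor X x).map t) e).hom b)).trans ?_
    refine (congr($((DerSch.stalkFunctor X x).map_comp (φ.f n)
      (((colimit.ι (tower (X := X)) k).app G).f n)).hom b)).trans ?_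
    exact congrArg _ hφb
  · refine (congr($((DerSch.stalkFunctor X x).map_comp (il ≫ j'.f (n - 1))
      (((resψ X).app G).f (n - 1))).hom b)).symm.trans ?_
    have e : (il ≫ j'.f (n - 1)) ≫ ((resψ X).app G).f (n - 1) = 0 := by
      refine (Category.assoc _ _ _).trans ?_
      exact (congrArg (il ≫ ·) (congr($(ι_resψ G (k + 1)).f (n - 1)))).trans hilπ
    rw [e, Functor.map_zero]
    rfl

end KFlatLib
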