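import Groth.Agent.KFlatLib.Derived
import Groth.Agent.KFlatLib.ResolProps
import Groth.Prelude.Def_DCoh2
import Mathlib.Algebra.Homology.DerivedCategory.Basic

/-!
# Left derived functors of additive functors on O_X-modules through K-flat resolutions
-/

set_option autoImplicit false

universe u w v

open CategoryTheory CategoryTheory.Limits AlgebraicGeometry

namespace KFlatLib

variable {X : Scheme.{u}} {B : Type w} [Category.{v} B] [Abelian B] [HasDerivedCategory B]

variable (Φ : X.Modules ⥤ B) [Φ.Additive] [HasDerivedCategory X.Modules]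

/-- `Φ` preserves quasi-isomorphisms between K-flat complexes. -/
def PreservesKFlatQis : Prop :=
  ∀ (P Q : CochainComplex X.Modules ℤ) (α : P ⟶ Q), DCoh.IsKFlat P → DCoh.IsKFlat Q → QuasiIso α →
    QuasiIso ((Φ.mapHomologicalComplex (ComplexShape.up ℤ)).map α)

/-- The functor `K(O_X) ⥤ D(B)` induced by `Φ`. -/
noncomputable abbrev khFunctor : HomotopyCategory X.Modules (ComplexShape.up ℤ) ⥤ DerivedCategory B :=
  Φ.mapHomotopyCategory (ComplexShape.up ℤ) ⋙ DerivedCategory.Qh

variable {Φ}

omit [HasDerivedCategory X.Modules] in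
theorem isIso_khFunctor_map (hΦ : PreservesKFlatQis Φ) {P Q : CochainComplex X.Modules ℤ}
    (α : P ⟶ Q) (hP : DCoh.IsKFlat P) (hQ : DCoh.IsKFlat Q) (hα : QuasiIso α) :
    IsIso ((HomotopyCategory.quotient X.Modules (ComplexShape.up ℤ) ⋙ khFunctor Φ).map α) := by
  have := hΦ P Q α hP hQ hα
  have : IsIso (DerivedCategory.Q.map ((Φ.mapHomologicalComplex (ComplexShape.up ℤ)).map α)) :=
    inferInstance
  have h2 : IsIso ((HomotopyCategory.quotient B (ComplexShape.up ℤ) ⋙ DerivedCategory.Qh).map
      ((Φ.mapHomologicalComplex (ComplexShape.up ℤ)).map α)) :=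
    (NatIso.isIso_map_iff (DerivedCategory.quotientCompQhIso B) _).2 this
  exact h2

/-- The left derived functor computed by the functorial K-flat resolution. -/
theorem exists_leftDerived (hΦ : PreservesKFlatQis Φ) :
    ∃ (LF : DerivedCategory X.Modules ⥤ DerivedCategory B)
      (α : DerivedCategory.Qh ⋙ LF ⟶ khFunctor Φ),
      LF.IsRightKanExtension α ∧ ∀ K : CochainComplex X.Modules ℤ, DCoh.IsKFlat K →
        IsIso (α.app ((HomotopyCategory.quotient X.Modules (ComplexShape.up ℤ)).obj K)) := by
  let q := HomotopyCategory.quotient X.Modules (ComplexShape.up ℤ)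
  let W := HomologicalComplex.quasiIso X.Modules (ComplexShape.up ℤ)
  have : (q ⋙ DerivedCategory.Qh).IsLocalization W :=
    Functor.IsLocalization.of_iso W (DerivedCategory.quotientCompQhIso X.Modules).symm
  have hψ : ∀ K, W ((resψ X).app K) := fun K => quasiIso_resψ K
  have hR : W.IsInvertedBy (resP X ⋙ q ⋙ khFunctor Φ) := fun K L f (hf : QuasiIso f) => by
    refine isIso_khFunctor_map hΦ _ (good_resP K).1 (good_resP L).1 ?_
    have := quasiIso_resψ K
    have := quasiIso_resψ L
    have : QuasiIso ((resP X).map f ≫ (resψ X).app L) := by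
      rw [(resψ X).naturality f]
      change QuasiIso ((resψ X).app K ≫ f)
      exact quasiIso_comp _ _
    exact quasiIso_of_comp_right ((resP X).map f) ((resψ X).app L)
  have := isRightKanExtension_derivedOfRes (q ⋙ DerivedCategory.Qh) W (q ⋙ khFunctor Φ) (resP X)
    (resψ X) hψ
    (fun K => isIso_khFunctor_map hΦ _ (good_resP _).1 (good_resP _).1 (hψ _)) hR
  refine ⟨_, _, isRightKanExtension_liftQuotient DerivedCategory.Qh (khFunctor Φ) _
    (derivedOfResα (q ⋙ DerivedCategory.Qh) W (q ⋙ khFunctor Φ) (resP X) (resψ X) hR),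
    fun K hK => ?_⟩
  change IsIso ((derivedOfResα (q ⋙ DerivedCategory.Qh) W (q ⋙ khFunctor Φ) (resP X) (resψ X) hR).app K)
  rw [derivedOfResα_app]
  have := isIso_khFunctor_map hΦ _ (good_resP K).1 hK (hψ K)
  exact @IsIso.comp_isIso _ _ _ _ _ _ _
    (inferInstanceAs (IsIso ((Localization.fac _ hR (q ⋙ DerivedCategory.Qh)).app K).hom)) this

/-- An additive functor preserving quasi-isomorphisms between K-flat complexes has a total left
derived functor. -/
theorem hasLeftDerived_of_kFlat (hΦ : PreservesKFlatQis Φ) :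
    (khFunctor Φ).HasLeftDerivedFunctor
      (HomotopyCategory.quasiIso X.Modules (ComplexShape.up ℤ)) := by
  obtain ⟨LF, α, h, -⟩ := exists_leftDerived hΦ
  rw [Functor.hasLeftDerivedFunctor_iff (khFunctor Φ) DerivedCategory.Qh]
  exact Functor.HasRightKanExtension.mk _ α

/-- The left derived functor is computed by K-flat complexes. -/
theorem isIso_counit_of_kFlat (hΦ : PreservesKFlatQis Φ)
    [(khFunctor Φ).HasLeftDerivedFunctor (HomotopyCategory.quasiIso X.Modules (ComplexShape.up ℤ))]
    (K : CochainComplex X.Modules ℤ) (hK : DCoh.IsKFlat K) :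
    IsIso (((khFunctor Φ).totalLeftDerivedCounit DerivedCategory.Qh
      (HomotopyCategory.quasiIso X.Modules (ComplexShape.up ℤ))).app
        ((HomotopyCategory.quotient X.Modules (ComplexShape.up ℤ)).obj K)) := by
  obtain ⟨LF, α, h, hiso⟩ := exists_leftDerived hΦ
  have := hiso K hK
  let W := HomotopyCategory.quasiIso X.Modules (ComplexShape.up ℤ)
  have h' : ((khFunctor Φ).totalLeftDerived DerivedCategory.Qh W).IsRightKanExtension
      ((khFunctor Φ).totalLeftDerivedCounit DerivedCategory.Qh W) :=
    Functor.IsLeftDerivedFunctor.isRightKanExtension _ _ W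
  exact isIso_app_of_isRightKanExtension _ LF _ α _

/-- The value of the left derived functor at a K-flat complex. -/
noncomputable def leftDerivedObjIso (hΦ : PreservesKFlatQis Φ)
    [(khFunctor Φ).HasLeftDerivedFunctor (HomotopyCategory.quasiIso X.Modules (ComplexShape.up ℤ))]
    (K : CochainComplex X.Modules ℤ) (hK : DCoh.IsKFlat K) :
    ((khFunctor Φ).totalLeftDerived DerivedCategory.Qh
      (HomotopyCategory.quasiIso X.Modules (ComplexShape.up ℤ))).obj (DerivedCategory.Q.obj K) ≅
      DerivedCategory.Q.obj ((Φ.mapHomologicalComplex (ComplexShape.up ℤ)).obj K) :=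
  ((khFunctor Φ).totalLeftDerived DerivedCategory.Qh _).mapIso
      ((DerivedCategory.quotientCompQhIso X.Modules).app K).symm ≪≫
    @asIso _ _ _ _ _ (isIso_counit_of_kFlat hΦ K hK) ≪≫
    (DerivedCategory.quotientCompQhIso B).app _

end KFlatLib
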