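import Groth.Agent.KFlatLib.Cone
import Groth.Agent.KFlatLib.AlgMore
import Groth.Agent.KFlatLib.TotalMap
import Mathlib.Algebra.Category.ModuleCat.Monoidal.Adjunction

/-!
# Base change of K-flat complexes of modules over rings
-/

set_option autoImplicit false

universe u

open CategoryTheory CategoryTheory.Limits MonoidalCategory Functor.LaxMonoidal HomologicalComplex
open scoped TensorProduct

namespace KFlatLib

variable {A B : Type u} [CommRing A] [CommRing B] (φ : A →+* B)

/-- The projection map `res a ⊗_A b ⟶ res (a ⊗_B (B ⊗_A b))`. -/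
noncomputable def projHom (a : ModuleCat.{u} B) (b : ModuleCat.{u} A) :
    (ModuleCat.restrictScalars φ).obj a ⊗ b ⟶
      (ModuleCat.restrictScalars φ).obj (a ⊗ (ModuleCat.extendScalars.{u, u, u} φ).obj b) :=
  (ModuleCat.restrictScalars φ).obj a ◁
      (ModuleCat.extendRestrictScalarsAdj φ).unit.app b ≫
    μ (ModuleCat.restrictScalars φ) a ((ModuleCat.extendScalars.{u, u, u} φ).obj b)

instance isIso_projHom (a : ModuleCat.{u} B) (b : ModuleCat.{u} A) : IsIso (projHom φ a b) := by
  let : Algebra A B := φ.toAlgebra
  let : Module A a := Module.compHom a φ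
  have : IsScalarTower A B a := IsScalarTower.of_algebraMap_smul fun _ _ => rfl
  let e := (TensorProduct.AlgebraTensorModule.cancelBaseChange A B B a b).symm
  have h : ∀ z : a ⊗[A] b, (projHom φ a b).hom z = e z := by
    intro z
    induction z using TensorProduct.induction_on with
    | zero => exact (map_zero _).trans (map_zero e).symm
    | tmul m n =>
      refine Eq.trans ?_
        (TensorProduct.AlgebraTensorModule.cancelBaseChange_symm_tmul A B B (m : a) (n : b)).symm
      exact ModuleCat.restrictScalars_μ_tmul φ _ _ _ _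
    | add x y hx hy =>
      exact ((map_add _ x y).trans (congrArg₂ (· + ·) hx hy)).trans (map_add e x y).symm
  have hb : Function.Bijective (projHom φ a b).hom := by
    have : ⇑(projHom φ a b).hom = ⇑e := funext h
    rw [this]
    exact e.bijective
  exact (ConcreteCategory.isIso_iff_bijective _).mpr hb

theorem projHom_natural_left {a a' : ModuleCat.{u} B} (f : a ⟶ a') (b : ModuleCat.{u} A) :
    (ModuleCat.restrictScalars φ).map f ▷ b ≫ projHom φ a' b =
      projHom φ a b ≫ (ModuleCat.restrictScalars φ).map
        (f ▷ (ModuleCat.extendScalars.{u, u, u} φ).obj b) := by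
  rw [projHom, projHom, Category.assoc, ← μ_natural_left]
  exact (whisker_exchange_assoc _ _ _).symm

theorem projHom_natural_right (a : ModuleCat.{u} B) {b b' : ModuleCat.{u} A} (g : b ⟶ b') :
    (ModuleCat.restrictScalars φ).obj a ◁ g ≫ projHom φ a b' =
      projHom φ a b ≫ (ModuleCat.restrictScalars φ).map
        (a ◁ (ModuleCat.extendScalars.{u, u, u} φ).map g) := by
  rw [projHom, projHom, Category.assoc, ← μ_natural_right, ← MonoidalCategory.whiskerLeft_comp_assoc,
    ← MonoidalCategory.whiskerLeft_comp_assoc]
  congr 2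

/-- `(a, b) ↦ a ⊗_B (B ⊗_A b)`. -/
noncomputable abbrev extTensor : ModuleCat.{u} B ⥤ ModuleCat.{u} A ⥤ ModuleCat.{u} B :=
  curriedTensor (ModuleCat.{u} B) ⋙
    (Functor.whiskeringLeft _ _ _).obj (ModuleCat.extendScalars.{u, u, u} φ)

instance preservesZero_extTensor_obj (a : ModuleCat.{u} B) :
    ((extTensor φ).obj a).PreservesZeroMorphisms where
  map_zero _ _ := by
    change a ◁ (ModuleCat.extendScalars.{u, u, u} φ).map 0 = 0
    rw [Functor.map_zero, MonoidalPreadditive.whiskerLeft_zero]

instance additive_extTensor : (extTensor φ).Additive where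
  map_add {_ _ f g} := by
    ext b : 2
    exact MonoidalPreadditive.add_whiskerRight f g

/-- A complex whose restriction of scalars is acyclic is acyclic. -/
theorem acyclic_of_restrict {M : CochainComplex (ModuleCat.{u} B) ℤ}
    (h : Acyclic' (((ModuleCat.restrictScalars φ).mapHomologicalComplex (ComplexShape.up ℤ)).obj M)) :
    Acyclic' M := fun i => by
  have h' : IsZero ((ModuleCat.restrictScalars φ).obj (M.homology i)) :=
    (h i).of_iso ((M.sc i).mapHomologyIso (ModuleCat.restrictScalars φ)).symm
  rw [IsZero.iff_id_eq_zero] at h' ⊢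
  exact (ModuleCat.restrictScalars φ).map_injective
    (((ModuleCat.restrictScalars φ).map_id _).trans (h'.trans (Functor.map_zero _ _ _).symm))

/-- Base change of a K-flat complex is K-flat. -/
theorem isKFlat_extend {K : CochainComplex (ModuleCat.{u} A) ℤ} (hK : DRing.IsKFlat A K) :
    DRing.IsKFlat B
      (((ModuleCat.extendScalars.{u, u, u} φ).mapHomologicalComplex (ComplexShape.up ℤ)).obj K) := by
  intro L hL
  let e₁ := totalMapIso (extTensor φ) (curriedTensor (ModuleCat.{u} A)) (ModuleCat.restrictScalars φ)
    (𝟭 (ModuleCat.{u} A)) (ModuleCat.restrictScalars φ) (fun a b => asIso (projHom φ a b))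
    (fun f b => projHom_natural_left φ f b) (fun a {_ _} g => projHom_natural_right φ a g) L K
  have h₁ : Acyclic' (mapBifunctor L K (extTensor φ) (ComplexShape.up ℤ)) :=
    acyclic_of_restrict φ (acyclic_of_iso e₁
      (hK _ (acyclic_map (ModuleCat.restrictScalars φ) hL)))
  let e₂ := totalMapIso (extTensor φ) (curriedTensor (ModuleCat.{u} B)) (𝟭 (ModuleCat.{u} B))
    (ModuleCat.extendScalars.{u, u, u} φ) (𝟭 (ModuleCat.{u} B))
    (fun _ _ => Iso.refl _) (fun _ _ => (Category.comp_id _).trans (Category.id_comp _).symm)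
    (fun _ {_ _} _ => (Category.comp_id _).trans (Category.id_comp _).symm) L K
  exact acyclic_of_iso e₂.symm h₁

/-- `B ⊗_A - ≅` extension followed by restriction of scalars. -/
noncomputable def tensorLeftExtIso :
    tensorLeft ((ModuleCat.restrictScalars φ).obj (𝟙_ (ModuleCat.{u} B))) ≅
      ModuleCat.extendScalars.{u, u, u} φ ⋙ ModuleCat.restrictScalars φ :=
  NatIso.ofComponents (fun b => asIso (projHom φ (𝟙_ _) b) ≪≫
      (ModuleCat.restrictScalars φ).mapIso (λ_ ((ModuleCat.extendScalars.{u, u, u} φ).obj b)))
    fun {b b'} g => by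
      refine ((Category.assoc _ _ _).symm.trans (congrArg (· ≫ _)
        (projHom_natural_right φ _ g))).trans ?_
      refine ((Category.assoc _ _ _).trans ?_).trans (Category.assoc _ _ _).symm
      refine congrArg (projHom φ (𝟙_ _) b ≫ ·) ?_
      exact (((ModuleCat.restrictScalars φ).map_comp _ _).symm.trans (congrArg _
        (leftUnitor_naturality _))).trans ((ModuleCat.restrictScalars φ).map_comp _ _)

/-- Base change of an acyclic K-flat complex is acyclic. -/
theorem acyclic_extend {K : CochainComplex (ModuleCat.{u} A) ℤ} (hK : DRing.IsKFlat A K)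
    (hK0 : Acyclic' K) :
    Acyclic' (((ModuleCat.extendScalars.{u, u, u} φ).mapHomologicalComplex (ComplexShape.up ℤ)).obj K) := by
  refine acyclic_of_restrict φ (acyclic_of_iso ?_
    (acyclic_tensorLeft hK hK0 ((ModuleCat.restrictScalars φ).obj (𝟙_ (ModuleCat.{u} B)))))
  exact Hom.isoOfComponents (fun n => (tensorLeftExtIso φ).app (K.X n))
    (fun i j _ => ((tensorLeftExtIso φ).hom.naturality (K.d i j)).symm)

/-- Base change preserves quasi-isomorphisms of K-flat complexes. -/
theorem quasiIso_extend {P Q : CochainComplex (ModuleCat.{u} A) ℤ} (hP : DRing.IsKFlat A P)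
    (hQ : DRing.IsKFlat A Q) (g : P ⟶ Q) [QuasiIso g] :
    QuasiIso (((ModuleCat.extendScalars.{u, u, u} φ).mapHomologicalComplex (ComplexShape.up ℤ)).map g) :=
  quasiIso_map_of_cone _ g
    (acyclic_extend φ (isKFlat_mappingCone hP hQ g) ((acyclic_cone_iff g).mpr inferInstance))

end KFlatLib
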