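import Groth.Agent.KFlatLib.StalkPull
import Groth.Agent.KFlatLib.RingBaseChange
import Groth.Agent.KFlatLib.DCohBasic
import Groth.Agent.KFlatLib.DerivedMod
import Groth.Agent.KFlatLib.AlgMore
import Groth.Prelude.Def_DDual2

/-!
# Pullbacks of K-flat complexes
-/

set_option autoImplicit false

universe u

open CategoryTheory CategoryTheory.Limits AlgebraicGeometry MonoidalCategory HomologicalComplex

namespace KFlatLib

theorem isKFlat_ring_of_iso {R : Type u} [CommRing R] {K K' : CochainComplex (ModuleCat.{u} R) ℤ}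
    (e : K ≅ K') (h : DRing.IsKFlat R K) : DRing.IsKFlat R K' := fun M hM =>
  acyclic_of_iso (whiskerLeftIso M e) (h M hM)

variable {X Y : Scheme.{u}} (f : X ⟶ Y)

/-- The pullback of complexes. -/
noncomputable abbrev pullCx : CochainComplex Y.Modules ℤ ⥤ CochainComplex X.Modules ℤ :=
  (Scheme.Modules.pullback f).mapHomologicalComplex (ComplexShape.up ℤ)

/-- The extension of scalars of complexes along a stalk map. -/
noncomputable abbrev extCx (x : X) : CochainComplex (ModuleCat.{u} (Y.presheaf.stalk (f x))) ℤ ⥤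
    CochainComplex (ModuleCat.{u} (X.presheaf.stalk x)) ℤ :=
  (ModuleCat.extendScalars.{u, u, u} (f.stalkMap x).hom).mapHomologicalComplex (ComplexShape.up ℤ)

/-- Stalks of pulled back complexes. -/
noncomputable def stalkPullCxIso (x : X) (K : CochainComplex Y.Modules ℤ) :
    (stalkCx X x).obj ((pullCx f).obj K) ≅ (extCx f x).obj ((stalkCx Y (f x)).obj K) :=
  Hom.isoOfComponents (fun n => (stalkPullIso f x).app (K.X n))
    (fun i j _ => ((stalkPullIso f x).hom.naturality (K.d i j)).symm)

theorem stalks_pull_isKFlat {K : CochainComplex Y.Modules ℤ} (hK : DCoh.IsKFlat K) (x : X) :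
    DRing.IsKFlat (X.presheaf.stalk x) ((stalkCx X x).obj ((pullCx f).obj K)) :=
  isKFlat_ring_of_iso (stalkPullCxIso f x K).symm
    (isKFlat_extend (f.stalkMap x).hom (stalks_isKFlat hK (f x)))

theorem isKFlat_pull {K : CochainComplex Y.Modules ℤ} (hK : DCoh.IsKFlat K) :
    DCoh.IsKFlat ((pullCx f).obj K) :=
  isKFlat_of_stalks _ (stalks_pull_isKFlat f hK)

theorem stalkPullCxIso_natural (x : X) {K L : CochainComplex Y.Modules ℤ} (g : K ⟶ L) :
    (stalkCx X x).map ((pullCx f).map g) ≫ (stalkPullCxIso f x L).hom =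
      (stalkPullCxIso f x K).hom ≫ (extCx f x).map ((stalkCx Y (f x)).map g) :=
  HomologicalComplex.hom_ext _ _ fun n => (stalkPullIso f x).hom.naturality (g.f n)

theorem quasiIso_pull {P Q : CochainComplex Y.Modules ℤ} (hP : DCoh.IsKFlat P)
    (hQ : DCoh.IsKFlat Q) (g : P ⟶ Q) [QuasiIso g] : QuasiIso ((pullCx f).map g) := by
  rw [quasiIso_iff_stalks]
  intro x
  have : QuasiIso ((stalkCx Y (f x)).map g) := (quasiIso_iff_stalks g).mp inferInstance (f x)
  have : QuasiIso ((extCx f x).map ((stalkCx Y (f x)).map g)) :=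
    quasiIso_extend _ (stalks_isKFlat hP _) (stalks_isKFlat hQ _) _
  have : QuasiIso ((stalkCx X x).map ((pullCx f).map g) ≫ (stalkPullCxIso f x Q).hom) := by
    rw [stalkPullCxIso_natural]
    infer_instance
  exact quasiIso_of_comp_right ((stalkCx X x).map ((pullCx f).map g)) (stalkPullCxIso f x Q).hom

theorem preservesKFlatQis_pull : PreservesKFlatQis (Scheme.Modules.pullback f) :=
  fun _ _ g hP hQ _ => quasiIso_pull f hP hQ g

attribute [local instance] HasDerivedCategory.standard in
theorem hasLpull : DCoh.HasLpull f :=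
  hasLeftDerived_of_kFlat (preservesKFlatQis_pull f)

end KFlatLib
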