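import Groth.Agent.KFlatLib.LpullComp
import Groth.Agent.DerLib.KInjDerived
import Groth.Agent.DerLib.KInjRes
import Groth.Agent.ModSiteLib.Grothendieck

/-!
# The adjunction `Lf^* ⊣ Rf_*`
-/

set_option autoImplicit false

universe u w v

open CategoryTheory CategoryTheory.Limits AlgebraicGeometry HomologicalComplex
open Groth.Agent.DerLib

attribute [local instance] HasDerivedCategory.standard

namespace KFlatLib

variable {X : Scheme.{u}}

/-- A functor agreeing with `F` on K-flat complexes is a left derived functor of `F`, provided `F`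
inverts quasi-isomorphisms between K-flat complexes. -/
theorem isLeftDerived_of_isIso {H : Type w} [Category.{v} H]
    {F : HomotopyCategory X.Modules (ComplexShape.up ℤ) ⥤ H}
    (hF : ∀ {P Q : CochainComplex X.Modules ℤ} (α : P ⟶ Q), DCoh.IsKFlat P → DCoh.IsKFlat Q →
      QuasiIso α → IsIso ((HomotopyCategory.quotient X.Modules (ComplexShape.up ℤ) ⋙ F).map α))
    (LF : DerivedCategory X.Modules ⥤ H) (α : DerivedCategory.Qh ⋙ LF ⟶ F)
    (hα : ∀ K : CochainComplex X.Modules ℤ, DCoh.IsKFlat K →
      IsIso (α.app ((HomotopyCategory.quotient X.Modules (ComplexShape.up ℤ)).obj K))) :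
    LF.IsLeftDerivedFunctor α (HomotopyCategory.quasiIso X.Modules (ComplexShape.up ℤ)) := by
  let q := HomotopyCategory.quotient X.Modules (ComplexShape.up ℤ)
  let W := HomologicalComplex.quasiIso X.Modules (ComplexShape.up ℤ)
  have : (q ⋙ DerivedCategory.Qh).IsLocalization W :=
    Functor.IsLocalization.of_iso W (DerivedCategory.quotientCompQhIso X.Modules).symm
  have hψ : ∀ K, W ((resψ X).app K) := fun K => quasiIso_resψ K
  have hR : W.IsInvertedBy (resP X ⋙ q ⋙ F) := fun K L f (hf : QuasiIso f) => by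
    refine hF _ (good_resP K).1 (good_resP L).1 ?_
    have := quasiIso_resψ K
    have := quasiIso_resψ L
    have : QuasiIso ((resP X).map f ≫ (resψ X).app L) := by
      rw [(resψ X).naturality f]
      change QuasiIso ((resψ X).app K ≫ f)
      exact quasiIso_comp _ _
    exact quasiIso_of_comp_right ((resP X).map f) ((resψ X).app L)
  have := isRightKanExtension_derivedOfRes (q ⋙ DerivedCategory.Qh) W (q ⋙ F) (resP X)
    (resψ X) hψ (fun K => hF _ (good_resP _).1 (good_resP _).1 (hψ _)) hR
  let α₀ := liftQuotient (G := DerivedCategory.Qh ⋙ derivedOfRes (q ⋙ DerivedCategory.Qh) W (q ⋙ F) (resP X) hR)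
    (derivedOfResα (q ⋙ DerivedCategory.Qh) W (q ⋙ F) (resP X) (resψ X) hR)
  have hKan := isRightKanExtension_liftQuotient DerivedCategory.Qh F _
    (derivedOfResα (q ⋙ DerivedCategory.Qh) W (q ⋙ F) (resP X) (resψ X) hR)
  let γ := Functor.liftOfIsRightKanExtension _ α₀ LF α
  have hγ : ∀ M, IsIso (γ.app M) := by
    intro M
    obtain ⟨P, hP, ⟨e⟩⟩ := exists_good_rep M
    refine (NatTrans.isIso_app_iff_of_iso γ
      ((DerivedCategory.quotientCompQhIso X.Modules).app P ≪≫ e)).mp ?_
    have := hα P hP.1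
    have : IsIso (α₀.app (q.obj P)) := by
      change IsIso ((derivedOfResα (q ⋙ DerivedCategory.Qh) W (q ⋙ F) (resP X) (resψ X) hR).app P)
      rw [derivedOfResα_app]
      exact @IsIso.comp_isIso _ _ _ _ _ _ _
        (inferInstanceAs (IsIso ((Localization.fac _ hR (q ⋙ DerivedCategory.Qh)).app P).hom))
        (hF _ (good_resP P).1 hP.1 (hψ P))
    have h : IsIso (γ.app (DerivedCategory.Qh.obj (q.obj P)) ≫ α₀.app (q.obj P)) := by
      rw [Functor.liftOfIsRightKanExtension_fac_app]
      exact hα P hP.1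
    exact @IsIso.of_isIso_comp_right _ _ _ _ _ _ (α₀.app (q.obj P)) inferInstance h
  have : IsIso γ := NatIso.isIso_of_isIso_app γ
  exact ⟨(Functor.isRightKanExtension_iff_isIso γ α₀ α
    (Functor.liftOfIsRightKanExtension_fac _ α₀ LF α)).mpr inferInstance⟩

theorem enoughKInj_modules : KInjDerived.EnoughKInj X.Modules := by
  intro K
  have : IsGrothendieckAbelian.{u} X.Modules :=
    inferInstanceAs (IsGrothendieckAbelian.{u} (SheafOfModules.{u} X.ringCatSheaf))
  obtain ⟨I, f, hI, hf, -⟩ := KInjRes.exists_resolution K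
  exact ⟨I, f, hI, (HomologicalComplex.mem_quasiIso_iff _).1 hf.2⟩

variable {Y : Scheme.{u}} (f : X ⟶ Y) [DCoh.HasLpull f] [DCoh.HasRpush f]

/-- `Lf^* ⊣ Rf_*`. -/
noncomputable def lpullRpushAdj : DCoh.Lpull f ⊣ DCoh.Rpush f := by
  let WX := HomotopyCategory.quasiIso X.Modules (ComplexShape.up ℤ)
  let WY := HomotopyCategory.quasiIso Y.Modules (ComplexShape.up ℤ)
  let α := (khFunctor (Scheme.Modules.pullback f)).totalLeftDerivedCounit DerivedCategory.Qh WY
  let β := (DCoh.pushKh f).totalRightDerivedUnit DerivedCategory.Qh WX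
  haveI : (DCoh.Lpull f ⋙ DCoh.Rpush f).IsLeftDerivedFunctor
      ((Functor.associator _ _ _).inv ≫ Functor.whiskerRight α (DCoh.Rpush f)) WY :=
    isLeftDerived_of_isIso (F := (Scheme.Modules.pullback f).mapHomotopyCategory (ComplexShape.up ℤ) ⋙
        DerivedCategory.Qh ⋙ DCoh.Rpush f)
      (fun a hP hQ ha => by
        have h := isIso_khFunctor_map (preservesKFlatQis_pull f) a hP hQ ha
        exact ((DCoh.Rpush f).mapIso (@asIso _ _ _ _ _ h)).isIso_hom)
      _ _ (fun K hK => by
        have := isIso_counit_of_kFlat (preservesKFlatQis_pull f) K hK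
        simp only [NatTrans.comp_app, Functor.associator_inv_app, Functor.whiskerRight_app,
          Category.id_comp]
        exact Functor.map_isIso (DCoh.Rpush f) _)
  haveI : (DCoh.Rpush f ⋙ DCoh.Lpull f).IsRightDerivedFunctor
      (Functor.whiskerRight β (DCoh.Lpull f) ≫ (Functor.associator _ _ _).hom) WX :=
    KInjDerived.isRightDerivedFunctor_of_isIso _ _ enoughKInj_modules fun I hI => by
      have := KInjDerived.isIso_app (DCoh.Rpush f) β enoughKInj_modules I
      simp only [NatTrans.comp_app, Functor.associator_hom_app, Functor.whiskerRight_app,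
        Category.comp_id]
      exact Functor.map_isIso (DCoh.Lpull f) _
  exact (KInjDerived.mapHomotopyCategoryAdj (Scheme.Modules.pullbackPushforwardAdjunction f)
    (ComplexShape.up ℤ)).derived WY WX α β

theorem rpush_comp {Z : Scheme.{u}} (g : Y ⟶ Z) [DCoh.HasRpush g] [DCoh.HasRpush (f ≫ g)]
    [DCoh.HasLpull g] [DCoh.HasLpull (f ≫ g)] :
    Nonempty (DCoh.Rpush f ⋙ DCoh.Rpush g ≅ DCoh.Rpush (f ≫ g)) := by
  obtain ⟨e⟩ := lpull_comp f g
  exact ⟨((lpullRpushAdj g).comp (lpullRpushAdj f)).rightAdjointUniq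
    ((lpullRpushAdj (f ≫ g)).ofNatIsoLeft e.symm)⟩

end KFlatLib
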