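import Groth.Prelude.Def_KFlatSite
import Groth.Agent.KFlatLib.TotalMap
import Mathlib.Algebra.Category.ModuleCat.Monoidal.Symmetric
import Mathlib.Algebra.Homology.BifunctorFlip
import Mathlib.RingTheory.Flat.Basic

/-!
# K-flat complexes of modules over a commutative ring

A bounded above complex of flat modules is K-flat.
-/

set_option autoImplicit false

universe u

open CategoryTheory CategoryTheory.Limits MonoidalCategory HomologicalComplex

namespace KFlatLib

variable {R : Type u} [CommRing R]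

/-- Acyclic complexes. -/
abbrev Acyclic' {C : Type*} [Category* C] [Abelian C] (K : CochainComplex C ℤ) : Prop :=
  ∀ i : ℤ, IsZero (K.homology i)

/-- Exactness at `j` on elements. -/
theorem isZero_homology_iff_exists (K : CochainComplex (ModuleCat.{u} R) ℤ) (i j k : ℤ)
    (hij : i + 1 = j) (hjk : j + 1 = k) :
    IsZero (K.homology j) ↔ ∀ z : K.X j, (K.d j k).hom z = 0 → ∃ y : K.X i, (K.d i j).hom y = z := by
  rw [← exactAt_iff_isZero_homology,
    K.exactAt_iff' i j k (by simp; omega) (by simp; omega), ShortComplex.moduleCat_exact_iff]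
  rfl

section

variable (L K : CochainComplex (ModuleCat.{u} R) ℤ)

/-- The tensor product complex. -/
noncomputable abbrev tT : CochainComplex (ModuleCat.{u} R) ℤ :=
  mapBifunctor L K (curriedTensor (ModuleCat.{u} R)) (ComplexShape.up ℤ)

/-- The inclusion of a summand. -/
noncomputable abbrev ιT (p q n : ℤ) (h : p + q = n) : L.X p ⊗ K.X q ⟶ (tT L K).X n :=
  ιMapBifunctor L K (curriedTensor (ModuleCat.{u} R)) (ComplexShape.up ℤ) p q n h

theorem ιT_d (p q n n' : ℤ) (h : p + q = n) (hn : n + 1 = n') :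
    ιT L K p q n h ≫ (tT L K).d n n' =
      L.d p (p + 1) ▷ K.X q ≫ ιT L K (p + 1) q n' (by omega) +
        p.negOnePow • (L.X p ◁ K.d q (q + 1) ≫ ιT L K p (q + 1) n' (by omega)) := by
  rw [mapBifunctor.d_eq, Preadditive.comp_add, mapBifunctor.ι_D₁, mapBifunctor.ι_D₂,
    mapBifunctor.d₁_eq _ _ _ _ (rfl : (ComplexShape.up ℤ).Rel p (p + 1)) q n'
      (show p + 1 + q = n' by omega),
    mapBifunctor.d₂_eq _ _ _ _ p (rfl : (ComplexShape.up ℤ).Rel q (q + 1)) n'
      (show p + (q + 1) = n' by omega)]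
  congr 1
  exact one_smul _ _

/-- The part of the tensor product complex in `K`-degrees at least `m`. -/
noncomputable def fil (n m : ℤ) : Submodule R ((tT L K).X n) :=
  ⨆ (p : ℤ) (q : ℤ) (h : p + q = n) (_ : m ≤ q), LinearMap.range (ιT L K p q n h).hom

variable {L K}

theorem mem_fil {n m p q : ℤ} (h : p + q = n) (hm : m ≤ q) (a : ↥(L.X p ⊗ K.X q)) :
    (ιT L K p q n h).hom a ∈ fil L K n m :=
  Submodule.mem_iSup_of_mem p (Submodule.mem_iSup_of_mem q (Submodule.mem_iSup_of_mem h
    (Submodule.mem_iSup_of_mem hm (LinearMap.mem_range_self _ a))))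

theorem fil_le_iff {n m : ℤ} {S : Submodule R ((tT L K).X n)} :
    fil L K n m ≤ S ↔ ∀ (p q : ℤ) (h : p + q = n), m ≤ q →
      ∀ a, (ιT L K p q n h).hom a ∈ S := by
  simp only [fil, iSup_le_iff, LinearMap.range_le_iff_comap, eq_top_iff]
  exact ⟨fun H p q h hm a => H p q h hm trivial, fun H p q h hm a _ => H p q h hm a⟩

theorem fil_anti {n m m' : ℤ} (h : m ≤ m') : fil L K n m' ≤ fil L K n m :=
  fil_le_iff.mpr fun _ _ e hq a => mem_fil e (h.trans hq) a

theorem exists_mem_fil {n : ℤ} (z : (tT L K).X n) : ∃ m, z ∈ fil L K n m := by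
  have hd : Directed (· ≤ ·) (fun m => fil L K n m) := fun a b =>
    ⟨min a b, fil_anti (min_le_left a b), fil_anti (min_le_right a b)⟩
  rw [← Submodule.mem_iSup_of_directed _ hd]
  let S : Submodule R ((tT L K).X n) := ⨆ m, fil L K n m
  have : (ModuleCat.ofHom S.mkQ : (tT L K).X n ⟶ ModuleCat.of R (_ ⧸ S)) = 0 :=
    mapBifunctor.hom_ext fun p q h => by
      ext a : 2
      exact (Submodule.Quotient.mk_eq_zero S).mpr
        (Submodule.mem_iSup_of_mem q (mem_fil (n := n) h le_rfl a))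
  exact (Submodule.Quotient.mk_eq_zero S).mp congr($(this).hom z)

/-- The projection to a summand. -/
noncomputable def proj (p₀ q₀ n : ℤ) (h₀ : p₀ + q₀ = n) : (tT L K).X n ⟶ L.X p₀ ⊗ K.X q₀ :=
  mapBifunctorDesc fun p q h =>
    if hq : q = q₀ then
      (L.XIsoOfEq (show p = p₀ by have : p + q = n := h; omega)).hom ⊗ₘ (K.XIsoOfEq hq).hom
    else 0

theorem ιT_proj (p₀ q₀ n : ℤ) (h₀ : p₀ + q₀ = n) :
    ιT L K p₀ q₀ n h₀ ≫ proj p₀ q₀ n h₀ = 𝟙 _ := by
  rw [proj, ι_mapBifunctorDesc, dif_pos rfl]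
  simp

theorem ιT_proj_ne {p₀ q₀ n : ℤ} (h₀ : p₀ + q₀ = n) {p q : ℤ} (h : p + q = n) (hq : q ≠ q₀) :
    ιT L K p q n h ≫ proj p₀ q₀ n h₀ = 0 := by
  rw [proj, ι_mapBifunctorDesc, dif_neg hq]

theorem proj_eq_zero {p₀ q₀ n m : ℤ} (h₀ : p₀ + q₀ = n) (hm : q₀ < m) {z : (tT L K).X n}
    (hz : z ∈ fil L K n m) : (proj p₀ q₀ n h₀).hom z = 0 :=
  (fil_le_iff (S := LinearMap.ker (proj p₀ q₀ n h₀).hom)).mpr (fun _ _ h hq a =>
    congr($(ιT_proj_ne h₀ h (by omega : _ ≠ q₀)).hom a)) hz

theorem d_mem_fil {n n' m : ℤ} (hn : n + 1 = n') {z : (tT L K).X n} (hz : z ∈ fil L K n m) :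
    ((tT L K).d n n').hom z ∈ fil L K n' m := by
  refine (fil_le_iff (S := (fil L K n' m).comap ((tT L K).d n n').hom)).mpr
    (fun p q h hq a => ?_) hz
  change (ιT L K p q n h ≫ (tT L K).d n n').hom a ∈ fil L K n' m
  rw [ιT_d L K p q n n' h hn, Units.smul_def, ModuleCat.hom_add, ModuleCat.hom_smul]
  exact (fil L K n' m).add_mem (mem_fil _ hq _)
    ((fil L K n' m).toAddSubgroup.zsmul_mem (mem_fil _ (by omega : m ≤ q + 1) _) _)

theorem exists_boundary_of_fil (hL : Acyclic' L) (hflat : ∀ i, Module.Flat R (K.X i))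
    (b : ℤ) (hb : ∀ i, b < i → IsZero (K.X i)) (n : ℤ) (k : ℕ) :
    ∀ (m : ℤ), b + 1 - m ≤ k → ∀ z ∈ fil L K n m, ((tT L K).d n (n + 1)).hom z = 0 →
      ∃ y, ((tT L K).d (n - 1) n).hom y = z := by
  induction k with
  | zero =>
    intro m hm z hz _
    refine ⟨0, ?_⟩
    rw [map_zero]
    refine ((Submodule.mem_bot R).mp ((fil_le_iff (S := ⊥)).mpr (fun p q h hq a => ?_) hz)).symm
    have hbq : b < q := by omega
    have : IsZero (L.X p ⊗ K.X q) := ((tensorLeft (L.X p)).map_isZero (hb q hbq))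
    rw [this.eq_of_src (ιT L K p q n h) 0]
    exact Submodule.zero_mem _
  | succ k ih =>
    intro m hm z hz hdz
    have hp : (n - m) + m = n := by omega
    have hle : fil L K n m ≤ LinearMap.range (ιT L K (n - m) m n hp).hom ⊔ fil L K n (m + 1) := by
      refine fil_le_iff.mpr fun p q h hq a => ?_
      rcases hq.lt_or_eq with h' | h'
      · exact Submodule.mem_sup_right (mem_fil h (by omega) a)
      · subst h'
        obtain rfl : p = n - m := by omega
        exact Submodule.mem_sup_left ⟨a, rfl⟩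
    obtain ⟨_, ⟨a, rfl⟩, w, hw, rfl⟩ := Submodule.mem_sup.mp (hle hz)
    have hp' : (n - m + 1) + m = n + 1 := by omega
    have hkey : (L.d (n - m) (n - m + 1) ▷ K.X m).hom a = 0 := by
      have := congr_arg (proj (L := L) (K := K) (n - m + 1) m (n + 1) hp').hom hdz
      rw [map_zero, map_add, map_add,
        proj_eq_zero hp' (by omega) (d_mem_fil rfl hw), add_zero] at this
      change ((ιT L K (n - m) m n hp ≫ (tT L K).d n (n + 1)) ≫ proj _ _ _ hp').hom a = 0 at this
      rw [ιT_d L K (n - m) m n (n + 1) hp rfl, Preadditive.add_comp, Linear.units_smul_comp,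
        Category.assoc, Category.assoc, ιT_proj, Category.comp_id,
        ιT_proj_ne hp' _ (by omega : m + 1 ≠ m), comp_zero, smul_zero, add_zero] at this
      exact this
    have hex : Function.Exact (L.d (n - m - 1) (n - m)).hom (L.d (n - m) (n - m + 1)).hom := by
      intro x
      refine ⟨fun hx => ?_, fun ⟨y, hy⟩ => ?_⟩
      · exact (isZero_homology_iff_exists L (n - m - 1) (n - m) (n - m + 1) (by omega) rfl).mp
          (hL _) x hx
      · rw [← hy]
        exact congr($(L.d_comp_d (n - m - 1) (n - m) (n - m + 1)).hom y)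
    have : Module.Flat R (K.X m) := hflat m
    obtain ⟨y, hy⟩ := (Module.Flat.rTensor_exact (K.X m) hex a).mp hkey
    have hy' : (L.d (n - m - 1) (n - m) ▷ K.X m).hom y = a := hy
    have hpy : (n - m - 1) + m = n - 1 := by omega
    let w' := w - (n - m - 1).negOnePow •
      (ιT L K (n - m - 1) (m + 1) n (by omega)).hom ((L.X (n - m - 1) ◁ K.d m (m + 1)).hom y)
    have hdy : ((tT L K).d (n - 1) n).hom ((ιT L K _ m _ hpy).hom y) + w' =
        (ιT L K (n - m) m n hp).hom a + w := by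
      change (ιT L K _ m _ hpy ≫ (tT L K).d (n - 1) n).hom y + w' = _
      rw [ιT_d L K (n - m - 1) m (n - 1) n hpy (by omega)]
      simp only [w', Units.smul_def, ModuleCat.hom_add, ModuleCat.hom_smul, LinearMap.add_apply,
        LinearMap.smul_apply, ModuleCat.hom_comp, LinearMap.comp_apply]
      have e : (ιT L K (n - m - 1 + 1) m n (by omega)).hom
          ((L.d (n - m - 1) (n - m - 1 + 1) ▷ K.X m).hom y) = (ιT L K (n - m) m n hp).hom a := by
        have gen : ∀ (p' : ℤ) (_ : p' = n - m) (h : p' + m = n),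
            (ιT L K p' m n h).hom ((L.d (n - m - 1) p' ▷ K.X m).hom y) =
              (ιT L K (n - m) m n hp).hom a := by
          rintro p' rfl h
          rw [hy']
        exact gen _ (by omega) _
      rw [e]
      abel
    have hw' : w' ∈ fil L K n (m + 1) :=
      sub_mem hw (zsmul_mem (mem_fil _ le_rfl _) _)
    obtain ⟨y', hy''⟩ := ih (m + 1) (by omega) w' hw' (by
      have := congr_arg ((tT L K).d n (n + 1)).hom hdy
      rw [map_add, hdz] at this
      have h0 : ((tT L K).d n (n + 1)).hom (((tT L K).d (n - 1) n).hom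
          ((ιT L K _ m _ hpy).hom y)) = 0 :=
        congr($((tT L K).d_comp_d (n - 1) n (n + 1)).hom _)
      rwa [h0, zero_add] at this)
    exact ⟨(ιT L K _ m _ hpy).hom y + y', by rw [map_add, hy'', hdy]⟩

end

/-- A bounded above complex of flat modules is K-flat. -/
theorem isKFlat_of_bounded_flat (K : CochainComplex (ModuleCat.{u} R) ℤ) (b : ℤ)
    (hb : ∀ i, b < i → IsZero (K.X i)) (hflat : ∀ i, Module.Flat R (K.X i)) :
    DRing.IsKFlat R K := by
  intro L hL i
  change IsZero ((tT L K).homology i)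
  rw [isZero_homology_iff_exists (tT L K) (i - 1) i (i + 1) (by omega) rfl]
  intro z hz
  obtain ⟨m, hm⟩ := exists_mem_fil z
  exact exists_boundary_of_fil hL hflat b hb i (b + 1 - m).toNat m (Int.self_le_toNat _) z hm hz

/-- The symmetry `K ⊗ L ≅ L ⊗ K`. -/
noncomputable def tensorFlipIso (K L : CochainComplex (ModuleCat.{u} R) ℤ) : L ⊗ K ≅ K ⊗ L :=
  totalMapIso (curriedTensor (ModuleCat.{u} R)).flip (curriedTensor (ModuleCat.{u} R))
    (𝟭 _) (𝟭 _) (𝟭 _) (fun a b => β_ a b)
    (fun f b => BraidedCategory.braiding_naturality_left f b)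
    (fun a _ _ g => BraidedCategory.braiding_naturality_right a g) L K ≪≫
  mapBifunctorFlipIso K L (curriedTensor (ModuleCat.{u} R)) (ComplexShape.up ℤ)

theorem acyclic_tensor_symm {K L : CochainComplex (ModuleCat.{u} R) ℤ} (h : Acyclic' (L ⊗ K)) :
    Acyclic' (K ⊗ L) :=
  fun i => (h i).of_iso ((homologyFunctor _ _ i).mapIso (tensorFlipIso K L)).symm

end KFlatLib
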