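import Groth.Agent.ModSiteLib.FreeOn
import Groth.Agent.KFlatLib.Sky
import Groth.Agent.KFlatLib.Alg
import Mathlib.Algebra.Category.ModuleCat.Projective
import Mathlib.RingTheory.Flat.Basic

/-!
# Free modules on open subsets

`freeU U` corepresents sections over `U`; its stalks are projective.
-/

set_option autoImplicit false

universe u

open CategoryTheory CategoryTheory.Limits AlgebraicGeometry TopologicalSpace Opposite

namespace KFlatLib

variable {X : Scheme.{u}}

/-- The extension by zero of the structure sheaf of `U`. -/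
noncomputable def freeU (U : X.Opens) : X.Modules := ModSite.freeOn X.sheaf U

/-- Maps out of `freeU U` are sections over `U`. -/
noncomputable def freeUEquiv (U : X.Opens) (M : X.Modules) : (freeU U ⟶ M) ≃ Γ(M, U) :=
  ModSiteLib.freeOnEquiv (O := X.sheaf) M U

theorem freeUEquiv_comp {M N : X.Modules} (U : X.Opens) (a : freeU U ⟶ M) (p : M ⟶ N) :
    freeUEquiv U N (a ≫ p) = p.app U (freeUEquiv U M a) :=
  ModSiteLib.freeOnEquiv_comp (O := X.sheaf) U a p

/-- The tautological section. -/
noncomputable def genU (U : X.Opens) : Γ(freeU U, U) := freeUEquiv U (freeU U) (𝟙 _)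

/-- The map determined by a section. -/
noncomputable def secMap {M : X.Modules} {U : X.Opens} (s : Γ(M, U)) : freeU U ⟶ M :=
  (freeUEquiv U M).symm s

theorem secMap_gen {M : X.Modules} {U : X.Opens} (s : Γ(M, U)) :
    (secMap s).app U (genU U) = s := by
  rw [genU, ← freeUEquiv_comp, Category.id_comp, secMap, Equiv.apply_symm_apply]

theorem secMap_comp {M N : X.Modules} {U : X.Opens} (s : Γ(M, U)) (p : M ⟶ N) :
    secMap s ≫ p = secMap (p.app U s) := by
  apply (freeUEquiv U N).injective
  rw [freeUEquiv_comp, secMap, secMap, Equiv.apply_symm_apply, Equiv.apply_symm_apply]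

theorem secMap_zero {M : X.Modules} {U : X.Opens} : secMap (0 : Γ(M, U)) = 0 := by
  have h := secMap_comp (0 : Γ(M, U)) (0 : M ⟶ M)
  rw [comp_zero] at h
  exact ((congrArg secMap (map_zero ((0 : M ⟶ M).app U).hom)).symm.trans h.symm)

theorem projective_stalk_freeU (U : X.Opens) (x : X) :
    Projective ((DerSch.stalkFunctor X x).obj (freeU U)) := by
  constructor
  intro E B f e he
  let f' : Γ(skyObj x B, U) := freeUEquiv U _ (skyHomEquiv x (freeU U) B f)
  have hs := (ModuleCat.epi_iff_surjective e).mp inferInstance
  choose v hv using fun hx : x ∈ U => hs (skyVal x hx f')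
  refine ⟨(skyHomEquiv x (freeU U) E).symm ((freeUEquiv U _).symm (skyMk x v)), ?_⟩
  apply (skyHomEquiv x (freeU U) B).injective
  apply (freeUEquiv U _).injective
  have hnat : ∀ (a : freeU U ⟶ skyObj x E),
      skyHomEquiv x (freeU U) B ((skyHomEquiv x (freeU U) E).symm a ≫ e) =
        a ≫ skyLift x ((skyCounit x E).hom ≫ e) := by
    intro a
    refine sky_hom_ext x ((skyLift_counit x _).trans ?_)
    rw [Functor.map_comp, Category.assoc]
    refine Eq.trans ?_ (congrArg (_ ≫ ·) (skyLift_counit x _).symm)
    exact Category.assoc _ _ _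
  refine (congrArg _ (hnat _)).trans ((freeUEquiv_comp U _ _).trans ?_)
  rw [Equiv.apply_symm_apply]
  refine skyObj_ext x B _ _ fun hx => ?_
  exact ((skyLift_app x ((skyCounit x E).hom ≫ e) hx _).trans
    (congrArg e.hom (skyCounit_germ x E hx (skyMk x v)))).trans (hv hx)

theorem flat_stalk_sigma {ι : Type u} (U : ι → X.Opens) (x : X) :
    Module.Flat (X.presheaf.stalk x) ((DerSch.stalkFunctor X x).obj (∐ fun i => freeU (U i))) := by
  have : ∀ i, Projective ((DerSch.stalkFunctor X x).obj (freeU (U i))) :=
    fun i => projective_stalk_freeU (U i) x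
  have : Projective ((DerSch.stalkFunctor X x).obj (∐ fun i => freeU (U i))) :=
    Projective.of_iso (PreservesCoproduct.iso (DerSch.stalkFunctor X x) _).symm inferInstance
  have : Module.Projective (X.presheaf.stalk x)
      ((DerSch.stalkFunctor X x).obj (∐ fun i => freeU (U i))) :=
    (IsProjective.iff_projective (R := X.presheaf.stalk x) (P := _)).mpr this
  infer_instance

end KFlatLib
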