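import Groth.Agent.KFlatLib.DCohBasic
import Mathlib.Algebra.Homology.BifunctorShift
import Mathlib.Algebra.Homology.HomotopyCategory.Acyclic
import Mathlib.Algebra.Homology.HomotopyCategory.DegreewiseSplit
import Mathlib.Algebra.Homology.HomotopyCategory.ShiftSequence

/-!
# Mapping cones of maps of K-flat complexes
-/

set_option autoImplicit false

universe u

open CategoryTheory CategoryTheory.Limits HomologicalComplex MonoidalCategory
open CochainComplex (mappingCone)

namespace KFlatLib

theorem acyclic_cone_iff {A : Type*} [Category* A] [Abelian A] {K L : CochainComplex A ℤ}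
    (f : K ⟶ L) : Acyclic' (mappingCone f) ↔ QuasiIso f := by
  have h := ObjectProperty.trW_iff_of_distinguished (HomotopyCategory.subcategoryAcyclic A)
    (CochainComplex.mappingCone.triangleh f) (HomotopyCategory.mappingCone_triangleh_distinguished f)
  rw [← HomotopyCategory.quasiIso_eq_trW_subcategoryAcyclic] at h
  refine Iff.trans ?_ ((HomologicalComplex.mem_quasiIso_iff f))
  refine Iff.trans ?_ (HomotopyCategory.quotient_map_mem_quasiIso_iff f)
  refine Iff.trans ?_ h.symm
  refine Iff.trans ?_ (HomotopyCategory.quotient_obj_mem_subcategoryAcyclic_iff_exactAt _).symm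
  exact forall_congr' fun i => (exactAt_iff_isZero_homology _ i).symm

theorem acyclic_shift {A : Type*} [Category* A] [Abelian A] {K : CochainComplex A ℤ}
    (h : Acyclic' K) (n : ℤ) : Acyclic' (K⟦n⟧) := fun i =>
  (h (n + i)).of_iso (((HomologicalComplex.homologyFunctor A (ComplexShape.up ℤ) 0).shiftIso
    n i (n + i) rfl).app K)

variable {R : Type u} [CommRing R]

/-- A shift of a K-flat complex is K-flat. -/
theorem isKFlat_shift {K : CochainComplex (ModuleCat.{u} R) ℤ} (hK : DRing.IsKFlat R K) (n : ℤ) :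
    DRing.IsKFlat R (K⟦n⟧) := fun L hL =>
  acyclic_of_iso (CochainComplex.mapBifunctorShift₂Iso L K
    (curriedTensor (ModuleCat.{u} R)) n).symm (acyclic_shift (hK L hL) n)

/-- Degreewise split sequences: two out of three. -/
theorem isKFlat_X₂_of_degSplit {S : ShortComplex (CochainComplex (ModuleCat.{u} R) ℤ)}
    (h : DegSplit S) (h₁ : DRing.IsKFlat R S.X₁) (h₃ : DRing.IsKFlat R S.X₃) :
    DRing.IsKFlat R S.X₂ := by
  intro L hL
  refine acyclic_tensor_symm (K := L) (L := S.X₂) ?_
  have hS := shortExact_of_degSplit (degSplitBimap₁ (curriedTensor (ModuleCat.{u} R)) L h)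
  have e₁ : Acyclic' (tT S.X₁ L) := acyclic_tensor_symm (K := S.X₁) (L := L) (h₁ L hL)
  have e₃ : Acyclic' (tT S.X₃ L) := acyclic_tensor_symm (K := S.X₃) (L := L) (h₃ L hL)
  change Acyclic' (tT S.X₂ L)
  intro i
  exact (hS.homology_exact₂ i).isZero_X₂ ((e₁ i).eq_of_src _ _) ((e₃ i).eq_of_tgt _ _)

/-- The cone of a map of K-flat complexes is K-flat. -/
theorem isKFlat_mappingCone {P Q : CochainComplex (ModuleCat.{u} R) ℤ} (hP : DRing.IsKFlat R P)
    (hQ : DRing.IsKFlat R Q) (φ : P ⟶ Q) : DRing.IsKFlat R (mappingCone φ) := by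
  let S : ShortComplex (CochainComplex (ModuleCat.{u} R) ℤ) :=
    CochainComplex.mappingCone.triangleRotateShortComplex φ
  have hS : DegSplit S := CochainComplex.mappingCone.triangleRotateShortComplexSplitting φ
  have h₁ : DRing.IsKFlat R S.X₁ := hQ
  have h₃ : DRing.IsKFlat R S.X₃ := isKFlat_shift hP 1
  have h₂ : DRing.IsKFlat R S.X₂ := isKFlat_X₂_of_degSplit hS h₁ h₃
  exact h₂

/-- An additive functor preserving acyclic K-flat complexes preserves quasi-isomorphisms of K-flat
complexes. -/
theorem quasiIso_map_of_cone {A B : Type*} [Category* A] [Category* B] [Abelian A] [Abelian B]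
    (G : A ⥤ B) [G.Additive] {P Q : CochainComplex A ℤ} (φ : P ⟶ Q)
    (h : Acyclic' ((G.mapHomologicalComplex (ComplexShape.up ℤ)).obj (mappingCone φ))) :
    QuasiIso ((G.mapHomologicalComplex (ComplexShape.up ℤ)).map φ) :=
  (acyclic_cone_iff _).mp
    (acyclic_of_iso (CochainComplex.mappingCone.mapHomologicalComplexIso φ G) h)

end KFlatLib
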