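import Groth.Agent.KFlatLib.ResolProps
import Groth.Agent.KFlatLib.Cone
import Groth.Agent.DerLib.RightRes
import Groth.Agent.DerLib.OpDual

/-!
# Bounded above flat resolutions
-/

set_option autoImplicit false

universe u

open CategoryTheory CategoryTheory.Limits AlgebraicGeometry HomologicalComplex Opposite ZeroObject
open Groth.Agent.DerLib

namespace KFlatLib

variable {X : Scheme.{u}}

theorem flat_of_isZero {M : X.Modules} (h : IsZero M) : FlatMod.IsFlat M := fun x => by
  have : Subsingleton ((DerSch.stalkFunctor X x).obj M) :=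
    ModuleCat.subsingleton_of_isZero ((DerSch.stalkFunctor X x).map_isZero h)
  exact inferInstanceAs (Module.Flat (X.presheaf.stalk x) ((DerSch.stalkFunctor X x).obj M))

theorem flat_of_iso {M N : X.Modules} (e : M ≅ N) (h : FlatMod.IsFlat M) : FlatMod.IsFlat N :=
  fun x => by
    have : Module.Flat (X.presheaf.stalk x) ((DerSch.stalkFunctor X x).obj M) := h x
    exact Module.Flat.of_linearEquiv ((DerSch.stalkFunctor X x).mapIso e).toLinearEquiv.symm

/-- A bounded above complex is quasi-isomorphic to a bounded above complex of flat modules. -/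
theorem exists_flat_resolution (K : CochainComplex X.Modules ℤ) (b : ℤ)
    (hK : ∀ i, b < i → IsZero (K.X i)) :
    ∃ (L : CochainComplex X.Modules ℤ) (α : L ⟶ K), (∀ i, b < i → IsZero (L.X i)) ∧
      (∀ i, FlatMod.IsFlat (L.X i)) ∧ QuasiIso α := by
  have hge : CochainComplex.IsStrictlyGE (OpDual.opC K) (-b) := by
    rw [CochainComplex.isStrictlyGE_iff]
    intro i hi
    exact (hK (-i) (by omega)).op
  obtain ⟨L, α, hL, hflat, -, hα⟩ := RightRes.exists_resolution_int
    (I := fun Y : (X.Modules)ᵒᵖ => FlatMod.IsFlat Y.unop)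
    (fun Y => ⟨op (cover.obj Y.unop), ((coverπ (X := X)).app Y.unop).op, cover_flat _,
      inferInstance⟩)
    ⟨op 0, (isZero_zero X.Modules).op, flat_of_isZero (isZero_zero X.Modules)⟩ (OpDual.opC K) (-b)
  have := OpDual.quasiIso_unopMap α
  refine ⟨OpDual.unopC L, OpDual.unopMap α ≫ (OpDual.backIso K).hom, fun i hi => ?_,
    fun i => hflat (-i), inferInstance⟩
  exact (CochainComplex.isZero_of_isStrictlyGE L (-b) (-i) (by omega)).unop

/-- A bounded above complex of flat modules is K-flat. -/
theorem isKFlat_of_bounded_flat_mod (K : CochainComplex X.Modules ℤ) (b : ℤ)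
    (hb : ∀ i, b < i → IsZero (K.X i)) (hflat : ∀ i, FlatMod.IsFlat (K.X i)) : DCoh.IsKFlat K :=
  isKFlat_of_stalks K fun x => isKFlat_of_bounded_flat _ b
    (fun i hi => (DerSch.stalkFunctor X x).map_isZero (hb i hi)) (fun i => hflat i x)

end KFlatLib
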