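import Groth.Agent.KFlatLib.StalkTensor

/-!
# The lax monoidal map of the direct image

`f_* A ⊗ f_* B ⟶ f_* (A ⊗ B)` for sheaves of modules on schemes, natural in both variables.
-/

set_option autoImplicit false

universe u

open CategoryTheory CategoryTheory.Limits AlgebraicGeometry TopologicalSpace Opposite
  MonoidalCategory TensorProduct

namespace KFlatLib

section Tm

variable {X : TopCat.{u}} {R : X.Presheaf CommRingCat.{u}} (P Q : PM R) {U : Opens X}

theorem tm_smul_comm (r : R.obj (op U)) (m : P.obj (op U)) (n : Q.obj (op U)) :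
    tm P Q (r • m) n = tm P Q m (r • n) :=
  TensorProduct.smul_tmul r m n

theorem tm_smul_left (r : R.obj (op U)) (m : P.obj (op U)) (n : Q.obj (op U)) :
    tm P Q (r • m) n = r • tm P Q m n :=
  (TensorProduct.smul_tmul' r m n).symm

theorem smul_zero_obj (r : R.obj (op U)) : r • (0 : P.obj (op U)) = 0 := smul_zero r

theorem smul_add_obj (r : R.obj (op U)) (m m' : P.obj (op U)) : r • (m + m') = r • m + r • m' :=
  smul_add r m m'

end Tm

section Sh

variable {X : Scheme.{u}}

/-- Maps out of a tensor product of sheaves, from maps out of the presheaf tensor product. -/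
noncomputable def tensDesc {M N : X.Modules} {P : X.Modules}
    (h : (pT M N : X.PresheafOfModules) ⟶ (Scheme.Modules.toPresheafOfModules X).obj P) :
    tens M N ⟶ P :=
  ((PresheafOfModules.sheafificationAdjunction.{u} (R := X.ringCatSheaf)
    (𝟙 X.ringCatSheaf.obj)).homEquiv _ P).symm h

theorem tensDesc_shApp {M N : X.Modules} {P : X.Modules}
    (h : (pT M N : X.PresheafOfModules) ⟶ (Scheme.Modules.toPresheafOfModules X).obj P)
    (U : X.Opens) (s : (pT M N).obj (op U)) :
    (tensDesc h).app U (shApp M N U s) = h.app (op U) s := by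
  have e := ((PresheafOfModules.sheafificationAdjunction.{u} (R := X.ringCatSheaf)
    (𝟙 X.ringCatSheaf.obj)).homEquiv_unit _ _ (tensDesc h)).symm.trans (Equiv.apply_symm_apply _ h)
  exact congr($(e).app (op U) s)

theorem tens_hom_ext {M N P : X.Modules} {a b : tens M N ⟶ P}
    (h : ∀ (U : X.Opens) (m : Γ(M, U)) (n : Γ(N, U)),
      a.app U (shApp M N U (tm (DCoh.toP.obj M : PM X.presheaf) (DCoh.toP.obj N : PM X.presheaf) m n)) =
      b.app U (shApp M N U (tm (DCoh.toP.obj M : PM X.presheaf) (DCoh.toP.obj N : PM X.presheaf) m n))) :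
    a = b := by
  apply ((PresheafOfModules.sheafificationAdjunction.{u} (R := X.ringCatSheaf)
    (𝟙 X.ringCatSheaf.obj)).homEquiv (pT M N : X.PresheafOfModules) P).injective
  rw [Adjunction.homEquiv_unit, Adjunction.homEquiv_unit]
  refine PresheafOfModules.hom_ext fun U => ?_
  exact ModuleCat.MonoidalCategory.tensor_ext fun m n => h U.unop m n

theorem tensorBi_map_shApp {M M' N N' : X.Modules} (a : M ⟶ M') (b : N ⟶ N') (U : X.Opens)
    (m : Γ(M, U)) (n : Γ(N, U)) :
    (((DCoh.tensorBi (X := X)).map a).app N ≫ ((DCoh.tensorBi (X := X)).obj M').map b).app U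
        (shApp M N U (tm (DCoh.toP.obj M : PM X.presheaf) (DCoh.toP.obj N : PM X.presheaf) m n)) =
      shApp M' N' U (tm (DCoh.toP.obj M' : PM X.presheaf) (DCoh.toP.obj N' : PM X.presheaf)
        (a.app U m) (b.app U n)) :=
  (congrArg ((((DCoh.tensorBi (X := X)).obj M').map b).app U)
    (shApp_map (M := M) (N := N) (DCoh.toP.map a ▷ DCoh.toP.obj N) U _)).trans
    (shApp_map (M := M') (N := N) (DCoh.toP.obj M' ◁ DCoh.toP.map b) U _)

end Sh

variable {X Y : Scheme.{u}} (f : X ⟶ Y)

/-- `f_* A`. -/
noncomputable abbrev pf (A : X.Modules) : Y.Modules := (Scheme.Modules.pushforward f).obj A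

/-- A section of `A ⊗ B` over the preimage, from sections of the direct images. -/
noncomputable def pushTm (A B : X.Modules) (U : Y.Opens) (a : Γ(pf f A, U)) (b : Γ(pf f B, U)) :
    Γ(tens A B, f ⁻¹ᵁ U) :=
  shApp A B (f ⁻¹ᵁ U) (tm (DCoh.toP.obj A : PM X.presheaf) (DCoh.toP.obj B : PM X.presheaf)
    (U := f ⁻¹ᵁ U) a b)

/-- The map on sections. -/
noncomputable def pushμApp (A B : X.Modules) (U : Y.Opens) :
    (pT (pf f A) (pf f B)).obj (op U) →+ Γ(tens A B, f ⁻¹ᵁ U) :=
  TensorProduct.liftAddHom
    { toFun := fun a =>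
      { toFun := fun b => pushTm f A B U a b
        map_zero' := by
          refine (congrArg (shApp A B (f ⁻¹ᵁ U)) (TensorProduct.tmul_zero _ _)).trans ?_
          exact map_zero (((PresheafOfModules.sheafificationAdjunction.{u} (R := X.ringCatSheaf)
            (𝟙 X.ringCatSheaf.obj)).unit.app (pT A B : X.PresheafOfModules)).app (op (f ⁻¹ᵁ U))).hom
        map_add' := fun b b' =>
          (congrArg (shApp A B (f ⁻¹ᵁ U)) (TensorProduct.tmul_add _ _ _)).trans (shApp_add _ _ _ _ _) }
      map_zero' := AddMonoidHom.ext fun b => by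
        refine (congrArg (shApp A B (f ⁻¹ᵁ U)) (TensorProduct.zero_tmul _ _)).trans ?_
        exact map_zero (((PresheafOfModules.sheafificationAdjunction.{u} (R := X.ringCatSheaf)
          (𝟙 X.ringCatSheaf.obj)).unit.app (pT A B : X.PresheafOfModules)).app (op (f ⁻¹ᵁ U))).hom
      map_add' := fun a a' => AddMonoidHom.ext fun b =>
        (congrArg (shApp A B (f ⁻¹ᵁ U)) (TensorProduct.add_tmul _ _ _)).trans (shApp_add _ _ _ _ _) }
    (fun r a b => congrArg (shApp A B (f ⁻¹ᵁ U))
      (tm_smul_comm (DCoh.toP.obj A : PM X.presheaf) (DCoh.toP.obj B : PM X.presheaf) (f.app U r) a b))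

theorem pushμApp_tm (A B : X.Modules) (U : Y.Opens) (a : Γ(pf f A, U)) (b : Γ(pf f B, U)) :
    pushμApp f A B U (tm (DCoh.toP.obj (pf f A) : PM Y.presheaf)
      (DCoh.toP.obj (pf f B) : PM Y.presheaf) a b) = pushTm f A B U a b := rfl

theorem pushTm_map (A B : X.Modules) {U V : Y.Opens} (i : V ⟶ U) (a : Γ(pf f A, U))
    (b : Γ(pf f B, U)) :
    pushTm f A B V ((pf f A).presheaf.map i.op a) ((pf f B).presheaf.map i.op b) =
      (pf f (tens A B)).presheaf.map i.op (pushTm f A B U a b) := by
  refine Eq.trans ?_ (PresheafOfModules.naturality_apply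
    ((PresheafOfModules.sheafificationAdjunction.{u} (R := X.ringCatSheaf)
      (𝟙 X.ringCatSheaf.obj)).unit.app (pT A B : X.PresheafOfModules))
    ((Opens.map f.base).map i).op _)
  exact congrArg (shApp A B (f ⁻¹ᵁ V)) (rst_tm (P := (DCoh.toP.obj A : PM X.presheaf))
    (Q := (DCoh.toP.obj B : PM X.presheaf)) ((Opens.map f.base).map i).le a b).symm

/-- The map of presheaves. -/
noncomputable def pushμP (A B : X.Modules) :
    (pT (pf f A) (pf f B) : Y.PresheafOfModules) ⟶
      (Scheme.Modules.toPresheafOfModules Y).obj (pf f (tens A B)) :=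
  PresheafOfModules.homMk
    { app := fun U => AddCommGrpCat.ofHom (pushμApp f A B U.unop)
      naturality := fun U V i => by
        ext z
        induction z using TensorProduct.induction_on with
        | zero => exact (map_zero _).trans (map_zero _).symm
        | tmul a b => exact pushTm_map f A B i.unop a b
        | add z w hz hw => exact (map_add _ z w).trans ((congrArg₂ (· + ·) hz hw).trans (map_add _ z w).symm) }
    (fun U r (z : (pT (pf f A) (pf f B)).obj U) => by
      change pushμApp f A B U.unop (r • z) =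
        f.app U.unop r • (show Γ(tens A B, f ⁻¹ᵁ U.unop) from pushμApp f A B U.unop z)
      induction z using TensorProduct.induction_on with
      | zero =>
        exact (congrArg (pushμApp f A B U.unop) (smul_zero_obj (pT (pf f A) (pf f B)) r)).trans
          ((map_zero _).trans ((smul_zero (f.app U.unop r)).symm.trans (congrArg (f.app U.unop r • ·)
            (map_zero (pushμApp f A B U.unop)).symm)))
      | tmul a b =>
        refine (congrArg (pushμApp f A B U.unop) (tm_smul_left (DCoh.toP.obj (pf f A) : PM Y.presheaf)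
          (DCoh.toP.obj (pf f B) : PM Y.presheaf) r a b).symm).trans ?_
        refine (congrArg (shApp A B (f ⁻¹ᵁ U.unop)) (tm_smul_left (DCoh.toP.obj A : PM X.presheaf)
          (DCoh.toP.obj B : PM X.presheaf) (f.app U.unop r) a b)).trans ?_
        exact shApp_smul A B (f ⁻¹ᵁ U.unop) (f.app U.unop r) _
      | add z w hz hw =>
        exact (congrArg (pushμApp f A B U.unop) (smul_add_obj (pT (pf f A) (pf f B)) r z w)).trans
          ((map_add _ _ _).trans ((congrArg₂ (· + ·) hz hw).trans ((smul_add (f.app U.unop r) _ _).symm.trans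
            (congrArg (f.app U.unop r • ·) (map_add (pushμApp f A B U.unop) z w).symm)))))

/-- `f_* A ⊗ f_* B ⟶ f_* (A ⊗ B)`. -/
noncomputable def pushμ (A B : X.Modules) : tens (pf f A) (pf f B) ⟶ pf f (tens A B) :=
  tensDesc (pushμP f A B)

theorem pushμ_shApp (A B : X.Modules) (U : Y.Opens) (a : Γ(pf f A, U)) (b : Γ(pf f B, U)) :
    (pushμ f A B).app U (shApp (pf f A) (pf f B) U (tm (DCoh.toP.obj (pf f A) : PM Y.presheaf)
      (DCoh.toP.obj (pf f B) : PM Y.presheaf) a b)) = pushTm f A B U a b :=
  tensDesc_shApp (pushμP f A B) U _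

end KFlatLib
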