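import Groth.Agent.KFlatLib.PullKFlat
import Mathlib.AlgebraicGeometry.Modules.Tilde

/-!
# The sheaf attached to a K-flat complex is K-flat
-/

set_option autoImplicit false

universe u

open CategoryTheory CategoryTheory.Limits AlgebraicGeometry TopologicalSpace HomologicalComplex Opposite

namespace KFlatLib

variable {R : CommRingCat.{u}} (x : (Spec R : Scheme.{u}))

/-- `R → O_{Spec R, x}`. -/
noncomputable def specStalk : R →+* (Spec R).presheaf.stalk x :=
  ((Scheme.ΓSpecIso R).inv ≫ (Spec R).presheaf.germ ⊤ x trivial).hom

theorem germ_specStalk (r : R) :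
    (Spec R).presheaf.germ ⊤ x trivial
      ((Spec R).presheaf.map (⊤ : (Spec R).Opens).leTop.op ((Scheme.ΓSpecIso R).inv r)) =
      specStalk x r :=
  TopCat.Presheaf.germ_res_apply _ _ x (show x ∈ (⊤ : (Spec R).Opens) from trivial) _

/-- Global sections, with values in `R`-modules. -/
noncomputable abbrev specΓ (R : CommRingCat.{u}) : (Spec R).Modules ⥤ ModuleCat.{u} R :=
  moduleSpecΓFunctor

/-- Global sections of a skyscraper. -/
noncomputable def gammaSkyIso :
    skyMod x ⋙ (specΓ R) ≅ ModuleCat.restrictScalars (specStalk x) :=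
  NatIso.ofComponents
    (fun A =>
      let M : ModuleCat.{u} R := (skyMod x ⋙ specΓ R).obj A
      let N : ModuleCat.{u} R := (ModuleCat.restrictScalars (specStalk x)).obj A
      let e : M ≃ₗ[R] N :=
      { toFun := fun g => skyVal x (A := A) (U := ⊤) trivial g
        map_add' := fun _ _ => rfl
        map_smul' := fun r g => by
          exact (skyVal_smul x (A := A) (U := ⊤) trivial _ g).trans
            (congrArg (· • skyVal x (A := A) (U := ⊤) trivial g) (germ_specStalk x r))
        invFun := fun a => skyMk x fun _ => a
        left_inv := fun g => skyObj_ext x A _ _ fun _ => rfl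
        right_inv := fun _ => rfl }
      e.toModuleIso)
    fun {A B} a => by
      ext g
      exact skyMod_map_app x a (U := ⊤) trivial g

/-- Stalks of `M~` are the base changes of `M`. -/
noncomputable def stalkTildeIso :
    tilde.functor R ⋙ DerSch.stalkFunctor (Spec R) x ≅
      ModuleCat.extendScalars.{u, u, u} (specStalk x) :=
  ((conjugateIsoEquiv ((tilde.adjunction (R := R)).comp (skyAdj x))
    (ModuleCat.extendRestrictScalarsAdj (specStalk x))).symm (gammaSkyIso x)).symm

theorem isKFlat_tilde {K : CochainComplex (ModuleCat.{u} R) ℤ} (hK : DRing.IsKFlat R K) :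
    DCoh.IsKFlat (((tilde.functor R).mapHomologicalComplex (ComplexShape.up ℤ)).obj K) :=
  isKFlat_of_stalks _ fun x => isKFlat_ring_of_iso
    (Hom.isoOfComponents (fun n => ((stalkTildeIso x).app (K.X n)).symm)
      (fun i j _ => ((stalkTildeIso x).inv.naturality (K.d i j)).symm))
    (isKFlat_extend (specStalk x) hK)

end KFlatLib
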