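import Groth.Agent.KFlatLib.LpullTensor
import Groth.Agent.KFlatLib.PerfectPull
import Groth.Agent.KFlatLib.TildeKFlat
import Groth.Agent.QCohLib.QCoh
import Mathlib.CategoryTheory.Abelian.Projective.Resolution
import Mathlib.Algebra.Homology.Embedding.CochainComplex

/-!
# Resolutions on affine schemes by retracts of free modules
-/

set_option autoImplicit false

universe u

open CategoryTheory CategoryTheory.Limits AlgebraicGeometry HomologicalComplex MonoidalCategory
  TopologicalSpace

attribute [local instance] HasDerivedCategory.standard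

namespace KFlatLib

variable {X Y : Scheme.{u}}

/-- A retract of a free module. -/
def FreeRetr (M : X.Modules) : Prop :=
  ∃ (ι : Type u) (i : M ⟶ ∐ fun _ : ι => Coh.structureModule X)
    (r : (∐ fun _ : ι => Coh.structureModule X) ⟶ M), i ≫ r = 𝟙 M

theorem isQCoh_of_retract {M N : X.Modules} (i : M ⟶ N) (r : N ⟶ M) (h : i ≫ r = 𝟙 M)
    (hN : Coh.IsQCoh N) : Coh.IsQCoh M := by
  have := @QCohLib.isQCoh_kernel _ _ _ (𝟙 N - r ≫ i) hN hN
  refine QCohLib.isQCoh_of_iso
    (Iso.mk (kernel.ι (𝟙 N - r ≫ i) ≫ r) (kernel.lift _ i ?_) ?_ ?_ : kernel (𝟙 N - r ≫ i) ≅ M)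
  · rw [Preadditive.comp_sub, Category.comp_id, reassoc_of% h, sub_self]
  · rw [← cancel_mono (kernel.ι (𝟙 N - r ≫ i))]
    have := kernel.condition (𝟙 N - r ≫ i)
    rw [Preadditive.comp_sub, Category.comp_id, sub_eq_zero] at this
    simpa using this.symm
  · rw [kernel.lift_ι_assoc, h]

theorem freeRetr_pull (f : X ⟶ Y) {M : Y.Modules} (h : FreeRetr M) :
    FreeRetr ((Scheme.Modules.pullback f).obj M) := by
  obtain ⟨ι, i, r, e⟩ := h
  let Φ := Scheme.Modules.pullback f
  let θ : Φ.obj (∐ fun _ : ι => Coh.structureModule Y) ≅ ∐ fun _ : ι => Coh.structureModule X :=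
    PreservesCoproduct.iso Φ _ ≪≫ Sigma.mapIso fun _ => pullUnitIso f
  refine ⟨ι, Φ.map i ≫ θ.hom, θ.inv ≫ Φ.map r, ?_⟩
  rw [Category.assoc, Iso.hom_inv_id_assoc, ← Functor.map_comp, e, CategoryTheory.Functor.map_id]

theorem FreeRetr.isQCoh {M : X.Modules} (h : FreeRetr M) : Coh.IsQCoh M := by
  obtain ⟨ι, i, r, e⟩ := h
  exact isQCoh_of_retract i r e (QCohLib.isQCoh_sigma _ fun _ => QCohLib.isQCoh_unit)

theorem FreeRetr.isFlat {M : X.Modules} (h : FreeRetr M) : FlatMod.IsFlat M := fun x => by
  obtain ⟨ι, i, r, e⟩ := h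
  let e' : (∐ fun _ : ι => freeU (⊤ : X.Opens)) ≅ ∐ fun _ : ι => Coh.structureModule X :=
    Sigma.mapIso fun _ => structureIso X
  have : Module.Flat (X.presheaf.stalk x)
      ((DerSch.stalkFunctor X x).obj (∐ fun _ : ι => Coh.structureModule X)) :=
    flat_of_iso e' (fun x => flat_stalk_sigma (fun _ : ι => (⊤ : X.Opens)) x) x
  exact Module.Flat.of_retract (M := (DerSch.stalkFunctor X x).obj (∐ fun _ : ι => Coh.structureModule X))
    ((DerSch.stalkFunctor X x).map i).hom ((DerSch.stalkFunctor X x).map r).hom
    (congrArg ModuleCat.Hom.hom (((DerSch.stalkFunctor X x).map_comp i r).symm.trans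
      ((congrArg _ e).trans ((DerSch.stalkFunctor X x).map_id _))))

/-- `- ⊗ N` preserves small colimits. -/
instance preservesColimitsOfShape_tens (N : X.Modules) {J : Type*} [Category* J]
    [HasColimitsOfShape J X.Modules]
    [∀ x, PreservesColimitsOfShape J (DerSch.stalkFunctor X x)]
    [∀ x : X, PreservesColimitsOfShape J (tensorRight ((DerSch.stalkFunctor X x).obj N))] :
    PreservesColimitsOfShape J ((DCoh.tensorBi (X := X)).flip.obj N) where
  preservesColimit {D} := preservesColimit_of_preserves_colimit_cocone (colimit.isColimit D) (by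
    let G := (DCoh.tensorBi (X := X)).flip.obj N
    let c := G.mapCocone (colimit.cocone D)
    have : IsIso (colimit.desc _ c) := isIso_of_stalks _ fun x => by
      let S := DerSch.stalkFunctor X x
      let hS : IsColimit (S.mapCocone c) :=
        IsColimit.mapCoconeEquiv (stalkTensorRightIso x N)
          (isColimitOfPreserves (S ⋙ tensorRight (S.obj N)) (colimit.isColimit D))
      let h₀ : IsColimit (S.mapCocone (colimit.cocone (D ⋙ G))) :=
        isColimitOfPreserves S (colimit.isColimit _)
      have e : S.map (colimit.desc _ c) = (h₀.coconePointUniqueUpToIso hS).hom :=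
        h₀.hom_ext fun j => by
          rw [IsColimit.comp_coconePointUniqueUpToIso_hom]
          exact (S.map_comp _ _).symm.trans (congrArg S.map (colimit.ι_desc c j))
      rw [e]
      infer_instance
    exact @IsColimit.ofPointIso _ _ _ _ _ _ _ (colimit.isColimit (D ⋙ G)) (by exact this))

theorem isQCoh_tens {M : X.Modules} (h : FreeRetr M) {N : X.Modules} (hN : Coh.IsQCoh N)
    (u : tens (Coh.structureModule X) N ≅ N) :
    Coh.IsQCoh (tens M N) := by
  obtain ⟨ι, i, r, e⟩ := h
  let G := (DCoh.tensorBi (X := X)).flip.obj N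
  have hs : Coh.IsQCoh (G.obj (∐ fun _ : ι => Coh.structureModule X)) := by
    exact @QCohLib.isQCoh_of_iso _ _ _ (PreservesCoproduct.iso G _).symm
      (QCohLib.isQCoh_sigma _ fun _ => @QCohLib.isQCoh_of_iso _ _ _ u.symm hN)
  exact isQCoh_of_retract (G.map i) (G.map r)
    ((G.map_comp i r).symm.trans ((congrArg G.map e).trans (G.map_id _))) hs

section Tilde

variable {R : CommRingCat.{u}}

theorem freeRetr_tilde {P : ModuleCat.{u} R} [Projective P] :
    FreeRetr ((tilde.functor R).obj P) := by
  let π : (∐ fun _ : P => ModuleCat.of R R) ⟶ P :=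
    Sigma.desc fun p => ModuleCat.ofHom (LinearMap.toSpanSingleton R P p)
  have : Epi π := (ModuleCat.epi_iff_surjective π).mpr fun p =>
    ⟨(Sigma.ι (fun _ : P => ModuleCat.of R R) p).hom (1 : R), by
      refine (congr($(Sigma.ι_desc (f := fun _ : P => ModuleCat.of R R)
        (fun p => ModuleCat.ofHom (LinearMap.toSpanSingleton R P p)) p).hom (1 : R))).trans ?_
      change (1 : R) • p = p
      rw [one_smul]⟩
  let T := tilde.functor R
  let θ : T.obj (∐ fun _ : P => ModuleCat.of R R) ≅
      ∐ fun _ : P => Coh.structureModule (Spec R) :=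
    PreservesCoproduct.iso T _ ≪≫ Sigma.mapIso fun _ => tildeSelf
  refine ⟨P, T.map (Projective.factorThru (𝟙 P) π) ≫ θ.hom, θ.inv ≫ T.map π, ?_⟩
  rw [Category.assoc, Iso.hom_inv_id_assoc, ← Functor.map_comp, Projective.factorThru_comp,
    CategoryTheory.Functor.map_id]

theorem isIso_counit_of_qcoh (M : (Spec R).Modules) (h : Coh.IsQCoh M) :
    IsIso ((tilde.adjunction (R := R)).counit.app M) :=
  @Scheme.Modules.isIso_fromTildeΓ_of_isQuasicoherent _ M h

instance preservesHomology_tilde : (tilde.functor R).PreservesHomology := by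
  have : ∀ {A B : ModuleCat.{u} R} (f : A ⟶ B),
      PreservesLimit (parallelPair f 0) (tilde.functor R) := fun {A B} f => by
    let T := tilde.functor R
    have hq : Coh.IsQCoh (kernel (T.map f)) :=
      @QCohLib.isQCoh_kernel _ _ _ _ (inferInstanceAs (tilde A).IsQuasicoherent)
        (inferInstanceAs (tilde B).IsQuasicoherent)
    let Γ' := moduleSpecΓFunctor (R := R)
    let adj := tilde.adjunction (R := R)
    have := isIso_counit_of_qcoh _ hq
    have : PreservesLimitsOfSize.{0, 0} Γ' := adj.rightAdjoint_preservesLimits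
    let φ := kernelComparison f T
    have hφ : IsIso (Γ'.map φ) := by
      let e := asIso adj.unit
      let k : kernel f ≅ Γ'.obj (kernel (T.map f)) :=
        kernel.mapIso f (Γ'.map (T.map f)) (e.app A) (e.app B) (e.hom.naturality f) ≪≫
          (PreservesKernel.iso Γ' (T.map f)).symm
      have : Γ'.map φ = (e.app (kernel f)).inv ≫ k.hom := by
        rw [← cancel_epi (e.app (kernel f)).hom, Iso.hom_inv_id_assoc]
        have : Mono (Γ'.map (kernel.ι (T.map f))) := Functor.map_mono _ _
        rw [← cancel_mono (Γ'.map (kernel.ι (T.map f))), Category.assoc, ← Functor.map_comp,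
          kernelComparison_comp_ι]
        refine (e.hom.naturality (kernel.ι f)).symm.trans ?_
        simp only [k, Iso.trans_hom, Iso.symm_hom, Category.assoc, PreservesKernel.iso_inv_ι,
          kernel.mapIso_hom, kernel.lift_ι]
        rfl
      rw [this]
      infer_instance
    have : IsIso φ := by
      have hn := adj.counit.naturality φ
      have : IsIso (adj.counit.app (T.obj (kernel f))) :=
        isIso_counit_of_qcoh _ (inferInstanceAs (tilde (kernel f)).IsQuasicoherent)
      have : IsIso ((Γ' ⋙ T).map φ) := by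
        rw [Functor.comp_map]
        infer_instance
      have : IsIso (adj.counit.app (T.obj (kernel f)) ≫ φ) := by
        rw [← Functor.id_map φ, ← hn]
        infer_instance
      exact IsIso.of_isIso_comp_left (adj.counit.app (T.obj (kernel f))) φ
    exact PreservesKernel.of_iso_comparison T f
  have : (tilde.functor R).PreservesEpimorphisms :=
    Functor.preservesEpimorphisms_of_adjunction tilde.adjunction
  exact Functor.preservesHomology_of_preservesEpis_and_kernels _

/-- Resolution of a quasi-coherent module on an affine spectrum by retracts of free modules. -/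
theorem exists_freeRetr_resolution (M : (Spec R).Modules) (hM : Coh.IsQCoh M) :
    ∃ E : CochainComplex (Spec R).Modules ℤ, (∀ i, 0 < i → IsZero (E.X i)) ∧
      (∀ i, FreeRetr (E.X i)) ∧
      Nonempty (DCoh.toD _ E ≅ (DerivedCategory.singleFunctor (Spec R).Modules 0).obj M) := by
  have := isIso_counit_of_qcoh M hM
  let T := tilde.functor R
  let P := projectiveResolution ((moduleSpecΓFunctor (R := R)).obj M)
  let TC := T.mapHomologicalComplex (ComplexShape.up ℤ)
  have : QuasiIso (TC.map P.π') := inferInstance
  refine ⟨TC.obj P.cochainComplex,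
    fun i hi => T.map_isZero (CochainComplex.isZero_of_isStrictlyLE P.cochainComplex 0 i hi),
    fun i => freeRetr_tilde, ⟨asIso (DerivedCategory.Q.map (TC.map P.π')) ≪≫
      DerivedCategory.Q.mapIso ((singleMapHomologicalComplex T (ComplexShape.up ℤ) 0).app _) ≪≫
      ((DerivedCategory.singleFunctorIsoCompQ (Spec R).Modules 0).app _).symm ≪≫
      (DerivedCategory.singleFunctor _ 0).mapIso
        (asIso ((tilde.adjunction (R := R)).counit.app M))⟩⟩

end Tilde

end KFlatLib
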