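import Groth.Agent.KFlatLib.DerivedTensor
import Groth.Agent.DerLib.Devissage
import Groth.Agent.QCohLib.QCoh

/-!
# Dévissage for quasi-coherent cohomology sheaves

`Λ : D(O_X) → D(O_Y)` is a functor sending distinguished triangles to distinguished triangles
(objectwise).
-/

set_option autoImplicit false

universe u

open CategoryTheory CategoryTheory.Limits AlgebraicGeometry Pretriangulated
open DerivedCategory.TStructure (t)

attribute [local instance] HasDerivedCategory.standard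

namespace KFlatLib

variable {X Y : Scheme.{u}}

theorem isQCoh_zero {M : X.Modules} (h : IsZero M) : Coh.IsQCoh M :=
  haveI : Coh.IsQCoh (kernel (𝟙 (Coh.structureModule X))) :=
    @QCohLib.isQCoh_kernel _ _ _ _ QCohLib.isQCoh_unit QCohLib.isQCoh_unit
  QCohLib.isQCoh_of_iso ((isZero_kernel_of_mono (𝟙 (Coh.structureModule X))).iso h)

/-- The five lemma for quasi-coherence. -/
theorem isQCoh_five {A₀ A₁ A₂ A₃ A₄ : X.Modules} {f₀ : A₀ ⟶ A₁} {f₁ : A₁ ⟶ A₂} {f₂ : A₂ ⟶ A₃}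
    {f₃ : A₃ ⟶ A₄} {w₀ : f₀ ≫ f₁ = 0} {w₁ : f₁ ≫ f₂ = 0} {w₂ : f₂ ≫ f₃ = 0}
    (h₀ : (ShortComplex.mk f₀ f₁ w₀).Exact) (h₁ : (ShortComplex.mk f₁ f₂ w₁).Exact)
    (h₂ : (ShortComplex.mk f₂ f₃ w₂).Exact)
    (q₀ : Coh.IsQCoh A₀) (q₁ : Coh.IsQCoh A₁) (q₃ : Coh.IsQCoh A₃) (q₄ : Coh.IsQCoh A₄) :
    Coh.IsQCoh A₂ := by
  let i := cokernel.desc f₀ f₁ w₀
  let p := kernel.lift f₃ f₂ w₂
  have hi : Mono i := h₀.mono_cokernelDesc
  have hp : Epi p := h₂.epi_kernelLift
  have w : i ≫ p = 0 := by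
    rw [← cancel_epi (cokernel.π f₀), cokernel.π_desc_assoc, comp_zero,
      ← cancel_mono (kernel.ι f₃), Category.assoc, kernel.lift_ι, zero_comp, w₁]
  let e₁ : ShortComplex.mk f₁ f₂ w₁ ⟶ ShortComplex.mk i f₂ (by
      rw [← cancel_epi (cokernel.π f₀), cokernel.π_desc_assoc, comp_zero, w₁]) :=
    { τ₁ := cokernel.π f₀
      τ₂ := 𝟙 _
      τ₃ := 𝟙 _
      comm₁₂ := by simp [i]
      comm₂₃ := by simp }
  have : Epi e₁.τ₁ := inferInstanceAs (Epi (cokernel.π f₀))
  have : IsIso e₁.τ₂ := inferInstanceAs (IsIso (𝟙 _))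
  have : Mono e₁.τ₃ := inferInstanceAs (Mono (𝟙 _))
  have h₁' := (ShortComplex.exact_iff_of_epi_of_isIso_of_mono e₁).mp h₁
  let e₂ : ShortComplex.mk i p w ⟶ ShortComplex.mk i f₂ (by
      rw [← cancel_epi (cokernel.π f₀), cokernel.π_desc_assoc, comp_zero, w₁]) :=
    { τ₁ := 𝟙 _
      τ₂ := 𝟙 _
      τ₃ := kernel.ι f₃
      comm₁₂ := by simp
      comm₂₃ := by simp [p] }
  have : Epi e₂.τ₁ := inferInstanceAs (Epi (𝟙 _))
  have : IsIso e₂.τ₂ := inferInstanceAs (IsIso (𝟙 _))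
  have : Mono e₂.τ₃ := inferInstanceAs (Mono (kernel.ι f₃))
  have hse : (ShortComplex.mk i p w).ShortExact :=
    { exact := (ShortComplex.exact_iff_of_epi_of_isIso_of_mono e₂).mpr h₁'
      mono_f := hi
      epi_g := hp }
  have := QCohLib.isQCoh_cokernel f₀ (h1 := q₀) (h2 := q₁)
  have := @QCohLib.isQCoh_kernel _ _ _ f₃ q₃ q₄
  exact QCohLib.isQCoh_of_shortExact hse (h1 := ‹_›) (h3 := ‹_›)

/-- Quasi-coherence of the middle term in the long exact sequence. -/
theorem isQCoh_HD₂ {T : Triangle (DCoh.D X)} (hT : T ∈ distinguishedTriangles) (n : ℤ)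
    (h₃' : Coh.IsQCoh (DCoh.HD T.obj₃ (n - 1))) (h₁ : Coh.IsQCoh (DCoh.HD T.obj₁ n))
    (h₃ : Coh.IsQCoh (DCoh.HD T.obj₃ n)) (h₁' : Coh.IsQCoh (DCoh.HD T.obj₁ (n + 1))) :
    Coh.IsQCoh (DCoh.HD T.obj₂ n) :=
  isQCoh_five (DerivedCategory.HomologySequence.exact₁ T hT (n - 1) n (by omega))
    (DerivedCategory.HomologySequence.exact₂ T hT n)
    (DerivedCategory.HomologySequence.exact₃ T hT n (n + 1) rfl) h₃' h₁ h₃ h₁'

theorem isQCohD₂ {T : Triangle (DCoh.D X)} (hT : T ∈ distinguishedTriangles)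
    (h₁ : DCoh.IsQCohD T.obj₁) (h₃ : DCoh.IsQCohD T.obj₃) : DCoh.IsQCohD T.obj₂ :=
  fun n => isQCoh_HD₂ hT n (h₃ _) (h₁ _) (h₃ _) (h₁ _)

theorem isQCohD_iso {K L : DCoh.D X} (e : K ≅ L) (h : DCoh.IsQCohD K) : DCoh.IsQCohD L :=
  fun n => @QCohLib.isQCoh_of_iso _ _ _ ((DerivedCategory.homologyFunctor X.Modules n).mapIso e) (h n)

theorem isQCohD_of_isZero {K : DCoh.D X} (h : IsZero K) : DCoh.IsQCohD K :=
  fun n => isQCoh_zero ((DerivedCategory.homologyFunctor X.Modules n).map_isZero h)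

theorem isQCohD_shift {K : DCoh.D X} (h : DCoh.IsQCohD K) (a : ℤ) : DCoh.IsQCohD (K⟦a⟧) :=
  fun n => @QCohLib.isQCoh_of_iso _ _ _
    (((DerivedCategory.homologyFunctor X.Modules 0).shiftIso a n (a + n) rfl).app K).symm (h (a + n))

/-- A functor on objects respecting triangles. -/
structure TriFun (X Y : Scheme.{u}) where
  /-- the underlying functor -/
  Λ : DCoh.D X ⥤ DCoh.D Y
  zero : ∀ {K : DCoh.D X}, IsZero K → IsZero (Λ.obj K)
  tri : ∀ T ∈ distTriang (DCoh.D X), ∃ T' ∈ distTriang (DCoh.D Y),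
    Nonempty (T'.obj₁ ≅ Λ.obj T.obj₁) ∧ Nonempty (T'.obj₂ ≅ Λ.obj T.obj₂) ∧
      Nonempty (T'.obj₃ ≅ Λ.obj T.obj₃)

namespace TriFun

variable (F : TriFun X Y)

/-- The image has quasi-coherent cohomology. -/
def Q (K : DCoh.D X) : Prop := DCoh.IsQCohD (F.Λ.obj K)

theorem q_iso {K L : DCoh.D X} (e : K ≅ L) (h : F.Q K) : F.Q L :=
  isQCohD_iso (F.Λ.mapIso e) h

theorem q₂ {T : Triangle (DCoh.D X)} (hT : T ∈ distinguishedTriangles) (h₁ : F.Q T.obj₁)
    (h₃ : F.Q T.obj₃) : F.Q T.obj₂ := by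
  obtain ⟨T', hT', ⟨e₁⟩, ⟨e₂⟩, ⟨e₃⟩⟩ := F.tri T hT
  exact isQCohD_iso e₂ (isQCohD₂ hT' (isQCohD_iso e₁.symm h₁) (isQCohD_iso e₃.symm h₃))

theorem q₃ {T : Triangle (DCoh.D X)} (hT : T ∈ distinguishedTriangles) (h₁ : F.Q T.obj₁)
    (h₂ : F.Q T.obj₂) : F.Q T.obj₃ := by
  obtain ⟨T', hT', ⟨e₁⟩, ⟨e₂⟩, ⟨e₃⟩⟩ := F.tri T hT
  exact isQCohD_iso e₃ (isQCohD₂ (rot_of_distTriang _ hT') (isQCohD_iso e₂.symm h₂)
    (isQCohD_shift (isQCohD_iso e₁.symm h₁) 1))

theorem q₁ {T : Triangle (DCoh.D X)} (hT : T ∈ distinguishedTriangles) (h₂ : F.Q T.obj₂)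
    (h₃ : F.Q T.obj₃) : F.Q T.obj₁ := by
  obtain ⟨T', hT', ⟨e₁⟩, ⟨e₂⟩, ⟨e₃⟩⟩ := F.tri T hT
  exact isQCohD_iso e₁ (isQCohD₂ (inv_rot_of_distTriang _ hT')
    (isQCohD_shift (isQCohD_iso e₃.symm h₃) (-1)) (isQCohD_iso e₂.symm h₂))

theorem q_shift_one {K : DCoh.D X} (h : F.Q K) : F.Q (K⟦(1 : ℤ)⟧) :=
  F.q₃ (rot_of_distTriang _ (contractible_distinguished K)) h
    (isQCohD_of_isZero (F.zero (isZero_zero _)))

theorem q_of_shift_one {K : DCoh.D X} (h : F.Q (K⟦(1 : ℤ)⟧)) : F.Q K :=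
  F.q₁ (rot_of_distTriang _ (contractible_distinguished K))
    (isQCohD_of_isZero (F.zero (isZero_zero _))) h

theorem q_single (M : X.Modules) (h : F.Q ((DerivedCategory.singleFunctor X.Modules 0).obj M)) :
    ∀ n : ℤ, F.Q ((DerivedCategory.singleFunctor X.Modules n).obj M) := by
  intro n
  induction n using Int.induction_on with
  | zero => exact h
  | succ k ih =>
    exact F.q_of_shift_one (F.q_iso
      (((DerivedCategory.singleFunctors X.Modules).shiftIso 1 (k : ℤ) (k + 1) (by omega)).app M).symm ih)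
  | pred k ih =>
    exact F.q_iso (((DerivedCategory.singleFunctors X.Modules).shiftIso 1 (-(k : ℤ) - 1) (-(k : ℤ))
      (by omega)).app M) (F.q_shift_one ih)

/-- Bounded objects with quasi-coherent cohomology. -/
theorem q_bounded (hs : ∀ (M : X.Modules), Coh.IsQCoh M →
      F.Q ((DerivedCategory.singleFunctor X.Modules 0).obj M))
    (a : ℤ) (k : ℕ) (K : DCoh.D X) [K.IsGE a] [K.IsLE (a + k)] (hK : DCoh.IsQCohD K) : F.Q K := by
  induction k generalizing K with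
  | zero =>
    have : K.IsLE a := t.isLE_of_le K (a + ((0 : ℕ) : ℤ)) a (by omega)
    obtain ⟨e⟩ := Groth.Agent.DerLib.Devissage.nonempty_iso_single K a
    exact F.q_iso e.symm (F.q_single _ (hs _ (hK a)) a)
  | succ k ih =>
    let b : ℤ := a + k
    have : K.IsLE (b + 1) := t.isLE_of_le K (a + ((k + 1 : ℕ) : ℤ)) (b + 1) (by simp [b]; omega)
    have hT := t.triangleLEGT_distinguished b K
    refine F.q₂ hT ?_ ?_
    · change F.Q ((t.truncLE b).obj K)
      have : ((t.truncLE b).obj K).IsGE a := by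
        rw [DerivedCategory.isGE_iff]
        intro i hi
        have := Groth.Agent.DerLib.Devissage.isIso_homology_truncLEι K b i (by omega)
        exact (DerivedCategory.isZero_of_isGE K a i hi).of_iso
          (asIso ((DerivedCategory.homologyFunctor X.Modules i).map ((t.truncLEι b).app K)))
      have : ((t.truncLE b).obj K).IsLE (a + k) := t.isLE_of_le _ b (a + k) le_rfl
      refine ih _ fun q => ?_
      by_cases hq : q ≤ b
      · have := Groth.Agent.DerLib.Devissage.isIso_homology_truncLEι K b q hq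
        exact @QCohLib.isQCoh_of_iso _ _ _
          (asIso ((DerivedCategory.homologyFunctor X.Modules q).map ((t.truncLEι b).app K))).symm (hK q)
      · exact isQCoh_zero (DerivedCategory.isZero_of_isLE _ b q (by omega))
    · change F.Q ((t.truncGT b).obj K)
      have : ((t.truncGT b).obj K).IsLE (b + 1) := by
        rw [DerivedCategory.isLE_iff]
        intro i hi
        have := Groth.Agent.DerLib.Devissage.isIso_homology_truncGTπ K b i (by omega)
        exact (DerivedCategory.isZero_of_isLE K (b + 1) i hi).of_iso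
          (asIso ((DerivedCategory.homologyFunctor X.Modules i).map ((t.truncGTπ b).app K))).symm
      obtain ⟨e⟩ := Groth.Agent.DerLib.Devissage.nonempty_iso_single ((t.truncGT b).obj K) (b + 1)
      have := Groth.Agent.DerLib.Devissage.isIso_homology_truncGTπ K b (b + 1) (by omega)
      exact F.q_iso e.symm (F.q_single _ (hs _ (@QCohLib.isQCoh_of_iso _ _ _
        (asIso ((DerivedCategory.homologyFunctor X.Modules (b + 1)).map ((t.truncGTπ b).app K)))
        (hK (b + 1)))) _)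

/-- `Λ` raises the upper bound of the amplitude by at most `c`. -/
def Bound (c : ℤ) : Prop :=
  ∀ (K : DCoh.D X) (n i : ℤ), K.IsLE n → n + c < i → IsZero (DCoh.HD (F.Λ.obj K) i)

/-- Bounded above objects. -/
theorem q_boundedAbove (hs : ∀ (M : X.Modules), Coh.IsQCoh M →
      F.Q ((DerivedCategory.singleFunctor X.Modules 0).obj M))
    {c : ℤ} (hc : F.Bound c) (N : ℤ) (K : DCoh.D X) [K.IsLE N] (hK : DCoh.IsQCohD K) : F.Q K := by
  intro i
  let b : ℤ := min (i - c - 1) (N - 1)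
  have hT := t.triangleLEGT_distinguished b K
  have h₃ : F.Q ((t.truncGT b).obj K) := by
    have : ((t.truncGT b).obj K).IsLE N := by
      rw [DerivedCategory.isLE_iff]
      intro j hj
      have := Groth.Agent.DerLib.Devissage.isIso_homology_truncGTπ K b j (by omega)
      exact (DerivedCategory.isZero_of_isLE K N j hj).of_iso
        (asIso ((DerivedCategory.homologyFunctor X.Modules j).map ((t.truncGTπ b).app K))).symm
    obtain ⟨k, hk⟩ := Int.le.dest (show b + 1 ≤ N by omega)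
    have : ((t.truncGT b).obj K).IsLE (b + 1 + k) := by rw [hk]; assumption
    refine F.q_bounded hs (b + 1) k _ fun q => ?_
    by_cases hq : b < q
    · have := Groth.Agent.DerLib.Devissage.isIso_homology_truncGTπ K b q hq
      exact @QCohLib.isQCoh_of_iso _ _ _
        (asIso ((DerivedCategory.homologyFunctor X.Modules q).map ((t.truncGTπ b).app K))) (hK q)
    · exact isQCoh_zero (DerivedCategory.isZero_of_isGE _ (b + 1) q (by omega))
  obtain ⟨T', hT', ⟨e₁⟩, ⟨e₂⟩, ⟨e₃⟩⟩ := F.tri _ hT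
  have hz : ∀ j, i ≤ j → Coh.IsQCoh (DCoh.HD T'.obj₁ j) := fun j hj =>
    isQCoh_zero ((hc ((t.truncLE b).obj K) b j inferInstance (by omega)).of_iso
      ((DerivedCategory.homologyFunctor Y.Modules j).mapIso e₁))
  have h₃' := isQCohD_iso e₃.symm h₃
  have := isQCoh_HD₂ hT' i (h₃' _) (hz i le_rfl) (h₃' _) (hz (i + 1) (by omega))
  exact QCohLib.isQCoh_of_iso ((DerivedCategory.homologyFunctor Y.Modules i).mapIso e₂)

end TriFun

end KFlatLib
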