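import Groth.Agent.KFlatLib.TorAmpMore

/-!
# Composition of derived pullbacks
-/

set_option autoImplicit false

universe u w v w' v'

open CategoryTheory CategoryTheory.Limits AlgebraicGeometry HomologicalComplex

attribute [local instance] HasDerivedCategory.standard

namespace KFlatLib

variable {X Y Z : Scheme.{u}} (f : X ⟶ Y) (g : Y ⟶ Z)

/-- `f^* g^* ⟶ (g f)^*` on homotopy categories, into the derived category. -/
noncomputable def pullCompKh :
    (Scheme.Modules.pullback g).mapHomotopyCategory (ComplexShape.up ℤ) ⋙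
        khFunctor (Scheme.Modules.pullback f) ⟶
      khFunctor (Scheme.Modules.pullback (f ≫ g)) :=
  liftQuotient
    { app := fun K => (DerivedCategory.Qh (C := X.Modules)).map ((HomotopyCategory.quotient _ _).map
        ((NatTrans.mapHomologicalComplex (Scheme.Modules.pullbackComp f g).hom
          (ComplexShape.up ℤ)).app K))
      naturality := fun K L φ => by
        let Hq := HomotopyCategory.quotient X.Modules (ComplexShape.up ℤ) ⋙
          DerivedCategory.Qh (C := X.Modules)
        let τ := NatTrans.mapHomologicalComplex (Scheme.Modules.pullbackComp f g).hom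
          (ComplexShape.up ℤ)
        change Hq.map (((Scheme.Modules.pullback g ⋙ Scheme.Modules.pullback f).mapHomologicalComplex
            (ComplexShape.up ℤ)).map φ) ≫ Hq.map (τ.app L) =
          Hq.map (τ.app K) ≫ Hq.map (((Scheme.Modules.pullback (f ≫ g)).mapHomologicalComplex
            (ComplexShape.up ℤ)).map φ)
        rw [← Hq.map_comp, ← Hq.map_comp]
        exact congrArg Hq.map (τ.naturality φ) }

instance isIso_pullCompKh_app (K : HomotopyCategory Z.Modules (ComplexShape.up ℤ)) :
    IsIso ((pullCompKh f g).app K) :=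
  inferInstanceAs (IsIso ((DerivedCategory.Qh.mapIso ((HomotopyCategory.quotient _ _).mapIso
    ((NatIso.mapHomologicalComplex (Scheme.Modules.pullbackComp f g)
      (ComplexShape.up ℤ)).app K.as))).hom))

variable [DCoh.HasLpull f] [DCoh.HasLpull g] [DCoh.HasLpull (f ≫ g)]

/-- The counit of `Lg^*`. -/
noncomputable abbrev lpullCounit :
    DerivedCategory.Qh ⋙ DCoh.Lpull g ⟶ khFunctor (Scheme.Modules.pullback g) :=
  (khFunctor (Scheme.Modules.pullback g)).totalLeftDerivedCounit DerivedCategory.Qh
    (HomotopyCategory.quasiIso Z.Modules (ComplexShape.up ℤ))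

/-- The comparison map on the homotopy category. -/
noncomputable def lpullCompη :
    DerivedCategory.Qh ⋙ DCoh.Lpull g ⋙ DCoh.Lpull f ⟶
      khFunctor (Scheme.Modules.pullback (f ≫ g)) :=
  Functor.whiskerRight (lpullCounit g) (DCoh.Lpull f) ≫
    Functor.whiskerLeft ((Scheme.Modules.pullback g).mapHomotopyCategory (ComplexShape.up ℤ))
      (lpullCounit f) ≫ pullCompKh f g

theorem lpull_comp : Nonempty (DCoh.Lpull g ⋙ DCoh.Lpull f ≅ DCoh.Lpull (f ≫ g)) := by
  let W := HomotopyCategory.quasiIso Z.Modules (ComplexShape.up ℤ)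
  let γ : DCoh.Lpull g ⋙ DCoh.Lpull f ⟶ DCoh.Lpull (f ≫ g) :=
    Functor.leftDerivedLift _ (lpullCounit (f ≫ g)) W _ (lpullCompη f g)
  have hγ : ∀ K : CochainComplex Z.Modules ℤ, DCoh.IsKFlat K →
      IsIso (γ.app (DerivedCategory.Qh.obj ((HomotopyCategory.quotient _ _).obj K))) := by
    intro K hK
    have h₁ : IsIso ((lpullCounit g).app ((HomotopyCategory.quotient _ _).obj K)) :=
      isIso_counit_of_kFlat (preservesKFlatQis_pull g) K hK
    have h₂ : IsIso ((lpullCounit f).app ((HomotopyCategory.quotient _ _).obj ((pullCx g).obj K))) :=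
      isIso_counit_of_kFlat (preservesKFlatQis_pull f) _ (isKFlat_pull g hK)
    have h₃ : IsIso ((lpullCounit (f ≫ g)).app ((HomotopyCategory.quotient _ _).obj K)) :=
      isIso_counit_of_kFlat (preservesKFlatQis_pull (f ≫ g)) K hK
    have h₄ : IsIso ((lpullCompη f g).app ((HomotopyCategory.quotient _ _).obj K)) :=
      @IsIso.comp_isIso _ _ _ _ _ _ _ (Functor.map_isIso (DCoh.Lpull f) _)
        (@IsIso.comp_isIso _ _ _ _ _ _ _ h₂ inferInstance)
    have h₅ : IsIso (γ.app (DerivedCategory.Qh.obj ((HomotopyCategory.quotient _ _).obj K)) ≫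
        (lpullCounit (f ≫ g)).app ((HomotopyCategory.quotient _ _).obj K)) := by
      rw [Functor.leftDerived_fac_app]
      exact h₄
    exact IsIso.of_isIso_comp_right _
      ((lpullCounit (f ≫ g)).app ((HomotopyCategory.quotient _ _).obj K))
  have : ∀ M, IsIso (γ.app M) := by
    intro M
    obtain ⟨P, hP, ⟨e⟩⟩ := exists_good_rep M
    exact (NatTrans.isIso_app_iff_of_iso γ
      ((DerivedCategory.quotientCompQhIso Z.Modules).app P ≪≫ e)).mp (hγ P hP.1)
  have : IsIso γ := NatIso.isIso_of_isIso_app γ
  exact ⟨asIso γ⟩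

end KFlatLib
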