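import Mathlib.CategoryTheory.Functor.Derived.LeftDerived
import Mathlib.Algebra.Homology.DerivedCategory.Basic
import Mathlib.Algebra.Homology.HomotopyCategory.ShiftSequence

/-!
# Left derived functors from functorial resolutions
-/

set_option autoImplicit false

open CategoryTheory CategoryTheory.Limits

namespace KFlatLib

section

variable {C D H : Type*} [Category* C] [Category* D] [Category* H]
  (L : C ⥤ D) (W : MorphismProperty C) [L.IsLocalization W] (F : C ⥤ H)
  (R : C ⥤ C) (q : R ⟶ 𝟭 C) (hq : ∀ X, W (q.app X))
  (hFR : ∀ X : C, IsIso (F.map (q.app (R.obj X))))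

/-- The candidate derived functor. -/
noncomputable def derivedOfRes (h : W.IsInvertedBy (R ⋙ F)) : D ⥤ H :=
  Localization.lift (R ⋙ F) h L

/-- Its counit. -/
noncomputable def derivedOfResα (h : W.IsInvertedBy (R ⋙ F)) :
    L ⋙ derivedOfRes L W F R h ⟶ F :=
  (Localization.fac (R ⋙ F) h L).hom ≫ Functor.whiskerRight q F ≫ F.leftUnitor.hom

theorem derivedOfResα_app (h : W.IsInvertedBy (R ⋙ F)) (X : C) :
    (derivedOfResα L W F R q h).app X =
      (Localization.fac (R ⋙ F) h L).hom.app X ≫ F.map (q.app X) := by
  change (Localization.fac (R ⋙ F) h L).hom.app X ≫ F.map (q.app X) ≫ 𝟙 (F.obj X) = _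
  exact congrArg (_ ≫ ·) (Category.comp_id _)

include hq hFR in
theorem isRightKanExtension_derivedOfRes (h : W.IsInvertedBy (R ⋙ F)) :
    (derivedOfRes L W F R h).IsRightKanExtension (derivedOfResα L W F R q h) := by
  let LF := derivedOfRes L W F R h
  let : Localization.Lifting L W (R ⋙ F) LF := ⟨Localization.fac (R ⋙ F) h L⟩
  have hLq : ∀ X, IsIso (L.map (q.app X)) := fun X => Localization.inverts L W _ (hq X)
  have hα : ∀ X, IsIso ((derivedOfResα L W F R q h).app (R.obj X)) := fun X => by
    rw [derivedOfResα_app]
    exact @IsIso.comp_isIso _ _ _ _ _ _ _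
      (inferInstanceAs (IsIso ((Localization.fac (R ⋙ F) h L).app (R.obj X)).hom)) (hFR X)
  have uniq : ∀ (G : D ⥤ H) (γ γ' : G ⟶ LF),
      (∀ X, γ.app (L.obj X) ≫ (derivedOfResα L W F R q h).app X =
        γ'.app (L.obj X) ≫ (derivedOfResα L W F R q h).app X) → γ = γ' := by
    intro G γ γ' hγ
    refine Localization.natTrans_ext L W fun X => ?_
    have := hLq X
    have e : γ.app (L.obj (R.obj X)) = γ'.app (L.obj (R.obj X)) := by
      have := hα X
      exact (cancel_mono _).mp (hγ (R.obj X))
    exact (cancel_epi (G.map (L.map (q.app X)))).mp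
      ((γ.naturality _).trans ((congrArg (· ≫ LF.map (L.map (q.app X))) e).trans
        (γ'.naturality _).symm))
  have ex : ∀ s : CostructuredArrow ((Functor.whiskeringLeft C D H).obj L) F,
      ∃ γ : s.left ⟶ LF, ∀ X,
        γ.app (L.obj X) ≫ (derivedOfResα L W F R q h).app X = s.hom.app X := by
    intro s
    have : ∀ X, IsIso (s.left.map (L.map (q.app X))) := fun X => by
      have := hLq X
      infer_instance
    let τ : L ⋙ s.left ⟶ R ⋙ F :=
      { app := fun X => inv (s.left.map (L.map (q.app X))) ≫ s.hom.app (R.obj X)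
        naturality := fun X Y f => by
          have hn : inv (s.left.map (L.map (q.app X))) ≫ s.left.map (L.map (R.map f)) =
              s.left.map (L.map f) ≫ inv (s.left.map (L.map (q.app Y))) := by
            rw [IsIso.inv_comp_eq, ← Category.assoc, IsIso.eq_comp_inv, ← Functor.map_comp,
              ← Functor.map_comp]
            exact (congrArg s.left.map ((congrArg L.map (q.naturality f)).trans
              (L.map_comp _ _))).trans (s.left.map_comp _ _)
          have hs : s.left.map (L.map (R.map f)) ≫ s.hom.app (R.obj Y) =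
              s.hom.app (R.obj X) ≫ F.map (R.map f) := s.hom.naturality (R.map f)
          change s.left.map (L.map f) ≫ _ ≫ _ = (_ ≫ _) ≫ F.map (R.map f)
          rw [← Category.assoc, ← hn, Category.assoc, hs, Category.assoc] }
    refine ⟨Localization.liftNatTrans L W (L ⋙ s.left) (R ⋙ F) s.left LF τ, fun X => ?_⟩
    have hs : s.left.map (L.map (q.app X)) ≫ s.hom.app X =
        s.hom.app (R.obj X) ≫ F.map (q.app X) := s.hom.naturality (q.app X)
    rw [Localization.liftNatTrans_app, derivedOfResα_app]
    simp only [Localization.Lifting.iso, Functor.comp_obj, Iso.refl_hom, NatTrans.id_app,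
      Category.id_comp, Category.assoc, τ]
    refine Eq.trans ?_ ((IsIso.inv_comp_eq _).mpr hs.symm)
    exact congrArg (_ ≫ ·) (congrArg (_ ≫ ·)
      (Iso.inv_hom_id_app_assoc (Localization.fac (R ⋙ F) h L) X _))
  choose γ hγ using ex
  exact ⟨⟨IsTerminal.ofUniqueHom
    (fun s => CostructuredArrow.homMk (γ s) (NatTrans.ext (funext (hγ s))))
    (fun s m => CostructuredArrow.hom_ext _ _ (uniq s.left m.left (γ s) fun X =>
      (NatTrans.congr_app (CostructuredArrow.w m) X).trans (hγ s X).symm))⟩⟩

end

theorem hasLeftDerived_of_res {C D H : Type*} [Category* C] [Category* D] [Category* H]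
    (L : C ⥤ D) (W : MorphismProperty C) [L.IsLocalization W] (F : C ⥤ H)
    (R : C ⥤ C) (q : R ⟶ 𝟭 C) (hq : ∀ X, W (q.app X))
    (hFR : ∀ X : C, IsIso (F.map (q.app (R.obj X))))
    (h : W.IsInvertedBy (R ⋙ F)) : F.HasLeftDerivedFunctor W := by
  have := isRightKanExtension_derivedOfRes L W F R q hq hFR h
  rw [Functor.hasLeftDerivedFunctor_iff F L W]
  exact Functor.HasRightKanExtension.mk _ (derivedOfResα L W F R q h)

/-- A natural transformation out of the homotopy category can be defined on complexes. -/
noncomputable def liftQuotient {A H : Type*} [Category* A] [Preadditive A] [Category* H]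
    {ι : Type*} {c : ComplexShape ι} {G G' : HomotopyCategory A c ⥤ H}
    (τ : HomotopyCategory.quotient A c ⋙ G ⟶ HomotopyCategory.quotient A c ⋙ G') : G ⟶ G' where
  app X := τ.app X.as
  naturality X Y f := by
    obtain ⟨g, rfl⟩ := (HomotopyCategory.quotient A c).map_surjective
      (X := X.as) (Y := Y.as) f
    exact τ.naturality g

theorem isRightKanExtension_liftQuotient {A D H : Type*} [Category* A] [Preadditive A] [Category* D]
    [Category* H] {ι : Type*} {c : ComplexShape ι} (L : HomotopyCategory A c ⥤ D)
    (F : HomotopyCategory A c ⥤ H) (LF : D ⥤ H)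
    (α : (HomotopyCategory.quotient A c ⋙ L) ⋙ LF ⟶ HomotopyCategory.quotient A c ⋙ F)
    [LF.IsRightKanExtension α] : LF.IsRightKanExtension (liftQuotient (G := L ⋙ LF) α) :=
  ⟨⟨IsTerminal.ofUniqueHom
      (fun s => CostructuredArrow.homMk
        (LF.liftOfIsRightKanExtension α s.left
          ((Functor.associator _ _ _).hom ≫
            Functor.whiskerLeft (HomotopyCategory.quotient A c) s.hom))
        (NatTrans.ext (funext fun X =>
          (LF.liftOfIsRightKanExtension_fac_app α s.left _ X.as).trans (Category.id_comp _))))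
      (fun s m => CostructuredArrow.hom_ext _ _ (LF.hom_ext_of_isRightKanExtension α _ _
        (NatTrans.ext (funext fun K =>
          ((NatTrans.congr_app (CostructuredArrow.w m) ⟨K⟩).trans
            ((LF.liftOfIsRightKanExtension_fac_app α s.left
              ((Functor.associator _ _ _).hom ≫
                Functor.whiskerLeft (HomotopyCategory.quotient A c) s.hom) K).trans
              (Category.id_comp _)).symm)))))⟩⟩

/-- Left derived functors on the homotopy category may be constructed on complexes. -/
theorem hasLeftDerived_of_quotient {A D H : Type*} [Category* A] [Preadditive A] [Category* D]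
    [Category* H] {ι : Type*} {c : ComplexShape ι} (L : HomotopyCategory A c ⥤ D)
    (W : MorphismProperty (HomotopyCategory A c)) [L.IsLocalization W]
    (F : HomotopyCategory A c ⥤ H) (LF : D ⥤ H)
    (α : (HomotopyCategory.quotient A c ⋙ L) ⋙ LF ⟶ HomotopyCategory.quotient A c ⋙ F)
    [LF.IsRightKanExtension α] : F.HasLeftDerivedFunctor W := by
  have := isRightKanExtension_liftQuotient L F LF α
  rw [Functor.hasLeftDerivedFunctor_iff F L W]
  exact Functor.HasRightKanExtension.mk _ (liftQuotient (G := L ⋙ LF) α)

/-- The counits of two right Kan extensions are invertible at the same objects. -/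
theorem isIso_app_of_isRightKanExtension {C D H : Type*} [Category* C] [Category* D] [Category* H]
    {L : C ⥤ D} {F : C ⥤ H} (G G' : D ⥤ H) (α : L ⋙ G ⟶ F) (α' : L ⋙ G' ⟶ F)
    [G.IsRightKanExtension α] [G'.IsRightKanExtension α'] (X : C) [IsIso (α'.app X)] :
    IsIso (α.app X) := by
  let e := Functor.rightKanExtensionUnique G α G' α'
  have h : e.hom.app (L.obj X) ≫ α'.app X = α.app X :=
    (G'.liftOfIsRightKanExtension_fac_app α' G (α ≫ 𝟙 F) X).trans (Category.comp_id _)
  rw [← h]
  exact IsIso.comp_isIso' inferInstance inferInstance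

end KFlatLib
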