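import Groth.Agent.KFlatLib.FPFlatFree
import Groth.Agent.KFlatLib.CxFlat
import Groth.Agent.KFlatLib.PCohPull

/-!
# Pseudo-coherent objects of finite tor amplitude are perfect
-/

set_option autoImplicit false

universe u

open CategoryTheory CategoryTheory.Limits AlgebraicGeometry HomologicalComplex
open CochainComplex (mappingCone)

attribute [local instance] HasDerivedCategory.standard

namespace KFlatLib

variable {X : Scheme.{u}}

/-- A term of a bounded above complex, quasi-isomorphic to a flat complex, is flat if the other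
terms are. -/
theorem flat_X_of_quasiIso {L T : CochainComplex X.Modules ℤ} (φ : L ⟶ T) [QuasiIso φ] (a b : ℤ)
    (hL : ∀ i, FlatMod.IsFlat (L.X i)) (hLa : ∀ i, i < a → IsZero (L.X i))
    (hLb : ∀ i, b < i → IsZero (L.X i)) (hTa : ∀ i, i < a → IsZero (T.X i))
    (hTb : ∀ i, b < i → IsZero (T.X i)) (hT : ∀ i, a < i → FlatMod.IsFlat (T.X i)) :
    FlatMod.IsFlat (T.X a) := fun x => by
  let hs := CochainComplex.mappingCone.triangleRotateShortComplexSplitting φ
  let C := (stalkCx X x).obj (mappingCone φ)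
  have hC : ∀ i, IsZero (C.homology i) := by
    have hacy : Acyclic' (mappingCone φ) := (acyclic_cone_iff φ).mpr inferInstance
    intro i
    exact (HomologicalComplex.exactAt_iff_isZero_homology C i).mp
      (((HomologicalComplex.exactAt_iff_isZero_homology _ i).mpr (hacy i)).map
        (DerSch.stalkFunctor X x))
  have hfl : ∀ n, (∀ x, Module.Flat (X.presheaf.stalk x)
      ((DerSch.stalkFunctor X x).obj (T.X n))) → Module.Flat (X.presheaf.stalk x) (C.X n) :=
    fun n h => @flat_of_splitting _ _ _ ((hs n).map (DerSch.stalkFunctor X x)) (h x) (hL (n + 1) x)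
  have hz : ∀ n, IsZero (L.X (n + 1)) → IsZero (T.X n) → IsZero (C.X n) := fun n h₁ h₂ => by
    refine (DerSch.stalkFunctor X x).map_isZero ((IsZero.iff_id_eq_zero _).mpr ?_)
    exact CochainComplex.mappingCone.ext_from φ (n + 1) n rfl (h₁.eq_of_src _ _) (h₂.eq_of_src _ _)
  have : Module.Flat (X.presheaf.stalk x) (C.X (a - 1)) :=
    hfl _ fun y => flat_of_isZero (hTa _ (by omega)) y
  have hflat := flat_X_of_acyclic C hC a b (fun i hi => hz i (hLb _ (by omega)) (hTb i hi))
    (fun i hi => hfl i (hT i hi)) (hz _ (hLa _ (by omega)) (hTa _ (by omega)))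
  let M := (DerSch.stalkFunctor X x).obj ((mappingCone φ).X a)
  have : Module.Flat (X.presheaf.stalk x) M := hflat
  exact Module.Flat.of_retract (M := M)
    ((DerSch.stalkFunctor X x).map ((CochainComplex.mappingCone.inr φ).f a)).hom
    ((DerSch.stalkFunctor X x).map ((CochainComplex.mappingCone.snd φ).v a a (add_zero a))).hom
    (congrArg ModuleCat.Hom.hom (((DerSch.stalkFunctor X x).map_comp
      ((CochainComplex.mappingCone.inr φ).f a)
      ((CochainComplex.mappingCone.snd φ).v a a (add_zero a))).symm.trans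
        ((congrArg _ (CochainComplex.mappingCone.inr_f_snd_v φ a)).trans
          ((DerSch.stalkFunctor X x).map_id _))))

/-- A model of a complex of flat amplitude: the truncation of a complex of finite free modules. -/
theorem exists_perfect_model (F E : CochainComplex X.Modules ℤ) (a b : ℤ)
    (hF : DCoh.VanishesOutside F a b) (hflat : ∀ i, FlatMod.IsFlat (F.X i)) (hE : FreeBdd E)
    (α : DCoh.toD X E ⟶ DCoh.toD X F)
    (hα : ∀ i, a ≤ i → IsIso ((DerivedCategory.homologyFunctor X.Modules i).map α)) :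
    ∃ S : CochainComplex X.Modules ℤ, DCoh.IsStrictlyPerfect S ∧
      Nonempty (DCoh.toD X F ≅ DCoh.toD X S) := by
  obtain ⟨⟨c, d, hv⟩, hfree⟩ := hE
  have : F.IsStrictlyGE a :=
    (CochainComplex.isStrictlyGE_iff F a).mpr fun i hi => hF i (Or.inl hi)
  obtain ⟨F', _, g, s, hs, rfl⟩ := DerivedCategory.left_fac_of_isStrictlyGE α a
  have hg : ∀ i, a ≤ i → QuasiIsoAt g i := fun i hi => by
    rw [quasiIsoAt_iff_isIso_homologyMap]
    have := hα i hi
    rw [Functor.map_comp] at this
    have : IsIso ((DerivedCategory.homologyFunctor X.Modules i).map (DerivedCategory.Q.map g)) :=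
      IsIso.of_isIso_comp_right _
        ((DerivedCategory.homologyFunctor X.Modules i).map (inv (DerivedCategory.Q.map s)))
    exact (NatIso.isIso_map_iff (DerivedCategory.homologyFunctorFactors X.Modules i) g).mp this
  let T := E.truncGE a
  have : QuasiIso (CochainComplex.truncGEMap g a) :=
    (CochainComplex.quasiIso_truncGEMap_iff g a).mpr hg
  have hgiso : IsIso (DerivedCategory.Q.map (CochainComplex.truncGEMap g a)) :=
    (DerivedCategory.isIso_Q_map_iff_quasiIso X.Modules _).mpr inferInstance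
  let eT : DCoh.toD X T ≅ DCoh.toD X F :=
    asIso (DerivedCategory.Q.map (CochainComplex.truncGEMap g a)) ≪≫
      DerivedCategory.Q.mapIso (asIso (F'.πTruncGE a)).symm ≪≫
      (asIso (DerivedCategory.Q.map s)).symm
  let B := max b (max a d)
  have hTB : ∀ i, B < i → IsZero (T.X i) := fun i hi =>
    (hv i (Or.inr (by omega))).of_iso (E.truncGEXIso a i (by omega))
  have hTf : ∀ i, a < i → IsFinFree (T.X i) := fun i hi =>
    isFinFree_of_iso (E.truncGEXIso a i hi).symm (hfree i)
  obtain ⟨L, β, hLb, hLf, hβ⟩ := exists_flat_resolution T B hTB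
  have : IsIso (DerivedCategory.Q.map β) := inferInstance
  let eL : DCoh.toD X L ≅ DCoh.toD X F := asIso (DerivedCategory.Q.map β) ≪≫ eT
  have htor := torAmplitude_of_flatAmplitude (K := DCoh.toD X F) ⟨F, hF, hflat, ⟨Iso.refl _⟩⟩
  have hc := flat_cokernel (isKFlat_of_bounded_flat_mod L B hLb hLf) eL a (hLf a)
    fun G _ => htor G (a - 1) (Or.inl (by omega))
  have : QuasiIso (CochainComplex.truncGEMap β a) :=
    (CochainComplex.quasiIso_truncGEMap_iff β a).mpr fun i _ => inferInstance
  let φ : L.truncGE a ⟶ T := CochainComplex.truncGEMap β a ≫ inv (T.πTruncGE a)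
  have : QuasiIso φ := quasiIso_comp _ _
  have hTflat : FlatMod.IsFlat (T.X a) := flat_X_of_quasiIso φ a B
    (fun i => by
      rcases lt_trichotomy i a with hi | hi | hi
      · exact flat_of_isZero (CochainComplex.isZero_of_isStrictlyGE (L.truncGE a) a i hi)
      · subst hi
        exact flat_of_iso (((L.opcyclesIsCokernel (i - 1) i (by simp)).coconePointUniqueUpToIso
          (colimit.isColimit _)).symm ≪≫ (L.truncGEXIsoOpcycles i).symm) hc
      · exact flat_of_iso (L.truncGEXIso a i hi).symm (hLf i))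
    (fun i hi => CochainComplex.isZero_of_isStrictlyGE (L.truncGE a) a i hi)
    (fun i hi => (hLb i hi).of_iso (L.truncGEXIso a i (by omega)))
    (fun i hi => CochainComplex.isZero_of_isStrictlyGE T a i hi) hTB
    (fun i hi => isFlat_of_isFinLocFree (isFinLocFree_of_isFinFree (hTf i hi)))
  have hTa : FlatMod.IsFinLocFree (T.X a) := by
    obtain ⟨p, ⟨ep⟩⟩ := hfree (a - 1)
    obtain ⟨q, ⟨eq⟩⟩ := hfree a
    let eo := (E.truncGEXIsoOpcycles a).symm
    have w₀ : E.d (a - 1) a ≫ E.pOpcycles a ≫ eo.hom = 0 := by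
      rw [← Category.assoc, d_pOpcycles, zero_comp]
    have hc₀ : IsColimit (CokernelCofork.ofπ (E.pOpcycles a ≫ eo.hom) w₀) :=
      IsColimit.ofIsoColimit (E.opcyclesIsCokernel (a - 1) a (by simp))
        (Cocone.ext eo (by rintro (_ | _) <;> simp))
    refine isFinLocFree_of_freeNear fun x => freeNear_of_flat hTflat _ _ ?_
      (isColimitConj hc₀ ep.symm eq.symm ?_) x
    all_goals
      simp only [Iso.symm_hom, Iso.symm_inv, Category.assoc, Iso.hom_inv_id_assoc]
      rw [w₀, comp_zero]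
  refine ⟨T, ⟨⟨a, B, fun i hi => ?_⟩, fun i => ?_⟩, ⟨eT.symm⟩⟩
  · rcases hi with hi | hi
    · exact CochainComplex.isZero_of_isStrictlyGE T a i hi
    · exact hTB i hi
  · rcases lt_trichotomy i a with hi | hi | hi
    · exact isFinLocFree_of_isFinFree (isFinFree_of_isZero
        (CochainComplex.isZero_of_isStrictlyGE T a i hi))
    · exact hi ▸ hTa
    · exact isFinLocFree_of_isFinFree (hTf i hi)

/-- Perfectness from local strictly perfect models. -/
theorem isPerfect_of_models {K : DCoh.D X} {P : CochainComplex X.Modules ℤ} (hP : DCoh.IsKFlat P)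
    (e : DCoh.toD X P ≅ K)
    (h : ∀ x : X, ∃ (Z : Scheme.{u}) (g : Z ⟶ X) (_ : IsOpenImmersion g),
      x ∈ Set.range g.base ∧ ∃ S : CochainComplex Z.Modules ℤ, DCoh.IsStrictlyPerfect S ∧
        Nonempty (DCoh.toD Z ((pullCx g).obj P) ≅ DCoh.toD Z S)) :
    DCoh.IsPerfect K := fun x => by
  obtain ⟨Z, g, hg, hx, S, hS, ⟨eS⟩⟩ := h x
  let V : X.Opens := g.opensRange
  have hV : Set.range V.ι.base ⊆ Set.range g.base := by
    rw [Scheme.Opens.range_ι]
    exact subset_of_eq (Scheme.Hom.coe_opensRange g)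
  let l := IsOpenImmersion.lift g V.ι hV
  obtain ⟨e'⟩ := pullQIso l (isKFlat_pull g hP) (isKFlat_of_isStrictlyPerfect hS) eS
  refine ⟨V, hx, fun F hF => ⟨(pullCx l).obj S, isStrictlyPerfect_pull l hS, ?_⟩⟩
  obtain ⟨eF⟩ := hF
  exact ⟨restrictQIso V (eF ≪≫ e.symm) ≪≫ DerivedCategory.Q.mapIso ((restrictCxIso V).app P ≪≫
    ((NatIso.mapHomologicalComplex (Scheme.Modules.pullbackComp l g ≪≫
      Scheme.Modules.pullbackCongr (IsOpenImmersion.lift_fac g V.ι hV))
      (ComplexShape.up ℤ)).app P).symm) ≪≫ e'⟩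

/-- Flat amplitude and pseudo-coherence give perfectness. -/
theorem isPerfect_of_flatAmplitude_of_pcoh (K : DCoh.D X) (a b : ℤ)
    (h1 : DCoh.HasFlatAmplitudeIn a b K) (h2 : DCoh.IsPseudoCoherentD (a - 1) K) :
    DCoh.IsPerfect K := by
  obtain ⟨F, hF, hflat, ⟨e⟩⟩ := h1
  have hKF := isKFlat_of_bounded_flat_mod F b (fun i hi => hF i (Or.inr hi)) hflat
  refine isPerfect_of_models hKF e fun x => ?_
  obtain ⟨V, hxV, hV⟩ := h2 x
  obtain ⟨E0, α, hE0, hα, hαm⟩ := hV F ⟨e⟩
  obtain ⟨W, hxW, hW⟩ := exists_freeBdd_restrict hE0 ⟨x, hxV⟩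
  let g : (W : Scheme.{u}) ⟶ X := W.ι ≫ V.ι
  let FV := (DCoh.restrictCx V).obj F
  have hKV := isKFlat_restrict V hKF
  have := hasLpull W.ι
  obtain ⟨h₁, -⟩ := isoAboveEpiAt_lpull W.ι α (a - 1) hα hαm
  let eW : (pullCx W.ι).obj FV ≅ (pullCx g).obj F :=
    (pullCx W.ι).mapIso ((restrictCxIso V).app F) ≪≫
      (NatIso.mapHomologicalComplex (Scheme.Modules.pullbackComp W.ι V.ι)
        (ComplexShape.up ℤ)).app F
  let β : DCoh.toD _ ((pullCx W.ι).obj E0) ⟶ DCoh.toD _ ((pullCx g).obj F) :=
    (lpullObjIso W.ι E0 (isKFlat_of_isStrictlyPerfect hE0)).inv ≫ (DCoh.Lpull W.ι).map α ≫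
      (lpullObjIso W.ι FV hKV).hom ≫ DerivedCategory.Q.map eW.hom
  obtain ⟨S, hS, eS⟩ := exists_perfect_model ((pullCx g).obj F) ((pullCx W.ι).obj E0) a b
    (fun i hi => (Scheme.Modules.pullback g).map_isZero (hF i hi))
    (fun i => flat_pullback g (hflat i)) hW β fun i hi => by
      have := h₁ i (by omega)
      simp only [β, Functor.map_comp]
      infer_instance
  exact ⟨W, g, inferInstance, ⟨⟨⟨x, hxV⟩, hxW⟩, rfl⟩, S, hS, eS⟩

end KFlatLib
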