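import Groth.Agent.KFlatLib.DerivedCoprod
import Groth.Agent.QCohLib.QCoh
import Mathlib.CategoryTheory.Abelian.GrothendieckAxioms.Basic
import Mathlib.CategoryTheory.Abelian.FunctorCategory

/-!
# Homology and coproducts
-/

set_option autoImplicit false

universe u w v

open CategoryTheory CategoryTheory.Limits AlgebraicGeometry HomologicalComplex

namespace KFlatLib

variable {A : Type w} [Category.{v} A] [Abelian A] [IsGrothendieckAbelian.{v} A] {T : Type v}

/-- A family of complexes as a complex of families. -/
noncomputable def famCx (P : T → CochainComplex A ℤ) :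
    CochainComplex (Discrete T ⥤ A) ℤ where
  X n := Discrete.functor fun i => (P i).X n
  d m n := Discrete.natTrans fun i => (P i.as).d m n
  shape m n h := by
    ext i
    exact (P i.as).shape m n h
  d_comp_d' l m n _ _ := by
    ext i
    exact (P i.as).d_comp_d l m n

/-- The degreewise coproduct. -/
noncomputable def sigmaCx (P : T → CochainComplex A ℤ) : CochainComplex A ℤ :=
  ((colim (J := Discrete T) (C := A)).mapHomologicalComplex (ComplexShape.up ℤ)).obj (famCx P)

/-- The inclusions. -/
noncomputable def sigmaCxι (P : T → CochainComplex A ℤ) (i : T) : P i ⟶ sigmaCx P where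
  f n := colimit.ι ((famCx P).X n) ⟨i⟩
  comm' m n _ := ι_colimMap ((famCx P).d m n) ⟨i⟩

/-- The degreewise coproduct is the coproduct. -/
noncomputable def isColimitSigmaCx (P : T → CochainComplex A ℤ) :
    IsColimit (Cofan.mk (sigmaCx P) (sigmaCxι P)) :=
  isColimitOfEval _ _ fun n =>
    (isColimitMapCoconeCofanMkEquiv (eval _ _ n) _ _).symm
      ((colimit.isColimit ((famCx P).X n)).ofIsoColimit
        (Cocone.ext (Iso.refl _) fun _ => Category.comp_id _))

/-- Homology commutes with coproducts. -/
noncomputable def homologySigmaIso (P : T → CochainComplex A ℤ) (n : ℤ) :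
    (∐ P).homology n ≅ ∐ fun i => (P i).homology n :=
  haveI : HasFiniteBiproducts A := Abelian.hasFiniteBiproducts
  haveI : AB4OfSize.{v} A := AB4.of_AB5 A
  haveI : (colim (J := Discrete T) (C := A)).Additive :=
    Functor.additive_of_preserves_binary_products _
  (homologyFunctor A (ComplexShape.up ℤ) n).mapIso
      ((coproductIsCoproduct P).coconePointUniqueUpToIso (isColimitSigmaCx P)) ≪≫
    ((famCx P).sc n).mapHomologyIso colim ≪≫
    colim.mapIso (Discrete.natIso fun i =>
      (((famCx P).sc n).mapHomologyIso ((evaluation (Discrete T) A).obj i)).symm ≪≫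
        Iso.refl ((P i.as).homology n))

attribute [local instance] HasDerivedCategory.standard

theorem isQCohD_coproduct {X : Scheme.{u}} {ι : Type u} (K : ι → DCoh.D X)
    (hK : ∀ i, DCoh.IsQCohD (K i)) [HasCoproduct K] : DCoh.IsQCohD (∐ K) := by
  choose P e using fun i => (⟨_, ⟨DerivedCategory.Q.objObjPreimageIso (K i)⟩⟩ :
    ∃ P, Nonempty (DerivedCategory.Q.obj P ≅ K i))
  let hC : IsColimit (Cofan.mk (DerivedCategory.Q.obj (∐ P))
      (fun i => (e i).some.inv ≫ DerivedCategory.Q.map (Sigma.ι P i)) : Cofan K) :=
    (IsColimit.precomposeInvEquiv (Discrete.natIso fun i => (e i.as).some) _).symm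
      (isColimit_Q_sigma P).some |>.ofIsoColimit (Cocone.ext (Iso.refl _) fun i => by simp)
  intro n
  have h : ∀ i, Coh.IsQCoh ((P i).homology n) := fun i => by
    have := hK i n
    exact QCohLib.isQCoh_of_iso
      (((DerivedCategory.homologyFunctor X.Modules n).mapIso (e i).some).symm ≪≫ hdToD (P i) n)
  have := QCohLib.isQCoh_sigma _ h
  exact QCohLib.isQCoh_of_iso
    ((homologySigmaIso P n).symm ≪≫ (hdToD (∐ P) n).symm ≪≫
      (DerivedCategory.homologyFunctor X.Modules n).mapIso
        ((coproductIsCoproduct K).coconePointUniqueUpToIso hC).symm)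

end KFlatLib
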