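import Groth.Agent.KFlatLib.TorAmpMore
import Groth.Agent.KFlatLib.TildeKFlat
import Groth.Agent.QCohLib.Push
import Mathlib.AlgebraicGeometry.Stalk
import Mathlib.AlgebraicGeometry.Morphisms.QuasiSeparated

/-!
# Quasi-coherent modules realise every module over a local ring as a stalk
-/

set_option autoImplicit false

universe u

open CategoryTheory CategoryTheory.Limits AlgebraicGeometry TopologicalSpace Opposite
  MonoidalCategory HomologicalComplex

attribute [local instance] HasDerivedCategory.standard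

namespace KFlatLib

variable {X : Scheme.{u}}

/-- The quasi-coherent module on `X` spread out from a module over a local ring. -/
noncomputable abbrev spreadObj (x : X) (N : ModuleCat.{u} (X.presheaf.stalk x)) : X.Modules :=
  (Scheme.Modules.pushforward (X.fromSpecStalk x)).obj (tilde N)

theorem isQCoh_spreadObj [QuasiSeparatedSpace X] (x : X) (N : ModuleCat.{u} (X.presheaf.stalk x)) :
    Coh.IsQCoh (spreadObj x N) := by
  have : QuasiCompact (X.fromSpecStalk x) := by
    have h1 : QuasiCompact (X.fromSpecStalk x ≫ specULiftZIsTerminal.from X) :=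
      inferInstance
    exact QuasiCompact.of_comp (X.fromSpecStalk x) (specULiftZIsTerminal.from X)
  have : Coh.IsQCoh (tilde N) := inferInstanceAs (tilde N).IsQuasicoherent
  exact QCohLib.isQCoh_pushforward _ _

theorem top_eq_preimage_fromSpecStalk {x : X} {U : X.Opens} (hU : x ∈ U) :
    X.fromSpecStalk x ⁻¹ᵁ U = ⊤ := by
  refine eq_top_iff.mpr fun p _ => ?_
  have hc : IsLocalRing.closedPoint (X.presheaf.stalk x) ∈ X.fromSpecStalk x ⁻¹ᵁ U := by
    change X.fromSpecStalk x _ ∈ U
    rw [Scheme.fromSpecStalk_closedPoint]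
    exact hU
  exact (IsLocalRing.specializes_closedPoint p).mem_open (X.fromSpecStalk x ⁻¹ᵁ U).2 hc

/-- The stalk of the spread out module. -/
theorem nonempty_stalk_spreadObj (x : X) (N : ModuleCat.{u} (X.presheaf.stalk x)) :
    Nonempty (N ≅ (DerSch.stalkFunctor X x).obj (spreadObj x N)) := by
  let G := spreadObj x N
  have hb : ∀ {U : X.Opens} (hU : x ∈ U), Function.Bijective
      ((tilde N).presheaf.map (homOfLE (le_top : X.fromSpecStalk x ⁻¹ᵁ U ≤ ⊤)).op) := fun hU => by
    have : IsIso (homOfLE (le_top : X.fromSpecStalk x ⁻¹ᵁ _ ≤ ⊤)) :=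
      ⟨homOfLE (top_eq_preimage_fromSpecStalk hU).ge, rfl, rfl⟩
    exact ConcreteCategory.bijective_of_isIso _
  let σ : N ≅ (specΓ (X.presheaf.stalk x)).obj (tilde N) := tilde.toTildeΓNatIso.app N
  let sec : N → Γ(tilde N, ⊤) := fun n => σ.hom.hom n
  have hsec : Function.Bijective sec := ConcreteCategory.bijective_of_isIso σ.hom
  let v : ∀ {U : X.Opens}, N → Γ(G, U) := fun {U} n =>
    (tilde N).presheaf.map (homOfLE (le_top : X.fromSpecStalk x ⁻¹ᵁ U ≤ ⊤)).op (sec n)
  have hv : ∀ {U V : X.Opens} (h : V ≤ U) (n : N),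
      G.presheaf.map (homOfLE h).op (v n) = v n := fun h n => QCohLib.map_map' (tilde N) _ _ _
  let b : N → (DerSch.stalkFunctor X x).obj G := fun n =>
    G.presheaf.germ ⊤ x trivial (v n)
  have hbU : ∀ {U : X.Opens} (hU : x ∈ U) (n : N), G.presheaf.germ U x hU (v n) = b n :=
    fun {U} hU n => by
      rw [← hv (le_top : U ≤ ⊤) n]
      exact TopCat.Presheaf.germ_res_apply G.presheaf _ x hU _
  let L : N →ₗ[X.presheaf.stalk x] (DerSch.stalkFunctor X x).obj G :=
    { toFun := b
      map_add' := fun n n' => by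
        have h1 : sec (n + n') = sec n + sec n' := map_add σ.hom.hom n n'
        simp only [b, v, h1]
        exact (congrArg _ (map_add _ _ _)).trans (map_add _ _ _)
      map_smul' := fun c n => by
        obtain ⟨U, hU, r, rfl⟩ := X.presheaf.exists_germ_eq (x := x) c
        rw [← hbU hU, ← hbU hU n]
        refine Eq.trans ?_ (PresheafOfModules.germ_smul (R := X.presheaf)
          (show PresheafOfModules (X.presheaf ⋙ forget₂ CommRingCat RingCat) from G.val) x U hU r (v n))
        refine congrArg _ ?_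
        refine Eq.trans ?_ (QCohLib.push_smul (X.fromSpecStalk x) (tilde N) r (v n)).symm
        rw [Scheme.fromSpecStalk_app hU]
        have h1 : sec (X.presheaf.germ U x hU r • n) =
            (Spec (X.presheaf.stalk x)).presheaf.map (⊤ : (Spec (X.presheaf.stalk x)).Opens).leTop.op
              ((Scheme.ΓSpecIso (X.presheaf.stalk x)).inv (X.presheaf.germ U x hU r)) • sec n :=
          map_smul σ.hom.hom _ n
        change (tilde N).presheaf.map _ (sec _) = _
        rw [h1, Scheme.Modules.map_smul]
        refine congrArg (· • (tilde N).presheaf.map _ (sec n)) ?_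
        rw [← CommRingCat.comp_apply, ← Functor.map_comp]
        rfl }
  have hL : Function.Bijective L := by
    constructor
    · intro n n' h
      obtain ⟨W, hW, i₁, i₂, hW'⟩ := TopCat.Presheaf.germ_eq G.presheaf x _ _ _ _ h
      rw [Subsingleton.elim i₁ (homOfLE i₁.le), Subsingleton.elim i₂ (homOfLE i₂.le), hv, hv] at hW'
      exact hsec.1 ((hb hW).1 hW')
    · intro a
      obtain ⟨U, hU, s, rfl⟩ := G.presheaf.exists_germ_eq (x := x) a
      obtain ⟨t, ht⟩ := (hb hU).2 s
      obtain ⟨n, rfl⟩ := hsec.2 t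
      exact ⟨n, (hbU hU n).symm.trans (congrArg _ ht)⟩
  exact ⟨(LinearEquiv.ofBijective L hL).toModuleIso⟩

/-- Tor amplitude is tested on quasi-coherent modules. -/
theorem torAmplitude_of_qcoh [QuasiSeparatedSpace X] (K : DCoh.D X) (a b : ℤ)
    (h : ∀ (F : X.Modules), Coh.IsQCoh F → ∀ [DCoh.HasLTensorMod F] (i : ℤ), (i < a ∨ b < i) →
      IsZero (DCoh.HD ((DCoh.LTensorMod F).obj K) i)) :
    DCoh.HasTorAmplitudeIn a b K := by
  intro F hF i hi
  obtain ⟨P, hP, ⟨e⟩⟩ := exists_good_rep K
  rw [isZero_HD_lTensor_iff F hP.1 e i]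
  intro x
  let N := (DerSch.stalkFunctor X x).obj F
  have := hasLTensorMod (spreadObj x N)
  obtain ⟨s⟩ := nonempty_stalk_spreadObj x N
  refine ((isZero_HD_lTensor_iff (spreadObj x N) hP.1 e i).mp
    (h (spreadObj x N) (isQCoh_spreadObj x N) i hi) x).of_iso ?_
  exact (homologyFunctor _ _ i).mapIso ((NatIso.mapHomologicalComplex
    ((MonoidalCategory.curriedTensor _).flip.mapIso s)
    (ComplexShape.up ℤ)).app ((stalkCx X x).obj P))

end KFlatLib
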