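import Groth.Agent.KFlatLib.Alg
import Mathlib.Algebra.Homology.DerivedCategory.KProjective
import Mathlib.Algebra.Category.ModuleCat.Monoidal.Basic
import Mathlib.CategoryTheory.Abelian.Projective.Extend

/-!
# Flatness of cokernels through vanishing of homology
-/

set_option autoImplicit false

universe u

open CategoryTheory CategoryTheory.Limits MonoidalCategory HomologicalComplex
open scoped TensorProduct

namespace KFlatLib

variable {R : Type u} [CommRing R]

/-- `- ⊗ N` of complexes of modules. -/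
noncomputable abbrev tensorN (P : CochainComplex (ModuleCat.{u} R) ℤ) (N : ModuleCat.{u} R) :
    CochainComplex (ModuleCat.{u} R) ℤ :=
  ((tensorRight N).mapHomologicalComplex (ComplexShape.up ℤ)).obj P

/-- If `P^a` is flat and `H^{a-1}(P ⊗ N) = 0` for all `N`, then `coker(P^{a-1} → P^a)` is flat. -/
theorem flat_coker_of_homology (P : CochainComplex (ModuleCat.{u} R) ℤ) (a : ℤ)
    [Module.Flat R (P.X a)]
    (h : ∀ N : ModuleCat.{u} R, IsZero ((tensorN P N).homology (a - 1))) :
    Module.Flat R (P.X a ⧸ LinearMap.range (P.d (a - 1) a).hom) := by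
  rw [Module.Flat.iff_lTensor_injectiveₛ]
  intro N _ _ I
  let : AddCommGroup N := Module.addCommMonoidToAddCommGroup R
  let d := (P.d (a - 1) a).hom
  let d' := (P.d (a - 1 - 1) (a - 1)).hom
  let π := (LinearMap.range d).mkQ
  have hπ : Function.Exact d π := LinearMap.exact_map_mkQ_range d
  rw [injective_iff_map_eq_zero]
  intro z hz
  obtain ⟨y, rfl⟩ := LinearMap.rTensor_surjective I (Submodule.mkQ_surjective _) z
  have hy : π.rTensor N (I.subtype.lTensor (P.X a) y) = 0 := by
    rw [← hz, ← LinearMap.comp_apply, LinearMap.rTensor_comp_lTensor,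
      ← LinearMap.lTensor_comp_rTensor, LinearMap.comp_apply]
  obtain ⟨w, hw⟩ := (rTensor_exact N hπ (Submodule.mkQ_surjective _) _).mp hy
  let q := I.mkQ
  have hq : Function.Exact I.subtype q := LinearMap.exact_subtype_mkQ I
  have hw' : d.rTensor (N ⧸ I) (q.lTensor (P.X (a - 1)) w) = 0 := by
    rw [← LinearMap.comp_apply, LinearMap.rTensor_comp_lTensor, ← LinearMap.lTensor_comp_rTensor,
      LinearMap.comp_apply, hw, ← LinearMap.comp_apply, ← LinearMap.lTensor_comp,
      hq.linearMap_comp_eq_zero, LinearMap.lTensor_zero, LinearMap.zero_apply]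
  obtain ⟨v, hv⟩ := (isZero_homology_iff_exists _ (a - 1 - 1) (a - 1) a (by omega) (by omega)).mp
    (h (ModuleCat.of R (N ⧸ I))) _ hw'
  obtain ⟨v', rfl⟩ := LinearMap.lTensor_surjective (P.X (a - 1 - 1)) (Submodule.mkQ_surjective I) v
  have hv' : q.lTensor (P.X (a - 1)) (d'.rTensor N v') = q.lTensor (P.X (a - 1)) w := by
    rw [← hv, ← LinearMap.comp_apply, LinearMap.lTensor_comp_rTensor,
      ← LinearMap.rTensor_comp_lTensor, LinearMap.comp_apply]
    rfl
  have hdiff : q.lTensor (P.X (a - 1)) (w - d'.rTensor N v') = 0 := by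
    rw [map_sub, hv', sub_self]
  obtain ⟨w', hw₂⟩ := (lTensor_exact (P.X (a - 1)) hq (Submodule.mkQ_surjective I) _).mp hdiff
  have hdd : d ∘ₗ d' = 0 := by
    rw [← ModuleCat.hom_comp, P.d_comp_d, ModuleCat.hom_zero]
  have key : I.subtype.lTensor (P.X a) (d.rTensor I w') = I.subtype.lTensor (P.X a) y := by
    rw [← LinearMap.comp_apply, LinearMap.lTensor_comp_rTensor, ← LinearMap.rTensor_comp_lTensor,
      LinearMap.comp_apply, hw₂, map_sub, hw, ← LinearMap.comp_apply, ← LinearMap.rTensor_comp,
      hdd, LinearMap.rTensor_zero, LinearMap.zero_apply, sub_zero]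
  rw [← Module.Flat.lTensor_preserves_injective_linearMap _ Subtype.val_injective key]
  rw [← LinearMap.comp_apply, ← LinearMap.rTensor_comp, hπ.linearMap_comp_eq_zero,
    LinearMap.rTensor_zero, LinearMap.zero_apply]

/-- A lift of a projective resolution through a resolution. -/
theorem exists_qis_of_isKProjective {Q P F : CochainComplex (ModuleCat.{u} R) ℤ}
    [Q.IsKProjective] (p : Q ⟶ F) [QuasiIso p] (w : P ⟶ F) [QuasiIso w] :
    ∃ g : Q ⟶ P, QuasiIso g := by
  let := HasDerivedCategory.standard (ModuleCat.{u} R)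
  let e := DerivedCategory.quotientCompQhIso (ModuleCat.{u} R)
  obtain ⟨γ, hγ⟩ := (CochainComplex.IsKProjective.Qh_map_bijective Q
    ((HomotopyCategory.quotient _ _).obj P)).surjective
      (e.hom.app Q ≫ DerivedCategory.Q.map p ≫ inv (DerivedCategory.Q.map w) ≫ e.inv.app P)
  obtain ⟨g, rfl⟩ := (HomotopyCategory.quotient _ _).map_surjective γ
  refine ⟨g, ?_⟩
  have hiso : IsIso ((HomotopyCategory.quotient _ _ ⋙ DerivedCategory.Qh).map g) := by
    change IsIso (DerivedCategory.Qh.map ((HomotopyCategory.quotient _ _).map g))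
    rw [hγ]
    infer_instance
  exact (DerivedCategory.isIso_Q_map_iff_quasiIso (φ := g) (C := ModuleCat.{u} R)).mp ((NatIso.isIso_map_iff e g).1 hiso)

end KFlatLib
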