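import Groth.Agent.KFlatLib.DerivedTensor
import Groth.Agent.KFlatLib.FlatRes
import Groth.Agent.KFlatLib.TorRing
import Mathlib.Algebra.Category.ModuleCat.Kernels

/-!
# Tor amplitude on schemes
-/

set_option autoImplicit false

universe u

open CategoryTheory CategoryTheory.Limits AlgebraicGeometry MonoidalCategory HomologicalComplex

attribute [local instance] HasDerivedCategory.standard

namespace KFlatLib

variable {X : Scheme.{u}}

/-- The cohomology sheaves of the image of a complex. -/
noncomputable def hdToD (E : CochainComplex X.Modules ℤ) (i : ℤ) :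
    DCoh.HD (DCoh.toD X E) i ≅ E.homology i :=
  (DerivedCategory.homologyFunctorFactors X.Modules i).app E

theorem isZero_HD_iff {K : DCoh.D X} {E : CochainComplex X.Modules ℤ} (e : DCoh.toD X E ≅ K)
    (i : ℤ) : IsZero (DCoh.HD K i) ↔ IsZero (E.homology i) :=
  (((DerivedCategory.homologyFunctor X.Modules i).mapIso e).symm ≪≫ hdToD E i).isZero_iff

/-- Cohomology of `P ⊗^L G` for a K-flat `P`, on stalks. -/
theorem isZero_HD_lTensor_iff (G : X.Modules) [DCoh.HasLTensorMod G]
    {P : CochainComplex X.Modules ℤ} (hP : DCoh.IsKFlat P) {K : DCoh.D X} (e : DCoh.toD X P ≅ K)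
    (i : ℤ) :
    IsZero (DCoh.HD ((DCoh.LTensorMod G).obj K) i) ↔ ∀ x : X,
      IsZero ((tensorN ((stalkCx X x).obj P) ((DerSch.stalkFunctor X x).obj G)).homology i) := by
  rw [isZero_HD_iff ((lTensorModObjIso G P hP).symm ≪≫ (DCoh.LTensorMod G).mapIso e) i,
    isZero_homology_iff]
  exact forall_congr' fun x =>
    ((homologyFunctor _ _ i).mapIso (stalkTensorModCxIso x G P)).isZero_iff.symm

/-- Vanishing of all `H^i(P ⊗^L G)` gives it for every module over every stalk. -/
theorem isZero_tensorN_of_lTensor {P : CochainComplex X.Modules ℤ} (hP : DCoh.IsKFlat P)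
    {K : DCoh.D X} (e : DCoh.toD X P ≅ K) (i : ℤ)
    (h : ∀ (G : X.Modules) [DCoh.HasLTensorMod G], IsZero (DCoh.HD ((DCoh.LTensorMod G).obj K) i))
    (x : X) (N : ModuleCat.{u} (X.presheaf.stalk x)) :
    IsZero ((tensorN ((stalkCx X x).obj P) N).homology i) := by
  have := hasLTensorMod (skyObj x N)
  refine ((isZero_HD_lTensor_iff (skyObj x N) hP e i).mp (h _) x).of_iso ?_
  exact ((homologyFunctor _ _ i).mapIso ((NatIso.mapHomologicalComplex
    ((MonoidalCategory.curriedTensor _).flip.mapIso (skyCounit x N))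
    (ComplexShape.up ℤ)).app ((stalkCx X x).obj P))).symm

/-- If `H^{a-1}(P ⊗^L G) = 0` for all `G` then the cokernel of `P^{a-1} → P^a` is flat. -/
theorem flat_cokernel {P : CochainComplex X.Modules ℤ} (hP : DCoh.IsKFlat P)
    {K : DCoh.D X} (e : DCoh.toD X P ≅ K) (a : ℤ) (hflat : FlatMod.IsFlat (P.X a))
    (h : ∀ (G : X.Modules) [DCoh.HasLTensorMod G],
      IsZero (DCoh.HD ((DCoh.LTensorMod G).obj K) (a - 1))) :
    FlatMod.IsFlat (cokernel (P.d (a - 1) a)) := fun x => by
  have : Module.Flat (X.presheaf.stalk x) (((stalkCx X x).obj P).X a) := hflat x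
  have := flat_coker_of_homology ((stalkCx X x).obj P) a (isZero_tensorN_of_lTensor hP e (a - 1) h x)
  exact Module.Flat.of_linearEquiv
    (PreservesCokernel.iso (DerSch.stalkFunctor X x) (P.d (a - 1) a) ≪≫
      ModuleCat.cokernelIsoRangeQuotient (((stalkCx X x).obj P).d (a - 1) a)).toLinearEquiv

/-- A flat complex vanishing outside `[a, b]` has tor amplitude in `[a, b]`. -/
theorem torAmplitude_of_flatAmplitude {K : DCoh.D X} {a b : ℤ}
    (h : DCoh.HasFlatAmplitudeIn a b K) : DCoh.HasTorAmplitudeIn a b K := by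
  obtain ⟨E, hE, hflat, ⟨e⟩⟩ := h
  intro F hF i hi
  rw [isZero_HD_iff ((lTensorModObjIso F E
    (isKFlat_of_bounded_flat_mod E b (fun j hj => hE j (Or.inr hj)) hflat)).symm ≪≫
      (DCoh.LTensorMod F).mapIso e) i, ← exactAt_iff_isZero_homology]
  exact ShortComplex.exact_of_isZero_X₂ _ ((DCoh.tensorRightMod F).map_isZero (hE i hi))

/-- `H^0` of a complex vanishing in positive degrees is the cokernel of the last differential. -/
noncomputable def homologyIsoCokernel (P : CochainComplex X.Modules ℤ) (b : ℤ)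
    (hb : IsZero (P.X (b + 1))) : P.homology b ≅ cokernel (P.d (b - 1) b) :=
  P.isoHomologyι b (b + 1) (by simp) (hb.eq_of_tgt _ _) ≪≫
    (P.opcyclesIsCokernel (b - 1) b (by simp)).coconePointUniqueUpToIso
      (colimit.isColimit _)

/-- Criterion for flatness by `Tor_1`. -/
theorem flat_of_tor_one (F : X.Modules)
    (h : ∀ (G : X.Modules) [DCoh.HasLTensorMod G],
      IsZero (DCoh.HD ((DCoh.LTensorMod G).obj (DCoh.inD X F)) (-1))) : FlatMod.IsFlat F := by
  obtain ⟨P, α, hb, hflat, hα⟩ := exists_flat_resolution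
    ((CochainComplex.singleFunctor X.Modules 0).obj F) 0
    (fun i hi => isZero_single_obj_X _ 0 F i (by omega))
  have hP := isKFlat_of_bounded_flat_mod P 0 hb hflat
  have : IsIso (DerivedCategory.Q.map α) := inferInstance
  let e : DCoh.toD X P ≅ DCoh.inD X F :=
    asIso (DerivedCategory.Q.map α) ≪≫ ((DerivedCategory.singleFunctorIsoCompQ X.Modules 0).app F).symm
  have hc := flat_cokernel hP e 0 (hflat 0) fun G _ => h G
  have : IsIso (homologyMap α 0) := (quasiIsoAt_iff_isIso_homologyMap _ _).mp inferInstance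
  exact flat_of_iso ((homologyIsoCokernel P 0 (hb _ (by omega))).symm ≪≫
    asIso (homologyMap α 0) ≪≫ singleObjHomologySelfIso (ComplexShape.up ℤ) 0 F) hc

theorem flatAmplitude_inD {F : X.Modules} (hF : FlatMod.IsFlat F) :
    DCoh.HasFlatAmplitudeIn 0 0 (DCoh.inD X F) := by
  refine ⟨(CochainComplex.singleFunctor X.Modules 0).obj F,
    fun i hi => isZero_single_obj_X _ 0 F i (by omega), fun i => ?_,
    ⟨((DerivedCategory.singleFunctorIsoCompQ X.Modules 0).app F).symm⟩⟩
  by_cases hi : i = 0
  · subst hi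
    exact flat_of_iso (singleObjXSelf (ComplexShape.up ℤ) 0 F).symm hF
  · exact flat_of_isZero (isZero_single_obj_X _ 0 F i hi)

end KFlatLib
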