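import Groth.Prelude.Def_KFlatSite
import Groth.Agent.KFlatLib.StalkTensor
import Groth.Agent.KFlatLib.TotalMap

/-!
# The complex of stalks of a tensor product of complexes
-/

set_option autoImplicit false

universe u

open CategoryTheory CategoryTheory.Limits AlgebraicGeometry MonoidalCategory HomologicalComplex

namespace KFlatLib

variable {X : Scheme.{u}} (x : X)

/-- `(L ⊗ E)_x ≅ L_x ⊗ E_x`. -/
noncomputable def stalkTensorCxIso (L E : CochainComplex X.Modules ℤ) :
    (stalkCx X x).obj L ⊗ (stalkCx X x).obj E ≅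
      (stalkCx X x).obj (((DCoh.tensorCx (X := X)).obj L).obj E) :=
  totalMapIso (DCoh.tensorBi (X := X)) (curriedTensor (ModuleCat.{u} (X.presheaf.stalk x)))
    (DerSch.stalkFunctor X x) (DerSch.stalkFunctor X x) (DerSch.stalkFunctor X x)
    (fun M N => stalkTensorIso M N x)
    (fun f b => stalkTensorIso_natural_left (N := b) x f)
    (fun a _ _ g => stalkTensorIso_natural_right (M := a) x g) L E

theorem stalkTensorCxIso_natural {L L' E E' : CochainComplex X.Modules ℤ} (f : L ⟶ L')
    (g : E ⟶ E') :
    ((stalkCx X x).map f ⊗ₘ (stalkCx X x).map g) ≫ (stalkTensorCxIso x L' E').hom =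
      (stalkTensorCxIso x L E).hom ≫
        (stalkCx X x).map (mapBifunctorMap f g (DCoh.tensorBi (X := X)) (ComplexShape.up ℤ)) :=
  totalMapIso_natural (DCoh.tensorBi (X := X)) (curriedTensor (ModuleCat.{u} (X.presheaf.stalk x)))
    (DerSch.stalkFunctor X x) (DerSch.stalkFunctor X x) (DerSch.stalkFunctor X x)
    (fun M N => stalkTensorIso M N x)
    (fun f b => stalkTensorIso_natural_left (N := b) x f)
    (fun a _ _ g => stalkTensorIso_natural_right (M := a) x g) f g

/-- Acyclicity of a tensor product of complexes, on stalks. -/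
theorem tensor_acyclic_iff (L E : CochainComplex X.Modules ℤ) :
    (∀ i, IsZero ((((DCoh.tensorCx (X := X)).obj L).obj E).homology i)) ↔
      ∀ (x : X) (i : ℤ), IsZero (((stalkCx X x).obj L ⊗ (stalkCx X x).obj E).homology i) := by
  rw [acyclic_iff_stalks]
  exact forall₂_congr fun x i =>
    ((HomologicalComplex.homologyFunctor _ _ i).mapIso (stalkTensorCxIso x L E)).isZero_iff.symm

/-- Stalkwise K-flat complexes are K-flat. -/
theorem isKFlat_of_stalks (E : CochainComplex X.Modules ℤ)
    (h : ∀ x : X, DRing.IsKFlat (X.presheaf.stalk x) ((stalkCx X x).obj E)) : DCoh.IsKFlat E :=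
  fun L hL => (tensor_acyclic_iff L E).mpr fun x => h x _ ((acyclic_iff_stalks L).mp hL x)

end KFlatLib
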