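import Groth.Agent.KFlatLib.AlgMore
import Mathlib.Algebra.Category.ModuleCat.Monoidal.Closed
import Mathlib.Algebra.Category.ModuleCat.FilteredColimits
import Mathlib.CategoryTheory.Limits.ConcreteCategory.Basic
import Mathlib.CategoryTheory.Limits.Preserves.Creates.Finite

/-!
# K-flatness: zero differentials and sequential colimits
-/

set_option autoImplicit false

universe u

open CategoryTheory CategoryTheory.Limits MonoidalCategory HomologicalComplex

namespace KFlatLib

variable {R : Type u} [CommRing R]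

/-- A complex of flat modules with zero differential is K-flat. -/
theorem isKFlat_of_d_eq_zero (K : CochainComplex (ModuleCat.{u} R) ℤ)
    (hd : ∀ i j, K.d i j = 0) (hflat : ∀ i, Module.Flat R (K.X i)) : DRing.IsKFlat R K := by
  intro L hL n
  change IsZero ((tT L K).homology n)
  rw [isZero_homology_iff_exists _ (n - 1) n (n + 1) (by omega) rfl]
  intro z hz
  obtain ⟨s, hs⟩ := exists_sum_proj L K z
  have hι : ∀ (p q m m' : ℤ) (h : p + q = m) (hm : m + 1 = m') (h' : p + 1 + q = m'),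
      ιT L K p q m h ≫ (tT L K).d m m' = L.d p (p + 1) ▷ K.X q ≫ ιT L K (p + 1) q m' h' := by
    intro p q m m' h hm h'
    rw [ιT_d L K p q m m' h hm, hd, MonoidalPreadditive.whiskerLeft_zero, zero_comp, smul_zero,
      add_zero]
  have key : ∀ (p q : ℤ) (h : p + q = n), ∃ y : ↥(L.X (p - 1) ⊗ K.X q),
      ((tT L K).d (n - 1) n).hom ((ιT L K (p - 1) q (n - 1) (by omega)).hom y) =
        (ιT L K p q n h).hom ((proj p q n h).hom z) := by
    intro p q h
    have hcomm : proj (L := L) (K := K) p q n h ≫ L.d p (p + 1) ▷ K.X q =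
        (tT L K).d n (n + 1) ≫ proj (p + 1) q (n + 1) (by omega) := by
      refine mapBifunctor.hom_ext fun p' q' h' => ?_
      have h'' : p' + q' = n := h'
      refine Eq.trans ?_ ((congrArg (· ≫ proj (p + 1) q (n + 1) _)
        (hι p' q' n (n + 1) h' rfl (by omega))).symm.trans (Category.assoc _ _ _))
      rw [Category.assoc]
      by_cases hq : q' = q
      · subst hq
        obtain rfl : p' = p := by omega
        rw [ιT_proj, Category.comp_id, ← Category.assoc]
        exact (congrArg (· ≫ _) (ιT_proj (L := L) (K := K) _ _ _ h')).trans (Category.id_comp _)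
      · rw [ιT_proj_ne _ _ hq, comp_zero, ← Category.assoc]
        exact (congrArg (· ≫ _) (ιT_proj_ne (L := L) (K := K) h h' hq)).trans zero_comp
    have hk : (L.d p (p + 1) ▷ K.X q).hom ((proj p q n h).hom z) = 0 := by
      refine (congr($(hcomm).hom z)).trans ?_
      change (proj _ _ _ _).hom (((tT L K).d n (n + 1)).hom z) = 0
      rw [hz, map_zero]
    have hex : Function.Exact (L.d (p - 1) p).hom (L.d p (p + 1)).hom := by
      intro a
      refine ⟨fun ha => ?_, fun ⟨b, hb⟩ => ?_⟩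
      · exact (isZero_homology_iff_exists L (p - 1) p (p + 1) (by omega) rfl).mp (hL _) a ha
      · rw [← hb]
        exact congr($(L.d_comp_d (p - 1) p (p + 1)).hom b)
    have : Module.Flat R (K.X q) := hflat q
    obtain ⟨y, hy⟩ := (Module.Flat.rTensor_exact (K.X q) hex _).mp hk
    refine ⟨y, ?_⟩
    have gen : ∀ (p' : ℤ) (_ : p' = p) (h₁ : p' + q = n),
        (L.d (p - 1) p' ▷ K.X q ≫ ιT L K p' q n h₁).hom y =
          (ιT L K p q n h).hom ((proj p q n h).hom z) := by
      rintro p' rfl h₁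
      exact congrArg _ hy
    refine Eq.trans ?_ (gen (p - 1 + 1) (by omega) (by omega))
    exact congr($(hι (p - 1) q (n - 1) n (by omega) (by omega) (by omega)).hom y)
  choose y hy using fun q => key (n - q) q (sub_add_cancel n q)
  refine ⟨∑ q ∈ s, (ιT L K (n - q - 1) q (n - 1) (by omega)).hom (y q), ?_⟩
  rw [map_sum]
  exact (Finset.sum_congr rfl fun q _ => hy q).trans (hs s (subset_refl s))

section Colim

variable (S : ℕ ⥤ CochainComplex (ModuleCat.{u} R) ℤ) (c : Cocone S)
  (hc : ∀ q, IsColimit ((eval _ (ComplexShape.up ℤ) q).mapCocone c))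

/-- Tensoring with a module preserves the colimit. -/
noncomputable def isColimitTensor (q : ℤ) (P : ModuleCat.{u} R) :
    IsColimit ((tensorLeft P).mapCocone ((eval _ (ComplexShape.up ℤ) q).mapCocone c)) :=
  haveI : PreservesColimitsOfSize.{0, 0} (tensorLeft P) :=
    preservesColimitsOfSize_shrink.{0, u, 0, u} _
  isColimitOfPreserves _ (hc q)

include hc

theorem exists_rep_component (q : ℤ) (P : ModuleCat.{u} R) (a : ↥(P ⊗ c.pt.X q)) :
    ∃ (j : ℕ) (b : ↥(P ⊗ (S.obj j).X q)), (P ◁ (c.ι.app j).f q).hom b = a := by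
  have : PreservesFilteredColimitsOfSize.{0, 0} (CategoryTheory.forget (ModuleCat.{u} R)) :=
    preservesFilteredColimitsOfSize_shrink.{0, u, 0, u} _
  exact Concrete.isColimit_exists_rep _ (isColimitTensor S c hc q P) a

theorem exists_zero_component (q : ℤ) (P : ModuleCat.{u} R) (j : ℕ)
    (b : ↥(P ⊗ (S.obj j).X q)) (hb : (P ◁ (c.ι.app j).f q).hom b = 0) :
    ∃ (k : ℕ) (hjk : j ≤ k), (P ◁ (S.map (homOfLE hjk)).f q).hom b = 0 := by
  have : PreservesFilteredColimitsOfSize.{0, 0} (CategoryTheory.forget (ModuleCat.{u} R)) :=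
    preservesFilteredColimitsOfSize_shrink.{0, u, 0, u} _
  obtain ⟨k, f, g, hk⟩ := (Concrete.isColimit_rep_eq_iff_exists _ (isColimitTensor S c hc q P)
    (i := j) (j := j) b 0).mp (hb.trans (map_zero _).symm)
  exact ⟨k, leOfHom f, hk.trans (map_zero _)⟩

/-- A sequential colimit of K-flat complexes is K-flat. -/
theorem isKFlat_colim (hS : ∀ j, DRing.IsKFlat R (S.obj j)) : DRing.IsKFlat R c.pt := by
  intro L hL n
  change IsZero ((tT L c.pt).homology n)
  rw [isZero_homology_iff_exists _ (n - 1) n (n + 1) (by omega) rfl]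
  intro z hz
  have hrep : ∀ (m : ℤ) (w : (tT L c.pt).X m), ∃ (j : ℕ) (v : (tT L (S.obj j)).X m),
      ((tMap (𝟙 L) (c.ι.app j)).f m).hom v = w := by
    intro m w
    obtain ⟨s, hs⟩ := exists_sum_proj L c.pt w
    choose j b hb using fun q => exists_rep_component S c hc q (L.X (m - q))
      ((proj (m - q) q m (sub_add_cancel m q)).hom w)
    refine ⟨s.sup j, ∑ q ∈ s.attach, (ιT L (S.obj (s.sup j)) (m - q.1) q.1 m (sub_add_cancel _ _)).hom
      ((L.X (m - q.1) ◁ (S.map (homOfLE (Finset.le_sup q.2))).f q.1).hom (b q.1)), ?_⟩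
    rw [map_sum]
    refine Eq.trans (Finset.sum_congr rfl fun q _ => ?_)
      ((Finset.sum_attach s (fun q => (ιT L c.pt (m - q) q m (sub_add_cancel m q)).hom
        ((proj (m - q) q m (sub_add_cancel m q)).hom w))).trans (hs s (subset_refl s)))
    refine (congr($(ιT_tMap (𝟙 L) (c.ι.app (s.sup j)) (m - q.1) q.1 m (sub_add_cancel _ _)).hom
      ((L.X (m - q.1) ◁ (S.map (homOfLE (Finset.le_sup q.2))).f q.1).hom (b q.1)))).trans
        (congrArg (ιT L c.pt (m - q.1) q.1 m (sub_add_cancel _ _)).hom ?_)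
    refine Eq.trans ?_ (hb q.1)
    have e : L.X (m - q.1) ◁ (S.map (homOfLE (Finset.le_sup q.2 : j q.1 ≤ s.sup j))).f q.1 ≫
        ((𝟙 L : L ⟶ L).f (m - q.1) ⊗ₘ (c.ι.app (s.sup j)).f q.1) =
          L.X (m - q.1) ◁ (c.ι.app (j q.1)).f q.1 := by
      rw [id_f, id_tensorHom, ← whiskerLeft_comp, ← comp_f, c.w]
    exact congr($(e).hom (b q.1))
  have hzero : ∀ (m : ℤ) (j : ℕ) (v : (tT L (S.obj j)).X m),
      ((tMap (𝟙 L) (c.ι.app j)).f m).hom v = 0 →
        ∃ (k : ℕ) (hjk : j ≤ k), ((tMap (𝟙 L) (S.map (homOfLE hjk))).f m).hom v = 0 := by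
    intro m j v hv
    obtain ⟨s, hs⟩ := exists_sum_proj L (S.obj j) v
    have hcomp : ∀ q, (L.X (m - q) ◁ (c.ι.app j).f q).hom
        ((proj (m - q) q m (sub_add_cancel m q)).hom v) = 0 := by
      intro q
      have e := congr($(tMap_proj (𝟙 L) (c.ι.app j) (m - q) q m (sub_add_cancel m q)).hom v)
      rw [id_f, id_tensorHom] at e
      refine e.symm.trans ?_
      change (proj _ _ _ _).hom (((tMap (𝟙 L) (c.ι.app j)).f m).hom v) = 0
      rw [hv, map_zero]
    choose k hk hkz using fun q => exists_zero_component S c hc q _ j _ (hcomp q)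
    refine ⟨max j (s.sup k), le_max_left _ _, ?_⟩
    rw [← hs s (subset_refl s), map_sum]
    refine Finset.sum_eq_zero fun q hq => ?_
    refine (congr($(ιT_tMap (𝟙 L) (S.map (homOfLE (le_max_left j (s.sup k)))) (m - q) q m
      (sub_add_cancel m q)).hom ((proj (m - q) q m (sub_add_cancel m q)).hom v))).trans ?_
    refine (congrArg (ιT L (S.obj (max j (s.sup k))) (m - q) q m (sub_add_cancel m q)).hom
      ?_).trans (map_zero _)
    have e : (𝟙 L : L ⟶ L).f (m - q) ⊗ₘ (S.map (homOfLE (le_max_left j (s.sup k)))).f q =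
        L.X (m - q) ◁ (S.map (homOfLE (hk q))).f q ≫ L.X (m - q) ◁
          (S.map (homOfLE ((Finset.le_sup hq).trans (le_max_right j _) :
            k q ≤ max j (s.sup k)))).f q := by
      rw [id_f, id_tensorHom, ← whiskerLeft_comp, ← comp_f, ← S.map_comp]
      rfl
    refine (congr($(e).hom _)).trans ?_
    exact (congrArg _ (hkz q)).trans (map_zero _)
  obtain ⟨j, v, rfl⟩ := hrep n z
  have hdv : ((tMap (𝟙 L) (c.ι.app j)).f (n + 1)).hom (((tT L (S.obj j)).d n (n + 1)).hom v) = 0 :=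
    (congr($((tMap (𝟙 L) (c.ι.app j)).comm n (n + 1)).hom v)).symm.trans hz
  obtain ⟨k, hjk, hk⟩ := hzero (n + 1) j _ hdv
  obtain ⟨y, hy⟩ := (isZero_homology_iff_exists (tT L (S.obj k)) (n - 1) n (n + 1) (by omega) rfl).mp
    (hS k L hL n) (((tMap (𝟙 L) (S.map (homOfLE hjk))).f n).hom v)
    ((congr($((tMap (𝟙 L) (S.map (homOfLE hjk))).comm n (n + 1)).hom v)).trans hk)
  refine ⟨((tMap (𝟙 L) (c.ι.app k)).f (n - 1)).hom y, ?_⟩
  refine (congr($((tMap (𝟙 L) (c.ι.app k)).comm (n - 1) n).hom y)).trans ?_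
  change ((tMap (𝟙 L) (c.ι.app k)).f n).hom (((tT L (S.obj k)).d (n - 1) n).hom y) = _
  rw [hy]
  have e : (tMap (𝟙 L) (S.map (homOfLE hjk))).f n ≫ (tMap (𝟙 L) (c.ι.app k)).f n =
      (tMap (𝟙 L) (c.ι.app j)).f n := by
    refine mapBifunctor.hom_ext fun p q h => ?_
    refine ((Category.assoc _ _ _).symm.trans
      (congrArg (· ≫ _) (ιT_tMap (𝟙 L) (S.map (homOfLE hjk)) p q n h))).trans ?_
    refine ((Category.assoc _ _ _).trans
      (congrArg (_ ≫ ·) (ιT_tMap (𝟙 L) (c.ι.app k) p q n h))).trans ?_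
    rw [← Category.assoc, tensorHom_comp_tensorHom, ← comp_f, ← comp_f, Category.id_comp, c.w]
    exact (ιT_tMap (𝟙 L) (c.ι.app j) p q n h).symm
  exact congr($(e).hom v)

/-- A sequential colimit of flat modules is flat. -/
theorem flat_colim (q : ℤ) (hS : ∀ j, Module.Flat R ((S.obj j).X q)) :
    Module.Flat R (c.pt.X q) := by
  rw [Module.Flat.iff_rTensor_preserves_injective_linearMapₛ]
  intro N N' _ _ _ _ f hf
  let _ : AddCommGroup N := Module.addCommMonoidToAddCommGroup R
  let _ : AddCommGroup N' := Module.addCommMonoidToAddCommGroup R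
  rw [injective_iff_map_eq_zero]
  intro a ha
  obtain ⟨j, b, rfl⟩ := exists_rep_component S c hc q (ModuleCat.of R N) a
  have hnat := congr($(whisker_exchange (ModuleCat.ofHom f) ((c.ι.app j).f q)).hom b)
  obtain ⟨k, hjk, hk⟩ := exists_zero_component S c hc q (ModuleCat.of R N') j
    ((ModuleCat.ofHom f ▷ (S.obj j).X q).hom b) (hnat.symm.trans ha)
  have : Module.Flat R ((S.obj k).X q) := hS k
  have hnat' := congr($(whisker_exchange (ModuleCat.ofHom f) ((S.map (homOfLE hjk)).f q)).hom b)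
  have hinj := Module.Flat.rTensor_preserves_injective_linearMap (M := (S.obj k).X q) f hf
  have h0 : (ModuleCat.of R N ◁ (S.map (homOfLE hjk)).f q).hom b = 0 :=
    hinj ((hnat'.trans hk).trans (map_zero _).symm)
  have e : ModuleCat.of R N ◁ (S.map (homOfLE hjk)).f q ≫ ModuleCat.of R N ◁ (c.ι.app k).f q =
      ModuleCat.of R N ◁ (c.ι.app j).f q := by
    rw [← whiskerLeft_comp, ← comp_f, c.w]
  exact (congr($(e).hom b)).symm.trans ((congrArg _ h0).trans (map_zero _))

end Colim

end KFlatLib
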