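import Groth.Agent.KFlatLib.FreeOpen
import Groth.Agent.KFlatLib.AlgColim
import Groth.Agent.KFlatLib.DCohBasic
import Mathlib.CategoryTheory.Functor.OfSequence
import Mathlib.Algebra.Homology.HomotopyCategory.DegreewiseSplit
import Mathlib.Algebra.Homology.HomotopyCategory.Pretriangulated
import Mathlib.CategoryTheory.Limits.FunctorCategory.Basic

/-!
# Functorial K-flat resolutions
-/

set_option autoImplicit false

universe u

open CategoryTheory CategoryTheory.Limits AlgebraicGeometry TopologicalSpace HomologicalComplex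
open CochainComplex (mappingCone)
open CochainComplex.HomComplex

namespace KFlatLib

variable {X : Scheme.{u}}

section Cover

/-- Indices of the free cover of a module: its sections. -/
abbrev SecIdx (M : X.Modules) : Type u := Σ U : X.Opens, Γ(M, U)

/-- A functorial cover by free modules on open subsets. -/
noncomputable def cover : X.Modules ⥤ X.Modules where
  obj M := ∐ fun i : SecIdx M => freeU i.1
  map {M N} f := Sigma.desc fun i => Sigma.ι (fun j : SecIdx N => freeU j.1) ⟨i.1, f.app i.1 i.2⟩
  map_id M := Sigma.hom_ext _ _ fun i => by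
    rw [Sigma.ι_desc, Category.comp_id]
    rfl
  map_comp {M N P} f g := Sigma.hom_ext _ _ fun i => by
    rw [Sigma.ι_desc, ← Category.assoc, Sigma.ι_desc, Sigma.ι_desc]
    rfl

theorem ι_cover_map {M N : X.Modules} (f : M ⟶ N) (i : SecIdx M) :
    Sigma.ι (fun j : SecIdx M => freeU j.1) i ≫ (cover.map f) =
      Sigma.ι (fun j : SecIdx N => freeU j.1) ⟨i.1, f.app i.1 i.2⟩ := by
  exact Sigma.ι_desc _ _

/-- The covering map. -/
noncomputable def coverπ : cover (X := X) ⟶ 𝟭 _ where
  app M := Sigma.desc fun i => secMap i.2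
  naturality {M N} f := Sigma.hom_ext _ _ fun i => by
    refine ((Category.assoc _ _ _).symm.trans
      (congrArg (· ≫ Sigma.desc fun j : SecIdx N => secMap j.2) (ι_cover_map f i))).trans ?_
    refine (Sigma.ι_desc _ _).trans ?_
    refine Eq.trans ?_ ((congrArg (· ≫ f) (Sigma.ι_desc (fun j : SecIdx M => secMap j.2) i).symm).trans
      (Category.assoc _ _ _))
    exact (secMap_comp i.2 f).symm

instance epi_coverπ (M : X.Modules) : Epi ((coverπ (X := X)).app M) := by
  constructor
  intro N a b h
  refine Scheme.Modules.hom_ext _ _ fun U => ?_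
  ext s
  have h' := congr_arg (fun t => Sigma.ι (fun i : SecIdx M => freeU i.1) ⟨U, s⟩ ≫ t) h
  have e : Sigma.ι (fun i : SecIdx M => freeU i.1) ⟨U, s⟩ ≫ (coverπ (X := X)).app M = secMap s :=
    Sigma.ι_desc _ _
  replace h' : secMap s ≫ a = secMap s ≫ b :=
    ((congrArg (· ≫ a) e.symm).trans (Category.assoc _ _ _)).trans
      (h'.trans ((congrArg (· ≫ b) e.symm).trans (Category.assoc _ _ _)).symm)
  rw [secMap_comp, secMap_comp] at h'
  exact (freeUEquiv U N).symm.injective h'

theorem cover_flat (M : X.Modules) : FlatMod.IsFlat (cover.obj M) :=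
  fun x => flat_stalk_sigma (fun i : SecIdx M => i.1) x

end Cover

/-- A complex with zero differential. -/
noncomputable def zeroCx (A : ℤ → X.Modules) : CochainComplex X.Modules ℤ where
  X := A
  d _ _ := 0

/-- A map of complexes with zero differentials. -/
noncomputable def zeroCxMap {A B : ℤ → X.Modules} (f : ∀ n, A n ⟶ B n) : zeroCx A ⟶ zeroCx B where
  f := f
  comm' _ _ _ := by
    change f _ ≫ (0 : B _ ⟶ B _) = (0 : A _ ⟶ A _) ≫ f _
    rw [comp_zero, zero_comp]

theorem cone_map_congr {K₁ L₁ K₂ L₂ : CochainComplex X.Modules ℤ} {φ₁ : K₁ ⟶ L₁} {φ₂ : K₂ ⟶ L₂}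
    {a a' : K₁ ⟶ K₂} {b b' : L₁ ⟶ L₂} (ha : a = a') (hb : b = b') (h : φ₁ ≫ b = a ≫ φ₂)
    (h' : φ₁ ≫ b' = a' ≫ φ₂) :
    CochainComplex.mappingCone.map φ₁ φ₂ a b h = CochainComplex.mappingCone.map φ₁ φ₂ a' b' h' := by
  subst ha hb
  rfl

/-- A stage of the resolution. -/
structure Stg (X : Scheme.{u}) where
  /-- the functor -/
  P : CochainComplex X.Modules ℤ ⥤ CochainComplex X.Modules ℤ
  /-- the map to the identity -/
  π : P ⟶ 𝟭 _

section Base

variable (G : CochainComplex X.Modules ℤ)

/-- The generators of the base stage. -/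
noncomputable abbrev baseObj : CochainComplex X.Modules ℤ :=
  zeroCx fun p => cover.obj (G.X (p - 1))

/-- The generators hit their section. -/
noncomputable def baseα : Cochain (baseObj G) G (-1) :=
  Cochain.mk fun p q h => (coverπ (X := X)).app (G.X (p - 1)) ≫
    (G.XIsoOfEq (show p - 1 = q by omega)).hom

/-- The differentials of the sections. -/
noncomputable def baseβ : baseObj G ⟶ G where
  f p := (coverπ (X := X)).app (G.X (p - 1)) ≫ G.d (p - 1) p
  comm' p q _ := by
    change (_ ≫ _) ≫ _ = (0 : (baseObj G).X p ⟶ (baseObj G).X q) ≫ _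
    rw [zero_comp, Category.assoc, G.d_comp_d, comp_zero]

theorem baseα_δ : δ (-1) 0 (baseα G) = Cochain.ofHom (𝟙 (baseObj G) ≫ baseβ G) := by
  ext p : 1
  rw [δ_v (-1) 0 (by omega) (baseα G) p p (add_zero p) (p - 1) (p + 1) (by omega) rfl,
    Category.id_comp, Cochain.ofHom_v]
  rw [show (baseObj G).d p (p + 1) = 0 from rfl, zero_comp, smul_zero, add_zero, baseα,
    Cochain.mk_v, XIsoOfEq_rfl, Iso.refl_hom]
  exact congrArg (· ≫ G.d (p - 1) p) (Category.comp_id _)

/-- The map of generators. -/
noncomputable def baseMap {G' : CochainComplex X.Modules ℤ} (f : G ⟶ G') :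
    baseObj G ⟶ baseObj G' :=
  zeroCxMap fun p => cover.map (f.f (p - 1))

theorem baseMap_id : baseMap G (𝟙 G) = 𝟙 _ := by
  ext p : 1
  exact cover.map_id _

theorem baseMap_comp {G' G'' : CochainComplex X.Modules ℤ} (f : G ⟶ G') (g : G' ⟶ G'') :
    baseMap G (f ≫ g) = baseMap G f ≫ baseMap G' g := by
  ext p : 1
  exact cover.map_comp _ _

/-- The base stage: contractible, and degreewise surjective. -/
noncomputable def baseπ : mappingCone (𝟙 (baseObj G)) ⟶ G :=
  CochainComplex.mappingCone.desc _ (baseα G) (baseβ G) (baseα_δ G)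

end Base

/-- The first stage. -/
noncomputable def base : Stg X where
  P :=
  { obj G := mappingCone (𝟙 (baseObj G))
    map {G G'} f := CochainComplex.mappingCone.map _ _ (baseMap G f) (baseMap G f)
      (by rw [Category.id_comp, Category.comp_id])
    map_id G := (cone_map_congr (baseMap_id G) (baseMap_id G) _
      (by rw [Category.id_comp])).trans (CochainComplex.mappingCone.map_id _)
    map_comp {G G' G''} f g := (cone_map_congr (baseMap_comp G f g) (baseMap_comp G f g) _
      (by rw [Category.id_comp, Category.comp_id])).trans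
        (CochainComplex.mappingCone.map_comp _ _ _ _ _ _ _ _ _) }
  π :=
  { app G := baseπ G
    naturality {G G'} f := by
      ext n : 1
      refine (CochainComplex.mappingCone.ext_from_iff (𝟙 (baseObj G)) (n + 1) n rfl _ _).mpr ⟨?_, ?_⟩
      · simp only [comp_f, CochainComplex.mappingCone.map, baseπ, Functor.id_map,
          CochainComplex.mappingCone.inl_v_desc_f_assoc, Cochain.comp_v _ _ _ (n + 1) (n + 1) n
            (show (n + 1) + (0 : ℤ) = n + 1 from add_zero _) (show (n + 1) + (-1 : ℤ) = n by omega), Cochain.ofHom_v, Category.assoc,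
          CochainComplex.mappingCone.inl_v_desc_f]
        change cover.map (f.f (n + 1 - 1)) ≫ (coverπ (X := X)).app _ ≫ _ =
          ((coverπ (X := X)).app _ ≫ _) ≫ f.f n
        rw [← Category.assoc, (coverπ (X := X)).naturality, Category.assoc, Category.assoc]
        congr 1
        obtain ⟨m, rfl⟩ : ∃ m, m = n + 1 - 1 := ⟨_, rfl⟩
        exact (HomologicalComplex.XIsoOfEq_hom_naturality f (show n + 1 - 1 = n by omega))
      · simp only [comp_f, CochainComplex.mappingCone.map, baseπ, Functor.id_map,
          CochainComplex.mappingCone.inr_f_desc_f_assoc, Category.assoc,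
          CochainComplex.mappingCone.inr_f_desc_f]
        change cover.map (f.f (n - 1)) ≫ (coverπ (X := X)).app _ ≫ _ =
          ((coverπ (X := X)).app _ ≫ _) ≫ f.f n
        rw [← Category.assoc, (coverπ (X := X)).naturality, Category.assoc, Category.assoc,
          Functor.id_map, f.comm] }

section Step

variable (s : Stg X) (G : CochainComplex X.Modules ℤ)

/-- Cycles of a stage killed by the map to `G`. -/
noncomputable abbrev zq (n : ℤ) : X.Modules :=
  kernel (biprod.lift ((s.P.obj G).d n (n + 1)) ((s.π.app G).f n))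

/-- The generators of the next stage. -/
noncomputable abbrev stepObj : CochainComplex X.Modules ℤ :=
  zeroCx fun n => cover.obj (zq s G n)

theorem zq_ι_d (n m : ℤ) : kernel.ι (biprod.lift ((s.P.obj G).d n (n + 1)) ((s.π.app G).f n)) ≫
    (s.P.obj G).d n m = 0 := by
  by_cases h : n + 1 = m
  · subst h
    have := congr_arg (· ≫ biprod.fst) (kernel.condition
      (biprod.lift ((s.P.obj G).d n (n + 1)) ((s.π.app G).f n)))
    simpa only [Category.assoc, biprod.lift_fst, zero_comp] using this
  · rw [(s.P.obj G).shape n m h, comp_zero]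

theorem zq_ι_π (n : ℤ) : kernel.ι (biprod.lift ((s.P.obj G).d n (n + 1)) ((s.π.app G).f n)) ≫
    (s.π.app G).f n = 0 := by
  have := congr_arg (· ≫ biprod.snd) (kernel.condition
    (biprod.lift ((s.P.obj G).d n (n + 1)) ((s.π.app G).f n)))
  simpa only [Category.assoc, biprod.lift_snd, zero_comp] using this

/-- The attaching map. -/
noncomputable def stepφ : stepObj s G ⟶ s.P.obj G where
  f n := (coverπ (X := X)).app (zq s G n) ≫ kernel.ι _
  comm' p q _ := by
    change (_ ≫ _) ≫ _ = (0 : (stepObj s G).X p ⟶ (stepObj s G).X q) ≫ _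
    rw [zero_comp, Category.assoc, zq_ι_d, comp_zero]

theorem stepφ_π : stepφ s G ≫ s.π.app G = 0 := by
  ext n : 1
  change (_ ≫ _) ≫ _ = 0
  rw [Category.assoc, zq_ι_π, comp_zero]

/-- Functoriality of the generators. -/
noncomputable def stepMap {G' : CochainComplex X.Modules ℤ} (f : G ⟶ G') :
    stepObj s G ⟶ stepObj s G' :=
  zeroCxMap fun n => cover.map (kernel.map _ _ ((s.P.map f).f n)
    (biprod.map ((s.P.map f).f (n + 1)) (f.f n)) (by
      apply biprod.hom_ext
      · simp only [Category.assoc, biprod.map_fst, biprod.lift_fst, biprod.lift_fst_assoc]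
        exact ((s.P.map f).comm n (n + 1)).symm
      · simp only [Category.assoc, biprod.map_snd, biprod.lift_snd, biprod.lift_snd_assoc]
        exact (congr($(s.π.naturality f).f n)).symm))

theorem stepMap_id : stepMap s G (𝟙 G) = 𝟙 _ := by
  ext n : 1
  refine (congrArg cover.map ?_).trans (cover.map_id _)
  apply (cancel_mono (kernel.ι _)).mp
  rw [kernel.lift_ι, s.P.map_id, id_f, Category.id_comp]
  exact Category.comp_id _

theorem stepMap_comp {G' G'' : CochainComplex X.Modules ℤ} (f : G ⟶ G') (g : G' ⟶ G'') :
    stepMap s G (f ≫ g) = stepMap s G f ≫ stepMap s G' g := by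
  ext n : 1
  refine (congrArg cover.map ?_).trans (cover.map_comp _ _)
  apply (cancel_mono (kernel.ι _)).mp
  rw [kernel.lift_ι, Category.assoc, kernel.lift_ι, kernel.lift_ι_assoc, s.P.map_comp, comp_f,
    Category.assoc]

theorem stepMap_φ {G' : CochainComplex X.Modules ℤ} (f : G ⟶ G') :
    stepφ s G ≫ s.P.map f = stepMap s G f ≫ stepφ s G' := by
  ext n : 1
  change (_ ≫ _) ≫ _ = cover.map _ ≫ _ ≫ _
  rw [← Category.assoc (cover.map _), (coverπ (X := X)).naturality, Category.assoc, Category.assoc,
    Functor.id_map, kernel.lift_ι]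

/-- The map of the next stage. -/
noncomputable def stepπ : mappingCone (stepφ s G) ⟶ G :=
  CochainComplex.mappingCone.desc _ 0 (s.π.app G)
    (by rw [δ_zero, stepφ_π, Cochain.ofHom_zero])

end Step

/-- The next stage. -/
noncomputable def next (s : Stg X) : Stg X where
  P :=
  { obj G := mappingCone (stepφ s G)
    map {G G'} f := CochainComplex.mappingCone.map _ _ (stepMap s G f) (s.P.map f) (stepMap_φ s G f)
    map_id G := (cone_map_congr (stepMap_id s G) (s.P.map_id G) _
      (by rw [Category.id_comp, Category.comp_id])).trans (CochainComplex.mappingCone.map_id _)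
    map_comp {G G' G''} f g := (cone_map_congr (stepMap_comp s G f g) (s.P.map_comp f g) _
      (by rw [reassoc_of% (stepMap_φ s G f), stepMap_φ s G' g, Category.assoc])).trans
        (CochainComplex.mappingCone.map_comp _ _ _ _ _ _ _ _ _) }
  π :=
  { app G := stepπ s G
    naturality {G G'} f := by
      ext n : 1
      refine (CochainComplex.mappingCone.ext_from_iff (stepφ s G) (n + 1) n rfl _ _).mpr ⟨?_, ?_⟩
      · simp only [comp_f, CochainComplex.mappingCone.map, stepπ, Functor.id_map,
          CochainComplex.mappingCone.inl_v_desc_f_assoc, Cochain.comp_v _ _ _ (n + 1) (n + 1) n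
            (show (n + 1) + (0 : ℤ) = n + 1 from add_zero _) (show (n + 1) + (-1 : ℤ) = n by omega), Cochain.ofHom_v, Category.assoc,
          CochainComplex.mappingCone.inl_v_desc_f, Cochain.zero_v, comp_zero, zero_comp]
      · simp only [comp_f, CochainComplex.mappingCone.map, stepπ, Functor.id_map,
          CochainComplex.mappingCone.inr_f_desc_f_assoc, Category.assoc,
          CochainComplex.mappingCone.inr_f_desc_f]
        exact congr($(s.π.naturality f).f n) }

/-- The inclusion of a stage in the next one. -/
noncomputable def nextι (s : Stg X) : s.P ⟶ (next s).P where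
  app G := CochainComplex.mappingCone.inr (stepφ s G)
  naturality {G G'} f := by
    ext n : 1
    simp only [next, comp_f, CochainComplex.mappingCone.map,
      CochainComplex.mappingCone.inr_f_desc_f]

theorem nextι_π (s : Stg X) : nextι s ≫ (next s).π = s.π := by
  ext G : 2
  ext n : 1
  change (CochainComplex.mappingCone.inr (stepφ s G)).f n ≫ (stepπ s G).f n = _
  rw [stepπ, CochainComplex.mappingCone.inr_f_desc_f]

/-- The stages. -/
noncomputable def stg : ℕ → Stg X
  | 0 => base
  | n + 1 => next (stg n)

/-- The tower. -/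
noncomputable def tower : ℕ ⥤ (CochainComplex X.Modules ℤ ⥤ CochainComplex X.Modules ℤ) :=
  Functor.ofSequence (X := fun n => (stg (X := X) n).P) fun n => nextι (stg n)

/-- The cocone to the identity. -/
noncomputable def towerCocone : Cocone (tower (X := X)) where
  pt := 𝟭 _
  ι := NatTrans.ofSequence (fun n => (stg (X := X) n).π) (fun n => by
    refine Eq.trans ?_ (Category.comp_id _).symm
    refine Eq.trans ?_ (nextι_π (stg n))
    exact congrArg (· ≫ (stg (n + 1)).π) (Functor.ofSequence_map_homOfLE_succ _ n))

/-- The functorial resolution. -/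
noncomputable def resP (X : Scheme.{u}) :
    CochainComplex X.Modules ℤ ⥤ CochainComplex X.Modules ℤ :=
  colimit (tower (X := X))

/-- The map of the resolution. -/
noncomputable def resψ (X : Scheme.{u}) : resP X ⟶ 𝟭 _ :=
  colimit.desc (tower (X := X)) (towerCocone (X := X))

end KFlatLib
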